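import Mathlib

set_option autoImplicit false
set_option linter.style.haveILetI false

namespace Groth.Agent.H78.SF

open TensorProduct

universe u

/-- cancellation form of "epimorphism of commutative rings" (test rings in the same universe) -/
def IsEpiHom {A B : Type u} [CommRing A] [CommRing B] (f : A →+* B) : Prop :=
  ∀ (T : Type u) [CommRing T] (g₁ g₂ : B →+* T), g₁.comp f = g₂.comp f → g₁ = g₂

lemma IsEpiHom.isEpi {A B : Type u} [CommRing A] [CommRing B] [Algebra A B]
    (h : IsEpiHom (algebraMap A B)) : Algebra.IsEpi A B := by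
  rw [Algebra.isEpi_iff_forall_one_tmul_eq]
  intro b
  have := h (B ⊗[A] B) (Algebra.TensorProduct.includeRight (R := A) (A := B) (B := B)).toRingHom
    (Algebra.TensorProduct.includeLeftRingHom)
    (by
      ext r
      show (1 : B) ⊗ₜ[A] algebraMap A B r = algebraMap A B r ⊗ₜ[A] (1 : B)
      simp only [Algebra.algebraMap_eq_smul_one, smul_tmul])
  exact RingHom.congr_fun this b

lemma IsEpiHom.comp {A B C : Type u} [CommRing A] [CommRing B] [CommRing C] {f : A →+* B}
    {g : B →+* C} (hf : IsEpiHom f) (hg : IsEpiHom g) : IsEpiHom (g.comp f) := by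
  intro T _ g₁ g₂ e
  apply hg
  apply hf
  rw [RingHom.comp_assoc, RingHom.comp_assoc]
  exact e

lemma IsEpiHom.of_comp {A B C : Type u} [CommRing A] [CommRing B] [CommRing C] {f : A →+* B}
    {g : B →+* C} (h : IsEpiHom (g.comp f)) : IsEpiHom g := by
  intro T _ g₁ g₂ e
  apply h
  rw [← RingHom.comp_assoc, ← RingHom.comp_assoc, e]

lemma IsEpiHom.of_isLocalization {A B : Type u} [CommRing A] [CommRing B] [Algebra A B]
    (M : Submonoid A) [IsLocalization M B] : IsEpiHom (algebraMap A B) := by
  intro T _ g₁ g₂ e
  exact IsLocalization.ringHom_ext M e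

lemma IsEpiHom.of_surjective {A B : Type u} [CommRing A] [CommRing B] (f : A →+* B)
    (hf : Function.Surjective f) : IsEpiHom f := by
  intro T _ g₁ g₂ e
  ext b
  obtain ⟨a, rfl⟩ := hf b
  exact RingHom.congr_fun e a

/-- a faithfully flat epimorphism is bijective -/
theorem bijective_of_faithfullyFlat_of_isEpi {C D : Type u} [CommRing C] [CommRing D]
    [Algebra C D] [Module.FaithfullyFlat C D] [Algebra.IsEpi C D] :
    Function.Bijective (algebraMap C D) := by
  refine ⟨FaithfulSMul.algebraMap_injective C D, ?_⟩
  have hsurj : Function.Surjective ((Algebra.linearMap C D).lTensor D) := by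
    intro x
    have h' : ∀ x : D ⊗[C] D, ∃ a : D, x = a ⊗ₜ 1 := by
      intro x
      induction x using TensorProduct.induction_on with
      | zero => exact ⟨0, by simp⟩
      | tmul u v =>
        refine ⟨u * v, ?_⟩
        calc u ⊗ₜ[C] v = u ⊗ₜ[C] 1 * 1 ⊗ₜ[C] v := by simp
          _ = u ⊗ₜ[C] 1 * v ⊗ₜ[C] 1 := by
              rw [(Algebra.isEpi_iff_forall_one_tmul_eq C D).mp inferInstance v]
          _ = (u * v) ⊗ₜ[C] 1 := by simp
      | add u v hu hv =>
        obtain ⟨u, rfl⟩ := hu
        obtain ⟨v, rfl⟩ := hv
        exact ⟨u + v, by simp [add_tmul]⟩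
    obtain ⟨a, rfl⟩ := h' x
    refine ⟨a ⊗ₜ 1, ?_⟩
    simp
  have := (Module.FaithfullyFlat.lTensor_surjective_iff_surjective C D
    (Algebra.linearMap C D)).mp hsurj
  exact this

/-- For a flat epimorphism of rings, the induced maps on local rings are bijective. -/
theorem localRingHom_bijective_of_flat_epi {A B : Type u} [CommRing A] [CommRing B]
    (f : A →+* B) (hf : f.Flat) (he : IsEpiHom f) (P : Ideal B) [P.IsPrime] :
    Function.Bijective (Localization.localRingHom (P.comap f) P f rfl) := by
  set φ := Localization.localRingHom (P.comap f) P f rfl with hφ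
  have hflat : φ.Flat := hf.localRingHom P (P.comap f) rfl
  have hloc : IsLocalHom φ := Localization.isLocalHom_localRingHom _ _ _ _
  have hepi : IsEpiHom φ := by
    have h1 : IsEpiHom ((algebraMap B (Localization.AtPrime P)).comp f) :=
      he.comp (IsEpiHom.of_isLocalization P.primeCompl)
    have h2 : (algebraMap B (Localization.AtPrime P)).comp f =
        φ.comp (algebraMap A (Localization.AtPrime (P.comap f))) := by
      ext a
      exact (Localization.localRingHom_to_map _ _ _ rfl a).symm
    rw [h2] at h1
    exact h1.of_comp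
  letI : Algebra (Localization.AtPrime (P.comap f)) (Localization.AtPrime P) := φ.toAlgebra
  haveI : Module.Flat (Localization.AtPrime (P.comap f)) (Localization.AtPrime P) := hflat
  haveI : IsLocalHom (algebraMap (Localization.AtPrime (P.comap f)) (Localization.AtPrime P)) :=
    hloc
  haveI : Module.FaithfullyFlat (Localization.AtPrime (P.comap f)) (Localization.AtPrime P) :=
    Module.FaithfullyFlat.of_flat_of_isLocalHom
  haveI : Algebra.IsEpi (Localization.AtPrime (P.comap f)) (Localization.AtPrime P) :=
    IsEpiHom.isEpi hepi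
  exact bijective_of_faithfullyFlat_of_isEpi

end Groth.Agent.H78.SF
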