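import Mathlib
import Groth.Prelude.Def_SchFin

set_option autoImplicit false
set_option linter.style.haveILetI false

namespace Groth.Agent.H78.SF

open SchFin TensorProduct

universe u

section
variable {R S : Type u} [CommRing R] [CommRing S] (g : R →+* S) {M N : Type u}
    [AddCommGroup M] [AddCommGroup N] [Module R M] [Module S N] (f : M →ₛₗ[g] N)

/-- universal property of `IsBCAlong`, in semilinear form -/
theorem IsBCAlong.exists_lift (hf : IsBCAlong g f) {Q : Type*} [AddCommGroup Q] [Module S Q]
    (γ : M →+ Q) (hγ : ∀ (r : R) (m : M), γ (r • m) = g r • γ m) :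
    ∃ L : N →ₗ[S] Q, ∀ m, L (f m) = γ m := by
  letI : Algebra R S := g.toAlgebra
  letI : Module R N := Module.compHom N g
  haveI : IsScalarTower R S N := IsScalarTower.of_algebraMap_smul fun _ _ => rfl
  letI : Module R Q := Module.compHom Q g
  haveI : IsScalarTower R S Q := IsScalarTower.of_algebraMap_smul fun _ _ => rfl
  have hf' : IsBaseChange S
      ({ toFun := f, map_add' := f.map_add, map_smul' := f.map_smulₛₗ } : M →ₗ[R] N) := hf
  let γ' : M →ₗ[R] Q := { toFun := γ, map_add' := γ.map_add, map_smul' := fun r m => hγ r m }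
  exact ⟨hf'.lift γ', fun m => hf'.lift_eq γ' m⟩

/-- uniqueness part of the universal property of `IsBCAlong` -/
theorem IsBCAlong.hom_ext (hf : IsBCAlong g f) {Q : Type*} [AddCommGroup Q] [Module S Q]
    (L₁ L₂ : N →ₗ[S] Q) (h : ∀ m, L₁ (f m) = L₂ (f m)) : L₁ = L₂ := by
  letI : Algebra R S := g.toAlgebra
  letI : Module R N := Module.compHom N g
  haveI : IsScalarTower R S N := IsScalarTower.of_algebraMap_smul fun _ _ => rfl
  have hf' : IsBaseChange S
      ({ toFun := f, map_add' := f.map_add, map_smul' := f.map_smulₛₗ } : M →ₗ[R] N) := hf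
  exact hf'.algHom_ext L₁ L₂ h

/-- induction principle for the target of an `IsBCAlong` map -/
theorem IsBCAlong.induction_on (hf : IsBCAlong g f) {motive : N → Prop} (zero : motive 0)
    (base : ∀ m, motive (f m)) (smul : ∀ (s : S) (n : N), motive n → motive (s • n))
    (add : ∀ n₁ n₂, motive n₁ → motive n₂ → motive (n₁ + n₂)) (x : N) : motive x := by
  letI : Algebra R S := g.toAlgebra
  letI : Module R N := Module.compHom N g
  haveI : IsScalarTower R S N := IsScalarTower.of_algebraMap_smul fun _ _ => rfl
  have hf' : IsBaseChange S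
      ({ toFun := f, map_add' := f.map_add, map_smul' := f.map_smulₛₗ } : M →ₗ[R] N) := hf
  exact hf'.inductionOn x motive zero base smul add

end

end Groth.Agent.H78.SF
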