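import Mathlib
import Groth.Prelude.Def_SchFin
import Groth.Agent.H78.SchFin.BC
import Groth.Agent.H78.SchFin.FlatEpi

set_option autoImplicit false
set_option linter.style.haveILetI false

namespace Groth.Agent.H78.SF

open SchFin TensorProduct

universe u

section
variable {R S : Type u} [CommRing R] [CommRing S] (g : R →+* S) {M N : Type u}
    [AddCommGroup M] [AddCommGroup N] [Module R M] [Module S N] (f : M →ₛₗ[g] N)

/-- a bijective semilinear map over an epimorphism is a base change -/
theorem IsBCAlong.of_bijective_of_epi (hg : IsEpiHom g) (hf : Function.Bijective f) :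
    IsBCAlong g f := by
  letI : Algebra R S := g.toAlgebra
  letI : Module R N := Module.compHom N g
  haveI : IsScalarTower R S N := IsScalarTower.of_algebraMap_smul fun _ _ => rfl
  haveI : Algebra.IsEpi R S := IsEpiHom.isEpi hg
  let f' : M →ₗ[R] N := { toFun := f, map_add' := f.map_add, map_smul' := f.map_smulₛₗ }
  show IsBaseChange S f'
  let fe : M ≃ₗ[R] N := LinearEquiv.ofBijective f' hf
  exact IsBaseChange.of_equiv
    ((TensorProduct.AlgebraTensorModule.congr (LinearEquiv.refl S S) fe).trans
      (TensorProduct.lid' R S N)) (fun x => by simp [fe, f'])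

/-- a semilinear map to a trivial module is a base change when the base change of the source
is trivial -/
theorem IsBCAlong.of_subsingleton [Subsingleton N]
    (h0 : letI : Algebra R S := g.toAlgebra; Subsingleton (S ⊗[R] M)) : IsBCAlong g f := by
  letI : Algebra R S := g.toAlgebra
  letI : Module R N := Module.compHom N g
  haveI : IsScalarTower R S N := IsScalarTower.of_algebraMap_smul fun _ _ => rfl
  haveI : Subsingleton (S ⊗[R] M) := h0
  let f' : M →ₗ[R] N := { toFun := f, map_add' := f.map_add, map_smul' := f.map_smulₛₗ }
  show IsBaseChange S f'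
  refine ⟨fun a b _ => Subsingleton.elim a b, fun n => ⟨0, Subsingleton.elim _ _⟩⟩

/-- a semilinear map between trivial modules is a base change -/
theorem IsBCAlong.of_subsingleton_of_subsingleton [Subsingleton M] [Subsingleton N] :
    IsBCAlong g f := by
  apply IsBCAlong.of_subsingleton
  letI : Algebra R S := g.toAlgebra
  show Subsingleton (S ⊗[R] M)
  infer_instance

end

end Groth.Agent.H78.SF
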