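import Mathlib
import Groth.Prelude.Def_SchFin
import Groth.Agent.H78.SchFin.BC
import Groth.Agent.H78.SchFin.BC2
import Groth.Agent.H78.SchFin.FlatEpi

set_option autoImplicit false
set_option linter.style.haveILetI false

namespace Groth.Agent.H78.SF

open SchFin TensorProduct

universe u

/-- varying-base product of base changes (Mathlib form) -/
theorem isBaseChange_pi_varying {R : Type u} [CommRing R] {ι : Type u} [Finite ι] (T : ι → Type u)
    [∀ i, CommRing (T i)] [∀ i, Algebra R (T i)] {M : Type u} [AddCommGroup M] [Module R M]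
    (N : ι → Type u) [∀ i, AddCommGroup (N i)] [∀ i, Module R (N i)] [∀ i, Module (T i) (N i)]
    [∀ i, IsScalarTower R (T i) (N i)]
    [IsScalarTower R (∀ i, T i) (∀ i, N i)]
    (f : ∀ i, M →ₗ[R] N i) (hf : ∀ i, IsBaseChange (T i) (f i)) :
    IsBaseChange (∀ i, T i) (LinearMap.pi f : M →ₗ[R] ∀ i, N i) := by
  classical
  cases nonempty_fintype ι
  let e₁ : (∀ i, T i) ⊗[R] M ≃ₗ[R] ∀ i, T i ⊗[R] M := TensorProduct.piLeft R M T
  let e₂ : (∀ i, T i ⊗[R] M) ≃ₗ[R] ∀ i, N i :=
    LinearEquiv.piCongrRight fun i => (hf i).equiv.restrictScalars R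
  unfold IsBaseChange IsTensorProduct
  have key : ∀ x, (TensorProduct.lift (((Algebra.linearMap (∀ i, T i)
      (Module.End (∀ i, T i) (M →ₗ[R] ∀ i, N i))).flip (LinearMap.pi f)).restrictScalars R)) x =
      e₂ (e₁ x) := by
    intro x
    induction x using TensorProduct.induction_on with
    | zero => simp
    | tmul p m =>
      funext i
      simp [e₁, e₂, IsBaseChange.equiv_tmul]
    | add a b ha hb => rw [map_add, map_add, map_add, ha, hb]
  have : ⇑(TensorProduct.lift (((Algebra.linearMap (∀ i, T i)
      (Module.End (∀ i, T i) (M →ₗ[R] ∀ i, N i))).flip (LinearMap.pi f)).restrictScalars R)) =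
      e₂ ∘ e₁ := funext key
  rw [this]
  exact e₂.bijective.comp e₁.bijective

/-- varying-base product of base changes (semilinear form) -/
theorem IsBCAlong.pi {R : Type u} [CommRing R] {ι : Type u} [Finite ι] (T : ι → Type u)
    [∀ i, CommRing (T i)] (g : ∀ i, R →+* T i) {M : Type u} [AddCommGroup M] [Module R M]
    (N : ι → Type u) [∀ i, AddCommGroup (N i)] [∀ i, Module (T i) (N i)]
    (f : ∀ i, M →ₛₗ[g i] N i) (hf : ∀ i, IsBCAlong (g i) (f i))
    (G : R →+* ∀ i, T i) (hG : ∀ r i, G r i = g i r) (F : M →ₛₗ[G] ∀ i, N i)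
    (hF : ∀ m i, F m i = f i m) : IsBCAlong G F := by
  obtain rfl : G = RingHom.pi g := RingHom.ext fun r => funext fun i => hG r i
  letI : ∀ i, Algebra R (T i) := fun i => (g i).toAlgebra
  letI : ∀ i, Module R (N i) := fun i => Module.compHom (N i) (g i)
  haveI : ∀ i, IsScalarTower R (T i) (N i) :=
    fun i => IsScalarTower.of_algebraMap_smul fun _ _ => rfl
  haveI : IsScalarTower R (∀ i, T i) (∀ i, N i) :=
    ⟨fun r t n => funext fun i => smul_assoc r (t i) (n i)⟩
  let fl : ∀ i, M →ₗ[R] N i := fun i =>
    { toFun := f i, map_add' := (f i).map_add, map_smul' := (f i).map_smulₛₗ }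
  have h := isBaseChange_pi_varying T N fl hf
  let Fl : M →ₗ[R] ∀ i, N i :=
    { toFun := F, map_add' := F.map_add, map_smul' := F.map_smulₛₗ }
  have e : LinearMap.pi fl = Fl :=
    LinearMap.ext fun m => funext fun i => (hF m i).symm
  rw [e] at h
  exact h

section comp
variable {R S T : Type u} [CommRing R] [CommRing S] [CommRing T] (g : R →+* S) (g' : S →+* T)
    {M N N' : Type u} [AddCommGroup M] [AddCommGroup N] [AddCommGroup N'] [Module R M]
    [Module S N] [Module T N']

/-- composition of base changes (semilinear form) -/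
theorem IsBCAlong.comp (f : M →ₛₗ[g] N) (f' : N →ₛₗ[g'] N') (F : M →ₛₗ[g'.comp g] N')
    (hF : ∀ m, F m = f' (f m)) (hf : IsBCAlong g f) (hf' : IsBCAlong g' f') :
    IsBCAlong (g'.comp g) F := by
  letI : Algebra R S := g.toAlgebra
  letI : Algebra S T := g'.toAlgebra
  letI : Algebra R T := (g'.comp g).toAlgebra
  haveI : IsScalarTower R S T := IsScalarTower.of_algebraMap_eq fun _ => rfl
  letI : Module R N := Module.compHom N g
  haveI : IsScalarTower R S N := IsScalarTower.of_algebraMap_smul fun _ _ => rfl
  letI : Module S N' := Module.compHom N' g'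
  haveI : IsScalarTower S T N' := IsScalarTower.of_algebraMap_smul fun _ _ => rfl
  letI : Module R N' := Module.compHom N' (g'.comp g)
  haveI : IsScalarTower R T N' := IsScalarTower.of_algebraMap_smul fun _ _ => rfl
  haveI : IsScalarTower R S N' := IsScalarTower.of_algebraMap_smul fun _ _ => rfl
  let fl : M →ₗ[R] N := { toFun := f, map_add' := f.map_add, map_smul' := f.map_smulₛₗ }
  let fl' : N →ₗ[S] N' := { toFun := f', map_add' := f'.map_add, map_smul' := f'.map_smulₛₗ }
  let Fl : M →ₗ[R] N' := { toFun := F, map_add' := F.map_add, map_smul' := F.map_smulₛₗ }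
  have h1 : IsBaseChange S fl := hf
  have h2 : IsBaseChange T fl' := hf'
  have h3 := IsBaseChange.comp h1 h2
  have e : (fl'.restrictScalars R).comp fl = Fl := LinearMap.ext fun m => (hF m).symm
  rw [e] at h3
  exact h3

/-- cancellation: if `f` and `f' ∘ f` are base changes then so is `f'` (semilinear form) -/
theorem IsBCAlong.of_comp (f : M →ₛₗ[g] N) (f' : N →ₛₗ[g'] N') (F : M →ₛₗ[g'.comp g] N')
    (hF : ∀ m, F m = f' (f m)) (hf : IsBCAlong g f) (hF' : IsBCAlong (g'.comp g) F) :
    IsBCAlong g' f' := by
  letI : Algebra R S := g.toAlgebra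
  letI : Algebra S T := g'.toAlgebra
  letI : Algebra R T := (g'.comp g).toAlgebra
  haveI : IsScalarTower R S T := IsScalarTower.of_algebraMap_eq fun _ => rfl
  letI : Module R N := Module.compHom N g
  haveI : IsScalarTower R S N := IsScalarTower.of_algebraMap_smul fun _ _ => rfl
  letI : Module S N' := Module.compHom N' g'
  haveI : IsScalarTower S T N' := IsScalarTower.of_algebraMap_smul fun _ _ => rfl
  letI : Module R N' := Module.compHom N' (g'.comp g)
  haveI : IsScalarTower R T N' := IsScalarTower.of_algebraMap_smul fun _ _ => rfl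
  haveI : IsScalarTower R S N' := IsScalarTower.of_algebraMap_smul fun _ _ => rfl
  let fl : M →ₗ[R] N := { toFun := f, map_add' := f.map_add, map_smul' := f.map_smulₛₗ }
  let fl' : N →ₗ[S] N' := { toFun := f', map_add' := f'.map_add, map_smul' := f'.map_smulₛₗ }
  let Fl : M →ₗ[R] N' := { toFun := F, map_add' := F.map_add, map_smul' := F.map_smulₛₗ }
  have h1 : IsBaseChange S fl := hf
  have h3 : IsBaseChange T Fl := hF'
  have e : Fl = (fl'.restrictScalars R).comp fl := LinearMap.ext fun m => hF m
  rw [e] at h3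
  exact IsBaseChange.of_comp h1 h3

end comp

/-- transport of a base change along an isomorphism of the source ring and module -/
theorem IsBCAlong.of_source_equiv {R R' S : Type u} [CommRing R] [CommRing R'] [CommRing S]
    (g : R →+* S) (g' : R' →+* S) {M M' N : Type u} [AddCommGroup M] [AddCommGroup M']
    [AddCommGroup N] [Module R M] [Module R' M'] [Module S N] (f : M →ₛₗ[g] N)
    (f' : M' →ₛₗ[g'] N) (ρ : R' ≃+* R) (μ : M' ≃+ M) (hμ : ∀ r m, μ (r • m) = ρ r • μ m)
    (hg : ∀ r, g (ρ r) = g' r) (hf' : ∀ m, f (μ m) = f' m) (hf : IsBCAlong g f) :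
    IsBCAlong g' f' := by
  obtain rfl : g' = g.comp (ρ : R' →+* R) := RingHom.ext fun r => (hg r).symm
  let μl : M' →ₛₗ[(ρ : R' →+* R)] M :=
    { toFun := μ, map_add' := μ.map_add, map_smul' := hμ }
  have h1 : IsBCAlong (ρ : R' →+* R) μl :=
    IsBCAlong.of_bijective_of_epi _ μl (IsEpiHom.of_surjective _ ρ.surjective) μ.bijective
  exact IsBCAlong.comp _ _ μl f f' (fun m => (hf' m).symm) h1 hf

/-- faithfully flat descent of base change (Mathlib form) -/
theorem isBaseChange_of_faithfullyFlat_comp {R S T : Type u} [CommRing R] [CommRing S] [CommRing T]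
    [Algebra R S] [Algebra S T] [Algebra R T] [IsScalarTower R S T] [Module.FaithfullyFlat S T]
    {M N N' : Type u} [AddCommGroup M] [AddCommGroup N] [AddCommGroup N'] [Module R M]
    [Module R N] [Module S N] [IsScalarTower R S N] [Module R N'] [Module S N'] [Module T N']
    [IsScalarTower S T N'] [IsScalarTower R S N'] [IsScalarTower R T N']
    (f : M →ₗ[R] N) (h : N →ₗ[S] N') (hh : IsBaseChange T h)
    (hc : IsBaseChange T ((h.restrictScalars R).comp f)) : IsBaseChange S f := by
  let h₀ := TensorProduct.isBaseChange R M S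
  let φ : S ⊗[R] M →ₗ[S] N := h₀.lift f
  have hφ : ∀ s m, φ (s ⊗ₜ m) = s • f m := fun s m => by
    have : s ⊗ₜ[R] m = s • (TensorProduct.mk R S M 1 m) := by
      simp [TensorProduct.smul_tmul']
    rw [this, map_smul, h₀.lift_eq]
  suffices hb : Function.Bijective φ by
    exact IsBaseChange.of_equiv (LinearEquiv.ofBijective φ hb) (fun x => by
      simp [hφ])
  rw [← Module.FaithfullyFlat.lTensor_bijective_iff_bijective S T]
  let c : T ⊗[S] (S ⊗[R] M) ≃ₗ[T] T ⊗[R] M := AlgebraTensorModule.cancelBaseChange R S T T M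
  have key : ∀ x, hh.equiv ((φ.lTensor T) x) = hc.equiv (c x) := by
    intro x
    induction x using TensorProduct.induction_on with
    | zero => simp
    | tmul t y =>
      induction y using TensorProduct.induction_on with
      | zero => simp
      | tmul s m =>
        simp only [LinearMap.lTensor_tmul, hφ, IsBaseChange.equiv_tmul, c,
          AlgebraTensorModule.cancelBaseChange_tmul, LinearMap.comp_apply,
          LinearMap.restrictScalars_apply, map_smul]
        rw [smul_comm]
        simp [smul_assoc]
      | add a b ha hb =>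
        rw [TensorProduct.tmul_add, map_add, map_add, map_add, map_add, ha, hb]
    | add a b ha hb => rw [map_add, map_add, map_add, map_add, ha, hb]
  have : ⇑(φ.lTensor T) = hh.equiv.symm ∘ hc.equiv ∘ c := by
    funext x
    simp only [Function.comp_apply]
    rw [← key, LinearEquiv.symm_apply_apply]
  rw [this]
  exact hh.equiv.symm.bijective.comp (hc.equiv.bijective.comp c.bijective)

/-- faithfully flat descent of base change (semilinear form): if `f' ∘ f` and `f'` are base
changes and `g'` is faithfully flat, then `f` is a base change -/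
theorem IsBCAlong.of_faithfullyFlat_comp {R S T : Type u} [CommRing R] [CommRing S] [CommRing T]
    (g : R →+* S) (g' : S →+* T) (hg' : g'.FaithfullyFlat)
    {M N N' : Type u} [AddCommGroup M] [AddCommGroup N] [AddCommGroup N'] [Module R M]
    [Module S N] [Module T N'] (f : M →ₛₗ[g] N) (f' : N →ₛₗ[g'] N') (F : M →ₛₗ[g'.comp g] N')
    (hF : ∀ m, F m = f' (f m)) (hf' : IsBCAlong g' f') (hF' : IsBCAlong (g'.comp g) F) :
    IsBCAlong g f := by
  letI : Algebra R S := g.toAlgebra
  letI : Algebra S T := g'.toAlgebra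
  letI : Algebra R T := (g'.comp g).toAlgebra
  haveI : IsScalarTower R S T := IsScalarTower.of_algebraMap_eq fun _ => rfl
  haveI : Module.FaithfullyFlat S T := hg'
  letI : Module R N := Module.compHom N g
  haveI : IsScalarTower R S N := IsScalarTower.of_algebraMap_smul fun _ _ => rfl
  letI : Module S N' := Module.compHom N' g'
  haveI : IsScalarTower S T N' := IsScalarTower.of_algebraMap_smul fun _ _ => rfl
  letI : Module R N' := Module.compHom N' (g'.comp g)
  haveI : IsScalarTower R T N' := IsScalarTower.of_algebraMap_smul fun _ _ => rfl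
  haveI : IsScalarTower R S N' := IsScalarTower.of_algebraMap_smul fun _ _ => rfl
  let fl : M →ₗ[R] N := { toFun := f, map_add' := f.map_add, map_smul' := f.map_smulₛₗ }
  let fl' : N →ₗ[S] N' := { toFun := f', map_add' := f'.map_add, map_smul' := f'.map_smulₛₗ }
  let Fl : M →ₗ[R] N' := { toFun := F, map_add' := F.map_add, map_smul' := F.map_smulₛₗ }
  have h2 : IsBaseChange T fl' := hf'
  have h3 : IsBaseChange T Fl := hF'
  have e : Fl = (fl'.restrictScalars R).comp fl := LinearMap.ext fun m => hF m
  rw [e] at h3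
  exact isBaseChange_of_faithfullyFlat_comp fl fl' h2 h3

end Groth.Agent.H78.SF
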