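import Mathlib
import Groth.Prelude.Def_SchFin
import Groth.Prelude.Def_SchFin2
import Groth.Agent.H78.SchFin.BC5

set_option autoImplicit false
set_option linter.style.haveILetI false

namespace Groth.Agent.H78.SF

open SchFin TensorProduct

universe u

section
variable (X : RSpace.{u}) (U : Set X.pt)

/-- sections of the rings over `U` are the global sections of the restricted space -/
def sectRingEquiv : X.sectRing U ≃+* (X.restrict U).sectRing Set.univ where
  toFun s := ⟨fun q => s.1 q.1, fun q q' h => s.2 q.1 q'.1 h⟩
  invFun t := ⟨fun q => t.1 ⟨q, trivial⟩, fun q q' h => t.2 ⟨q, trivial⟩ ⟨q', trivial⟩ h⟩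
  left_inv _ := rfl
  right_inv _ := rfl
  map_mul' _ _ := rfl
  map_add' _ _ := rfl

variable {X} (M : OMod X)

/-- sections of a module over `U` are the global sections of the restricted module -/
def sectEquiv : M.sect U ≃+ (M.restrict U).sect Set.univ where
  toFun s := ⟨fun q => s.1 q.1, fun q q' h => s.2 q.1 q'.1 h⟩
  invFun t := ⟨fun q => t.1 ⟨q, trivial⟩, fun q q' h => t.2 ⟨q, trivial⟩ ⟨q', trivial⟩ h⟩
  left_inv _ := rfl
  right_inv _ := rfl
  map_add' _ _ := rfl

/-- the counit of an affine up-set: evaluation of sections at a point is a base change -/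
theorem isBCAlong_evalMod (hUa : (X.restrict U).IsAffine) (hM : M.IsQcoh) (q : U) :
    IsBCAlong (X.evalRing U q) (M.evalMod U q) := by
  have h := hUa.2.2.1 (M.restrict U) (fun p p' h => hM p.1 p'.1 h) q
  exact IsBCAlong.of_source_equiv _ _ _ _ (sectRingEquiv X U) (sectEquiv U M)
    (fun r m => rfl) (fun r => rfl) (fun m => rfl) h

/-- the inclusion of the sections into the product, semilinear over the inclusion of rings -/
def sectIncl : M.sect U →ₛₗ[(X.sectRing U).subtype] ((q : U) → M.carrier q.1) where
  toFun s := s.1
  map_add' _ _ := rfl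
  map_smul' _ _ := rfl

/-- over an affine up-set, the product of the values of a quasi-coherent module is the base change
of its sections to the product of the rings -/
theorem isBCAlong_sectIncl (hUa : (X.restrict U).IsAffine) (hM : M.IsQcoh) :
    IsBCAlong (X.sectRing U).subtype (sectIncl U M) :=
  IsBCAlong.pi (fun q : U => X.ring q.1) (fun q => X.evalRing U q) (fun q : U => M.carrier q.1)
    (fun q => M.evalMod U q) (fun q => isBCAlong_evalMod U M hUa hM q) _ (fun _ _ => rfl) _
    (fun _ _ => rfl)

end

end Groth.Agent.H78.SF
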