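import Mathlib

set_option autoImplicit false
set_option linter.style.haveILetI false

namespace Groth.Agent.H78.SF

universe u

section
variable {ι : Type u} [Finite ι] (T N : ι → Type u) [∀ i, CommRing (T i)] [∀ i, CommRing (N i)]
  (a : ∀ i, T i →+* N i)

/-- the product of a family of ring maps -/
def piMap : (∀ i, T i) →+* (∀ i, N i) := RingHom.pi fun i => (a i).comp (Pi.evalRingHom T i)

omit [Finite ι] in
@[simp] lemma piMap_apply (t : ∀ i, T i) (i : ι) : piMap T N a t i = a i (t i) := rfl

omit [Finite ι] in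
/-- a factor of a finite product is a localisation at an idempotent -/
lemma isLocalization_away_eval (i : ι) :
    letI := (Pi.evalRingHom T i).toAlgebra
    ∃ e : (∀ i, T i), IsLocalization.Away e (T i) := by
  classical
  letI := (Pi.evalRingHom T i).toAlgebra
  refine ⟨Function.update (β := T) 0 i 1, ?_⟩
  apply IsLocalization.away_of_isIdempotentElem_of_mul
  · ext j; by_cases h : j = i <;> aesop
  · intro x y
    constructor
    · intro e; ext j; by_cases h : j = i <;> aesop
    · intro e; simpa using! congr_fun e i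
  · exact Function.surjective_eval _

theorem piMap_etale (h : ∀ i, (a i).Etale) : (piMap T N a).Etale := by
  letI : ∀ i, Algebra (T i) (N i) := fun i => (a i).toAlgebra
  letI : ∀ i, Algebra (∀ i, T i) (T i) := fun i => (Pi.evalRingHom T i).toAlgebra
  letI : ∀ i, Algebra (∀ i, T i) (N i) := fun i => ((a i).comp (Pi.evalRingHom T i)).toAlgebra
  haveI : ∀ i, IsScalarTower (∀ i, T i) (T i) (N i) :=
    fun i => IsScalarTower.of_algebraMap_eq fun _ => rfl
  haveI : ∀ i, Algebra.Etale (T i) (N i) := h
  haveI : ∀ i, Algebra.Etale (∀ i, T i) (T i) := fun i => by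
    obtain ⟨e, he⟩ := isLocalization_away_eval T i
    exact Algebra.Etale.of_isLocalizationAway e
  haveI : ∀ i, Algebra.Etale (∀ i, T i) (N i) := fun i => Algebra.Etale.comp _ (T i) _
  have key : @Algebra.Etale (∀ i, T i) (∀ i, N i) _ _ (Pi.algebra ι N) := inferInstance
  have e : (Pi.algebra ι N : Algebra (∀ i, T i) (∀ i, N i)) = (piMap T N a).toAlgebra :=
    Algebra.algebra_ext _ _ fun r => rfl
  show @Algebra.Etale _ _ _ _ (piMap T N a).toAlgebra
  rw [← e]; exact key

theorem piMap_finite (h : ∀ i, (a i).Finite) : (piMap T N a).Finite := by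
  letI : ∀ i, Algebra (T i) (N i) := fun i => (a i).toAlgebra
  letI : ∀ i, Algebra (∀ i, T i) (T i) := fun i => (Pi.evalRingHom T i).toAlgebra
  letI : ∀ i, Algebra (∀ i, T i) (N i) := fun i => ((a i).comp (Pi.evalRingHom T i)).toAlgebra
  haveI : ∀ i, IsScalarTower (∀ i, T i) (T i) (N i) :=
    fun i => IsScalarTower.of_algebraMap_eq fun _ => rfl
  haveI : ∀ i, Module.Finite (T i) (N i) := h
  haveI : ∀ i, Module.Finite (∀ i, T i) (T i) := fun i =>
    Module.Finite.of_surjective (Algebra.linearMap (∀ i, T i) (T i)) (Function.surjective_eval i)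
  haveI : ∀ i, Module.Finite (∀ i, T i) (N i) := fun i => Module.Finite.trans (T i) (N i)
  have key : @Module.Finite (∀ i, T i) (∀ i, N i) _ _ (Pi.algebra ι N).toModule := inferInstance
  have e : (Pi.algebra ι N : Algebra (∀ i, T i) (∀ i, N i)) = (piMap T N a).toAlgebra :=
    Algebra.algebra_ext _ _ fun r => rfl
  show @Module.Finite _ _ _ _ (piMap T N a).toAlgebra.toModule
  rw [← e]; exact key

theorem piMap_flat (h : ∀ i, (a i).Flat) : (piMap T N a).Flat := by
  classical
  cases nonempty_fintype ι
  letI : ∀ i, Algebra (T i) (N i) := fun i => (a i).toAlgebra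
  letI : ∀ i, Algebra (∀ i, T i) (T i) := fun i => (Pi.evalRingHom T i).toAlgebra
  letI : ∀ i, Algebra (∀ i, T i) (N i) := fun i => ((a i).comp (Pi.evalRingHom T i)).toAlgebra
  haveI : ∀ i, IsScalarTower (∀ i, T i) (T i) (N i) :=
    fun i => IsScalarTower.of_algebraMap_eq fun _ => rfl
  haveI : ∀ i, Module.Flat (T i) (N i) := h
  haveI : ∀ i, Module.Flat (∀ i, T i) (T i) := fun i => by
    obtain ⟨e, he⟩ := isLocalization_away_eval T i
    exact IsLocalization.flat (T i) (Submonoid.powers e)
  haveI : ∀ i, Module.Flat (∀ i, T i) (N i) := fun i => Module.Flat.trans _ (T i) _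
  have key : @Module.Flat (∀ i, T i) (∀ i, N i) _ _ (Pi.algebra ι N).toModule :=
    Module.Flat.of_linearEquiv (DFinsupp.linearEquivFunOnFintype (R := ∀ i, T i) (M := N)).symm
  have e : (Pi.algebra ι N : Algebra (∀ i, T i) (∀ i, N i)) = (piMap T N a).toAlgebra :=
    Algebra.algebra_ext _ _ fun r => rfl
  show @Module.Flat _ _ _ _ (piMap T N a).toAlgebra.toModule
  rw [← e]; exact key

end

end Groth.Agent.H78.SF
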