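import Mathlib
import Groth.Prelude.Def_SchFin
import Groth.Agent.H78.SchFin.BC

set_option autoImplicit false
set_option linter.style.haveILetI false

namespace Groth.Agent.H78.SF

open SchFin TensorProduct

universe u

section
variable {R S R' S' : Type u} [CommRing R] [CommRing S] [CommRing R'] [CommRing S']
  [Algebra R S] [Algebra R' S'] (b : R →+* R') (b' : S →+* S')
  (hc : ∀ r, b' (algebraMap R S r) = algebraMap R' S' (b r))
  (F : S →ₛₗ[b] S') (hF : ∀ s, F s = b' s) (hbc : IsBCAlong b F)

include hc hF hbc

/-- a property of ring maps stable under base change passes along a base-change square -/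
theorem square_stable {Pp : ∀ {R S : Type u} [CommRing R] [CommRing S], (R →+* S) → Prop}
    (hPp : RingHom.IsStableUnderBaseChange @Pp) (h : Pp (algebraMap R S)) :
    Pp (algebraMap R' S') := by
  letI : Algebra R R' := b.toAlgebra
  letI : Algebra S S' := b'.toAlgebra
  letI : Algebra R S' := Algebra.compHom S' b
  haveI : IsScalarTower R R' S' := IsScalarTower.of_algebraMap_eq fun _ => rfl
  haveI : IsScalarTower R S S' := IsScalarTower.of_algebraMap_eq fun r => (hc r).symm
  have hpo : Algebra.IsPushout R R' S S' := by
    constructor
    let Fl : S →ₗ[R] S' := { toFun := F, map_add' := F.map_add, map_smul' := F.map_smulₛₗ }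
    have e : Fl = (IsScalarTower.toAlgHom R S S').toLinearMap := LinearMap.ext hF
    rw [← e]
    exact hbc
  haveI := hpo.symm
  exact hPp R S R' S' h

/-- a property of ring maps codescending along `Q` descends along a base-change square -/
theorem square_codescends {Pp Q : ∀ {R S : Type u} [CommRing R] [CommRing S], (R →+* S) → Prop}
    (hPp : RingHom.CodescendsAlong @Pp @Q) (hb : Q b) (h : Pp (algebraMap R' S')) :
    Pp (algebraMap R S) := by
  letI : Algebra R R' := b.toAlgebra
  letI : Algebra S S' := b'.toAlgebra
  letI : Algebra R S' := Algebra.compHom S' b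
  haveI : IsScalarTower R R' S' := IsScalarTower.of_algebraMap_eq fun _ => rfl
  haveI : IsScalarTower R S S' := IsScalarTower.of_algebraMap_eq fun r => (hc r).symm
  have hpo : Algebra.IsPushout R R' S S' := by
    constructor
    let Fl : S →ₗ[R] S' := { toFun := F, map_add' := F.map_add, map_smul' := F.map_smulₛₗ }
    have e : Fl = (IsScalarTower.toAlgHom R S S').toLinearMap := LinearMap.ext hF
    rw [← e]
    exact hbc
  haveI := hpo.symm
  exact hPp hb h

end

/-- flatness codescends along faithfully flat maps -/
theorem flat_codescendsAlong_faithfullyFlat :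
    RingHom.CodescendsAlong (fun {R S : Type u} [CommRing R] [CommRing S] (f : R →+* S) => f.Flat)
      (fun {R S : Type u} [CommRing R] [CommRing S] (f : R →+* S) => f.FaithfullyFlat) := by
  refine RingHom.CodescendsAlong.mk _ RingHom.Flat.respectsIso fun R S T _ _ _ _ _ h h' => ?_
  rw [RingHom.flat_algebraMap_iff] at h' ⊢
  rw [RingHom.faithfullyFlat_algebraMap_iff] at h
  exact Module.Flat.of_flat_tensorProduct R T S

end Groth.Agent.H78.SF
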