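import Mathlib
import Groth.Prelude.Def_SchFin
import Groth.Prelude.Def_SchFin2
import Groth.Agent.H78.SchFin.Affine
import Groth.Agent.H78.SchFin.PiProp
import Groth.Agent.H78.SchFin.Square

set_option autoImplicit false
set_option linter.style.haveILetI false

namespace Groth.Agent.H78.SF

open SchFin TensorProduct

universe u

section
variable {X : RSpace.{u}} (A : Alg X) (U : Set X.pt)

/-- the sections of an algebra over `U` as an algebra over the sections of the rings -/
@[reducible] def sectAlg : Algebra (X.sectRing U) (A.total.sectRing U) := (A.sectMap U).toAlgebra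

attribute [local instance] sectAlg

/-- the product of the values of an algebra as an algebra over the product of the rings, with the
componentwise scalar multiplication -/
@[reducible] def piAlg : Algebra ((q : U) → X.ring q.1) ((q : U) → A.carrier q.1) where
  algebraMap := piMap (fun q : U => X.ring q.1) (fun q : U => A.carrier q.1)
    (fun q => algebraMap (X.ring q.1) (A.carrier q.1))
  smul p c := fun q => p q • c q
  commutes' _ _ := funext fun _ => Algebra.commutes _ _
  smul_def' _ _ := funext fun _ => Algebra.smul_def _ _

/-- inclusion of the sections of the algebra into the product, as a ring map -/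
def inclHom : A.total.sectRing U →+* ((q : U) → A.carrier q.1) := (A.total.sectRing U).subtype

/-- evaluation of a section of the algebra at a point -/
def evalAlgHom (q : U) : A.total.sectRing U →+* A.carrier q.1 :=
  (Pi.evalRingHom (fun q : U => A.carrier q.1) q).comp (inclHom A U)

lemma inclHom_smul (r : X.sectRing U) (s : A.total.sectRing U) (q : U) :
    inclHom A U (r • s) q = (r.1 q) • inclHom A U s q := by
  show algebraMap (X.ring q.1) (A.carrier q.1) (r.1 q) * inclHom A U s q = (r.1 q) • inclHom A U s q
  rw [Algebra.smul_def]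

/-- evaluation of a section of the algebra at a point, semilinear over evaluation of ring
sections -/
def evalAlg (q : U) : A.total.sectRing U →ₛₗ[X.evalRing U q] A.carrier q.1 where
  toFun s := inclHom A U s q
  map_add' _ _ := rfl
  map_smul' r s := inclHom_smul A U r s q

/-- sections of an algebra as sections of its underlying module -/
def sectAlgEquiv : A.total.sectRing U ≃+ A.toMod.sect U where
  toFun s := ⟨s.1, s.2⟩
  invFun t := ⟨t.1, t.2⟩
  left_inv _ := rfl
  right_inv _ := rfl
  map_add' _ _ := rfl

theorem isBCAlong_evalAlg (hUa : (X.restrict U).IsAffine) (hA : A.IsQcoh) (q : U) :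
    IsBCAlong (X.evalRing U q) (evalAlg A U q) := by
  have h := isBCAlong_evalMod U A.toMod hUa hA q
  refine IsBCAlong.of_source_equiv (X.evalRing U q) (X.evalRing U q) (A.toMod.evalMod U q)
    (evalAlg A U q) (RingEquiv.refl _) (sectAlgEquiv A U) ?_ (fun _ => rfl) (fun _ => rfl) h
  intro r m
  exact Subtype.ext (funext fun q => inclHom_smul A U r m q)

/-- inclusion of the sections of the algebra into the product -/
def sectInclAlg : A.total.sectRing U →ₛₗ[(X.sectRing U).subtype] ((q : U) → A.carrier q.1) where
  toFun s := inclHom A U s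
  map_add' _ _ := rfl
  map_smul' r s := funext fun q => inclHom_smul A U r s q

theorem isBCAlong_sectInclAlg (hUa : (X.restrict U).IsAffine) (hA : A.IsQcoh) :
    IsBCAlong (X.sectRing U).subtype (sectInclAlg A U) :=
  IsBCAlong.pi (fun q : U => X.ring q.1) (fun q => X.evalRing U q) (fun q : U => A.carrier q.1)
    (fun q => evalAlg A U q) (fun q => isBCAlong_evalAlg A U hUa hA q) _ (fun _ _ => rfl) _
    (fun _ _ => rfl)

/-- the general criterion: a property of ring maps which is stable under base change, descends
along faithfully flat maps and passes to finite products holds for the values of a quasi-coherent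
algebra at all points of an affine up-set iff it holds for the sections -/
theorem forall_iff_sectMap
    {Pp : ∀ {R S : Type u} [CommRing R] [CommRing S], (R →+* S) → Prop}
    (hst : RingHom.IsStableUnderBaseChange @Pp)
    (hco : RingHom.CodescendsAlong @Pp
      (fun {R S : Type u} [CommRing R] [CommRing S] (f : R →+* S) => f.FaithfullyFlat))
    (hpi : ∀ {ι : Type u} [Finite ι] (T N : ι → Type u) [∀ i, CommRing (T i)]
      [∀ i, CommRing (N i)] (a : ∀ i, T i →+* N i), (∀ i, Pp (a i)) → Pp (piMap T N a))
    (hUa : (X.restrict U).IsAffine) (hA : A.IsQcoh)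
    (hφ : (X.sectRing U).subtype.FaithfullyFlat) :
    (∀ q : X.pt, q ∈ U → Pp (algebraMap (X.ring q) (A.carrier q))) ↔ Pp (A.sectMap U) := by
  constructor
  · intro h
    letI := piAlg A U
    have h1 : Pp (algebraMap ((q : U) → X.ring q.1) ((q : U) → A.carrier q.1)) :=
      hpi (fun q : U => X.ring q.1) (fun q : U => A.carrier q.1)
        (fun q => algebraMap (X.ring q.1) (A.carrier q.1)) (fun q => h q.1 q.2)
    exact square_codescends (X.sectRing U).subtype (inclHom A U)
      (fun _ => rfl) (sectInclAlg A U) (fun _ => rfl) (isBCAlong_sectInclAlg A U hUa hA)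
      hco hφ h1
  · intro h q hq
    exact square_stable (X.evalRing U ⟨q, hq⟩) (evalAlgHom A U ⟨q, hq⟩)
      (fun _ => rfl) (evalAlg A U ⟨q, hq⟩) (fun _ => rfl)
      (isBCAlong_evalAlg A U hUa hA ⟨q, hq⟩) hst h

/-- the criterion for faithful flatness -/
theorem forall_faithfullyFlat_iff_sectMap (hUa : (X.restrict U).IsAffine) (hA : A.IsQcoh)
    (hφ : (X.sectRing U).subtype.FaithfullyFlat) :
    (∀ q : X.pt, q ∈ U → Module.FaithfullyFlat (X.ring q) (A.carrier q)) ↔
      (A.sectMap U).FaithfullyFlat := by
  constructor
  · intro h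
    rw [RingHom.FaithfullyFlat.iff_flat_and_comap_surjective]
    refine ⟨?_, ?_⟩
    · exact (forall_iff_sectMap A U
        (Pp := fun {R S : Type u} [CommRing R] [CommRing S] (f : R →+* S) => f.Flat)
        RingHom.Flat.isStableUnderBaseChange flat_codescendsAlong_faithfullyFlat
        (fun T N _ _ a h => piMap_flat T N a h) hUa hA hφ).mp
        (fun q hq => RingHom.flat_algebraMap_iff.mpr (haveI := h q hq; inferInstance))
    · intro p
      obtain ⟨P, hP⟩ := (RingHom.FaithfullyFlat.iff_flat_and_comap_surjective.mp hφ).2 p
      obtain ⟨q, 𝔭, h𝔭⟩ := PrimeSpectrum.exists_comap_evalRingHom_eq P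
      haveI := h q.1 q.2
      obtain ⟨𝔮, h𝔮⟩ := PrimeSpectrum.comap_surjective_of_faithfullyFlat
        (A := X.ring q.1) (B := A.carrier q.1) 𝔭
      refine ⟨PrimeSpectrum.comap (evalAlgHom A U q) 𝔮, ?_⟩
      rw [← hP, ← h𝔭, ← h𝔮]
      rfl
  · intro h q hq
    have := square_stable (X.evalRing U ⟨q, hq⟩) (evalAlgHom A U ⟨q, hq⟩)
      (fun _ => rfl) (evalAlg A U ⟨q, hq⟩) (fun _ => rfl)
      (isBCAlong_evalAlg A U hUa hA ⟨q, hq⟩)
      (Pp := fun {R S : Type u} [CommRing R] [CommRing S] (f : R →+* S) => f.FaithfullyFlat)
      RingHom.FaithfullyFlat.isStableUnderBaseChange h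
    exact RingHom.faithfullyFlat_algebraMap_iff.mp this

end

end Groth.Agent.H78.SF
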