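import Mathlib
import Groth.Prelude.Def_SchFin
import Groth.Agent.H78.SchFin.BC

set_option autoImplicit false
set_option linter.style.haveILetI false

namespace Groth.Agent.H78.SF

open SchFin TensorProduct

universe u

section
variable {R S : Type u} [CommRing R] [CommRing S] (g : R →+* S)

/-- base change commutes with binary products (semilinear form) -/
theorem IsBCAlong.prod {M M' N N' : Type u} [AddCommGroup M] [AddCommGroup M'] [AddCommGroup N]
    [AddCommGroup N'] [Module R M] [Module R M'] [Module S N] [Module S N']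
    (f : M →ₛₗ[g] N) (f' : M' →ₛₗ[g] N') (F : (M × M') →ₛₗ[g] (N × N'))
    (hF : ∀ x, F x = (f x.1, f' x.2)) (hf : IsBCAlong g f) (hf' : IsBCAlong g f') :
    IsBCAlong g F := by
  letI : Algebra R S := g.toAlgebra
  letI : Module R N := Module.compHom N g
  haveI : IsScalarTower R S N := IsScalarTower.of_algebraMap_smul fun _ _ => rfl
  letI : Module R N' := Module.compHom N' g
  haveI : IsScalarTower R S N' := IsScalarTower.of_algebraMap_smul fun _ _ => rfl
  let fl : M →ₗ[R] N := { toFun := f, map_add' := f.map_add, map_smul' := f.map_smulₛₗ }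
  let fl' : M' →ₗ[R] N' := { toFun := f', map_add' := f'.map_add, map_smul' := f'.map_smulₛₗ }
  have h1 : IsBaseChange S fl := hf
  have h2 : IsBaseChange S fl' := hf'
  have h3 := IsBaseChange.prodMap fl fl' h1 h2
  let FL' : M × M' →ₗ[R] N × N' :=
    { toFun := F, map_add' := F.map_add
      map_smul' := fun r x => by
        show F (r • x) = r • F x
        rw [F.map_smulₛₗ]; rfl }
  have e : FL' = fl.prodMap fl' := LinearMap.ext fun x => hF x
  have h4 : IsBaseChange S FL' := e ▸ h3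
  exact h4

/-- base change is right exact (semilinear form) -/
theorem IsBCAlong.of_right_exact {M₁ M₂ M₃ N₁ N₂ N₃ : Type u} [AddCommGroup M₁] [AddCommGroup M₂]
    [AddCommGroup M₃] [AddCommGroup N₁] [AddCommGroup N₂] [AddCommGroup N₃] [Module R M₁]
    [Module R M₂] [Module R M₃] [Module S N₁] [Module S N₂] [Module S N₃]
    (h₁ : M₁ →ₛₗ[g] N₁) (h₂ : M₂ →ₛₗ[g] N₂) (h₃ : M₃ →ₛₗ[g] N₃)
    (f : M₁ →ₗ[R] M₂) (k : M₂ →ₗ[R] M₃) (f' : N₁ →ₗ[S] N₂) (k' : N₂ →ₗ[S] N₃)
    (comm₁ : ∀ x, h₂ (f x) = f' (h₁ x)) (comm₂ : ∀ x, h₃ (k x) = k' (h₂ x))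
    (isb₁ : IsBCAlong g h₁) (isb₂ : IsBCAlong g h₂)
    (exact₁ : Function.Exact f k) (surj₁ : Function.Surjective k)
    (exact₂ : Function.Exact f' k') (surj₂ : Function.Surjective k') : IsBCAlong g h₃ := by
  letI : Algebra R S := g.toAlgebra
  letI : Module R N₁ := Module.compHom N₁ g
  haveI : IsScalarTower R S N₁ := IsScalarTower.of_algebraMap_smul fun _ _ => rfl
  letI : Module R N₂ := Module.compHom N₂ g
  haveI : IsScalarTower R S N₂ := IsScalarTower.of_algebraMap_smul fun _ _ => rfl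
  letI : Module R N₃ := Module.compHom N₃ g
  haveI : IsScalarTower R S N₃ := IsScalarTower.of_algebraMap_smul fun _ _ => rfl
  let l₁ : M₁ →ₗ[R] N₁ := { toFun := h₁, map_add' := h₁.map_add, map_smul' := h₁.map_smulₛₗ }
  let l₂ : M₂ →ₗ[R] N₂ := { toFun := h₂, map_add' := h₂.map_add, map_smul' := h₂.map_smulₛₗ }
  let l₃ : M₃ →ₗ[R] N₃ := { toFun := h₃, map_add' := h₃.map_add, map_smul' := h₃.map_smulₛₗ }
  have b₁ : IsBaseChange S l₁ := isb₁
  have b₂ : IsBaseChange S l₂ := isb₂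
  show IsBaseChange S l₃
  exact IsBaseChange.of_right_exact S l₁ l₂ l₃ (f := f) (g := k) (f' := f') (g' := k')
    (LinearMap.ext comm₁) (LinearMap.ext comm₂) b₁ b₂ exact₁ surj₁ exact₂ surj₂

/-- flat base change is left exact (semilinear form) -/
theorem IsBCAlong.of_left_exact (hflat : g.Flat) {M₁ M₂ M₃ N₁ N₂ N₃ : Type u} [AddCommGroup M₁]
    [AddCommGroup M₂] [AddCommGroup M₃] [AddCommGroup N₁] [AddCommGroup N₂] [AddCommGroup N₃]
    [Module R M₁] [Module R M₂] [Module R M₃] [Module S N₁] [Module S N₂] [Module S N₃]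
    (h₁ : M₁ →ₛₗ[g] N₁) (h₂ : M₂ →ₛₗ[g] N₂) (h₃ : M₃ →ₛₗ[g] N₃)
    (f : M₁ →ₗ[R] M₂) (k : M₂ →ₗ[R] M₃) (f' : N₁ →ₗ[S] N₂) (k' : N₂ →ₗ[S] N₃)
    (comm₁ : ∀ x, h₂ (f x) = f' (h₁ x)) (comm₂ : ∀ x, h₃ (k x) = k' (h₂ x))
    (isb₂ : IsBCAlong g h₂) (isb₃ : IsBCAlong g h₃)
    (exact₁ : Function.Exact f k) (inj₁ : Function.Injective f)
    (exact₂ : Function.Exact f' k') (inj₂ : Function.Injective f') : IsBCAlong g h₁ := by
  letI : Algebra R S := g.toAlgebra
  haveI : Module.Flat R S := hflat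
  letI : Module R N₁ := Module.compHom N₁ g
  haveI : IsScalarTower R S N₁ := IsScalarTower.of_algebraMap_smul fun _ _ => rfl
  letI : Module R N₂ := Module.compHom N₂ g
  haveI : IsScalarTower R S N₂ := IsScalarTower.of_algebraMap_smul fun _ _ => rfl
  letI : Module R N₃ := Module.compHom N₃ g
  haveI : IsScalarTower R S N₃ := IsScalarTower.of_algebraMap_smul fun _ _ => rfl
  let l₁ : M₁ →ₗ[R] N₁ := { toFun := h₁, map_add' := h₁.map_add, map_smul' := h₁.map_smulₛₗ }
  let l₂ : M₂ →ₗ[R] N₂ := { toFun := h₂, map_add' := h₂.map_add, map_smul' := h₂.map_smulₛₗ }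
  let l₃ : M₃ →ₗ[R] N₃ := { toFun := h₃, map_add' := h₃.map_add, map_smul' := h₃.map_smulₛₗ }
  have b₂ : IsBaseChange S l₂ := isb₂
  have b₃ : IsBaseChange S l₃ := isb₃
  show IsBaseChange S l₁
  exact IsBaseChange.of_left_exact S l₁ l₂ l₃ (f := f) (g := k) (f' := f') (g' := k')
    (LinearMap.ext comm₁) (LinearMap.ext comm₂) b₂ b₃ exact₁ inj₁ exact₂ inj₂

end

end Groth.Agent.H78.SF
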