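import Mathlib
import Groth.Prelude.Def_SchFin
import Groth.Agent.H78.SchFin.BC3

set_option autoImplicit false
set_option linter.style.haveILetI false

namespace Groth.Agent.H78.SF

open SchFin TensorProduct

universe u

theorem isBaseChange_tensor {R S : Type*} [CommRing R] [CommRing S] [Algebra R S]
    {M N M' N' T : Type*} [AddCommGroup M] [Module R M] [AddCommGroup N] [Module R N]
    [AddCommGroup M'] [Module R M'] [Module S M'] [IsScalarTower R S M']
    [AddCommGroup N'] [Module R N'] [Module S N'] [IsScalarTower R S N']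
    [AddCommGroup T] [Module R T] [Module S T] [IsScalarTower R S T]
    {f : M →ₗ[R] M'} {g : N →ₗ[R] N'} (hf : IsBaseChange S f) (hg : IsBaseChange S g)
    (ι : M' ⊗[S] N' ≃ₗ[S] T)
    (F : M ⊗[R] N →ₗ[R] T) (hF : ∀ m n, F (m ⊗ₜ n) = ι (f m ⊗ₜ g n)) :
    IsBaseChange S F := by
  let e : S ⊗[R] (M ⊗[R] N) ≃ₗ[S] T :=
    ((AlgebraTensorModule.distribBaseChange R S M N).trans
      (TensorProduct.congr hf.equiv hg.equiv)).trans ι
  refine IsBaseChange.of_equiv e (fun x => ?_)
  induction x using TensorProduct.induction_on with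
  | zero => simp
  | tmul a b => simp [e, hF, IsBaseChange.equiv_tmul]
  | add x y hx hy => rw [tmul_add, map_add, hx, hy, map_add]

section
variable {R S : Type u} [CommRing R] [CommRing S] (g : R →+* S)

/-- base change commutes with tensor products (semilinear form) -/
theorem IsBCAlong.tensor {M M' N N' T : Type u} [AddCommGroup M] [AddCommGroup M'] [AddCommGroup N]
    [AddCommGroup N'] [AddCommGroup T] [Module R M] [Module R M'] [Module S N] [Module S N']
    [Module S T]
    (f : M →ₛₗ[g] N) (f' : M' →ₛₗ[g] N') (ι : N ⊗[S] N' ≃ₗ[S] T) (F : (M ⊗[R] M') →ₛₗ[g] T)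
    (hF : ∀ x y, F (x ⊗ₜ y) = ι (f x ⊗ₜ f' y)) (hf : IsBCAlong g f) (hf' : IsBCAlong g f') :
    IsBCAlong g F := by
  letI : Algebra R S := g.toAlgebra
  letI : Module R N := Module.compHom N g
  haveI : IsScalarTower R S N := IsScalarTower.of_algebraMap_smul fun _ _ => rfl
  letI : Module R N' := Module.compHom N' g
  haveI : IsScalarTower R S N' := IsScalarTower.of_algebraMap_smul fun _ _ => rfl
  letI : Module R T := Module.compHom T g
  haveI : IsScalarTower R S T := IsScalarTower.of_algebraMap_smul fun _ _ => rfl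
  let fl : M →ₗ[R] N := { toFun := f, map_add' := f.map_add, map_smul' := f.map_smulₛₗ }
  let fl' : M' →ₗ[R] N' := { toFun := f', map_add' := f'.map_add, map_smul' := f'.map_smulₛₗ }
  have h1 : IsBaseChange S fl := hf
  have h2 : IsBaseChange S fl' := hf'
  let FL' : M ⊗[R] M' →ₗ[R] T :=
    { toFun := F, map_add' := F.map_add
      map_smul' := fun r x => by
        show F (r • x) = r • F x
        rw [F.map_smulₛₗ]; rfl }
  show IsBaseChange S FL'
  exact isBaseChange_tensor h1 h2 ι FL' hF

/-- base change commutes with finite powers (semilinear form) -/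
theorem IsBCAlong.finitePow (ι : Type u) [Finite ι] {M N : Type u} [AddCommGroup M] [AddCommGroup N]
    [Module R M] [Module S N] (f : M →ₛₗ[g] N) (F : (ι → M) →ₛₗ[g] (ι → N))
    (hF : ∀ x i, F x i = f (x i)) (hf : IsBCAlong g f) : IsBCAlong g F := by
  letI : Algebra R S := g.toAlgebra
  letI : Module R N := Module.compHom N g
  haveI : IsScalarTower R S N := IsScalarTower.of_algebraMap_smul fun _ _ => rfl
  letI : Module R (ι → N) := Module.compHom (ι → N) g
  haveI : IsScalarTower R S (ι → N) := IsScalarTower.of_algebraMap_smul fun _ _ => rfl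
  let fl : M →ₗ[R] N := { toFun := f, map_add' := f.map_add, map_smul' := f.map_smulₛₗ }
  have h1 : IsBaseChange S fl := hf
  have h3 := IsBaseChange.finitePow ι h1
  let FL' : (ι → M) →ₗ[R] (ι → N) :=
    { toFun := F, map_add' := F.map_add
      map_smul' := fun r x => by
        show F (r • x) = r • F x
        rw [F.map_smulₛₗ]; rfl }
  have e : FL' = fl.compLeft ι := LinearMap.ext fun x => funext fun i => hF x i
  show IsBaseChange S FL'
  rw [e]
  exact h3

/-- the ring map itself is a base change -/
theorem IsBCAlong.self (F : R →ₛₗ[g] S) (hF : ∀ r, F r = g r) : IsBCAlong g F := by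
  letI : Algebra R S := g.toAlgebra
  letI : Module R S := Module.compHom S g
  haveI : IsScalarTower R S S := IsScalarTower.of_algebraMap_smul fun _ _ => rfl
  let FL : R →ₗ[R] S := { toFun := F, map_add' := F.map_add, map_smul' := F.map_smulₛₗ }
  show IsBaseChange S FL
  refine IsBaseChange.of_equiv (AlgebraTensorModule.rid R S S) (fun r => ?_)
  rw [AlgebraTensorModule.rid_tmul]
  show g r * 1 = F r
  rw [hF, mul_one]

end

end Groth.Agent.H78.SF
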