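import Mathlib

set_option autoImplicit false
set_option linter.style.haveILetI false

namespace Groth.Agent.H78.SF

universe u

/-- the kernel of the structure map of a flat finite algebra is an idempotent ideal -/
theorem ker_le_sq_of_flat_finite {A B : Type*} [CommRing A] [CommRing B] [Algebra A B]
    [Module.Flat A B] [Module.Finite A B] :
    RingHom.ker (algebraMap A B) ≤ RingHom.ker (algebraMap A B) * RingHom.ker (algebraMap A B) := by
  intro x hx
  have hx0 : x • (1 : B) = 0 := by
    rw [Algebra.smul_def, mul_one]; exact hx
  obtain ⟨k, a, y, hy, ha⟩ := Module.Flat.isTrivialRelation_of_sum_smul_eq_zero (R := A) (M := B)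
    (ι := Unit) (f := fun _ => x) (x := fun _ => (1 : B)) (by simpa using hx0)
  -- the ideal generated by the `a j`
  set J : Ideal A := Ideal.span (Set.range (a ())) with hJ
  have hxJ : ∀ r ∈ J, x * r = 0 := by
    intro r hr
    induction hr using Submodule.span_induction with
    | mem r hr =>
      obtain ⟨j, rfl⟩ := hr
      have := ha j
      simpa using this
    | zero => simp
    | add r s _ _ hr hs => rw [mul_add, hr, hs, add_zero]
    | smul c r _ hr =>
      rw [smul_eq_mul, mul_left_comm, hr, mul_zero]
  have h1 : (1 : B) ∈ J • (⊤ : Submodule A B) := by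
    have hy1 : (1 : B) = ∑ j, a () j • y j := hy ()
    rw [hy1]
    refine Submodule.sum_mem _ fun j _ => ?_
    exact Submodule.smul_mem_smul (Ideal.subset_span ⟨j, rfl⟩) Submodule.mem_top
  have htop : (⊤ : Submodule A B) ≤ J • (⊤ : Submodule A B) := by
    intro b _
    have : b = b • (1 : B) := by rw [smul_eq_mul, mul_one]
    have hb : b • (1 : B) ∈ J • (⊤ : Submodule A B) := by
      -- `J • ⊤` is stable under multiplication by `B`
      refine Submodule.smul_induction_on h1 ?_ ?_
      · intro r hr n _
        have : b • (r • n) = r • (b • n) := by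
          rw [smul_eq_mul, smul_eq_mul, Algebra.mul_smul_comm]
        rw [this]
        exact Submodule.smul_mem_smul hr Submodule.mem_top
      · intro m n hm hn
        rw [smul_add]
        exact Submodule.add_mem _ hm hn
    rw [this]; exact hb
  obtain ⟨r, hr1, hr0⟩ := Submodule.exists_sub_one_mem_and_smul_eq_zero_of_fg_of_le_smul J
    (⊤ : Submodule A B) Module.Finite.fg_top htop
  have hrI : r ∈ RingHom.ker (algebraMap A B) := by
    have := hr0 1 Submodule.mem_top
    rw [Algebra.smul_def, mul_one] at this
    exact this
  have hx' : x = x * r := by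
    have : x * (r - 1) = 0 := hxJ _ hr1
    rw [mul_sub, mul_one, sub_eq_zero] at this
    exact this.symm
  rw [hx']
  exact Ideal.mul_mem_mul hx hrI

theorem isIdempotentElem_ker_of_flat_finite {A B : Type*} [CommRing A] [CommRing B] [Algebra A B]
    [Module.Flat A B] [Module.Finite A B] :
    IsIdempotentElem (RingHom.ker (algebraMap A B)) :=
  le_antisymm Ideal.mul_le_right ker_le_sq_of_flat_finite

/-- the kernel of a map of finite étale algebras over a Noetherian ring is generated by an
idempotent -/
theorem exists_idem_ker {R A B : Type u} [CommRing R] [CommRing A] [CommRing B] [Algebra R A]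
    [Algebra R B] [IsNoetherianRing R] [Module.Finite R A] [Module.Finite R B]
    [Algebra.Etale R A] [Algebra.Etale R B] (f : A →ₐ[R] B) :
    ∃ e : A, IsIdempotentElem e ∧ RingHom.ker f = Ideal.span {e} := by
  letI : Algebra A B := f.toRingHom.toAlgebra
  haveI : IsScalarTower R A B := IsScalarTower.of_algebraMap_eq fun r => (f.commutes r).symm
  haveI : Algebra.Etale A B := Algebra.Etale.of_restrictScalars R A B
  haveI : Module.Finite A B := Module.Finite.of_restrictScalars_finite R A B
  haveI : IsNoetherianRing A := isNoetherian_of_tower R (isNoetherian_of_isNoetherianRing_of_finite R A)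
  have hid : IsIdempotentElem (RingHom.ker (algebraMap A B)) := isIdempotentElem_ker_of_flat_finite
  have hfg : (RingHom.ker (algebraMap A B)).FG := IsNoetherian.noetherian _
  obtain ⟨e, he, hI⟩ := (Ideal.isIdempotentElem_iff_of_fg _ hfg).mp hid
  exact ⟨e, he, hI⟩

end Groth.Agent.H78.SF
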