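import Mathlib
import Groth.Agent.H78.SchFin.KerIdem

set_option autoImplicit false
set_option linter.style.haveILetI false

namespace Groth.Agent.H78.SF

open TensorProduct

universe u

lemma etale_quot_idem' {R A : Type u} [CommRing R] [CommRing A] [Algebra R A] [Algebra.Etale R A]
    (e : A) (he : IsIdempotentElem e) : Algebra.Etale R (A ⧸ Ideal.span {e}) := by
  have he' : IsIdempotentElem (1 - e) := he.one_sub
  haveI : IsLocalization.Away (1 - e) (A ⧸ Ideal.span {1 - (1 - e)}) :=
    IsLocalization.Away.quotient_of_isIdempotentElem he'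
  have h1 : (1 : A) - (1 - e) = e := sub_sub_cancel 1 e
  rw [h1] at this
  haveI : Algebra.Etale A (A ⧸ Ideal.span {e}) := Algebra.Etale.of_isLocalizationAway (1 - e)
  exact Algebra.Etale.comp R A (A ⧸ Ideal.span {e})

section Split

variable {S : Type u} [CommRing S] {n : ℕ} {G : Type u} [Fintype G] [DecidableEq G]
  (σ : G → ((Fin n → S) →ₐ[S] (Fin n → S)))

/-- matrix coefficients of an endomorphism of a split algebra -/
def coef (x : G × Fin n) (j : Fin n) : S := σ x.1 (Pi.single j 1) x.2

lemma coef_mul_self (x : G × Fin n) (j : Fin n) : coef σ x j * coef σ x j = coef σ x j := by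
  unfold coef
  have e : (Pi.single j 1 : Fin n → S) * Pi.single j 1 = Pi.single j 1 := by
    funext i
    by_cases h : i = j
    · subst h; simp
    · simp [h]
  rw [← Pi.mul_apply, ← map_mul, e]

lemma coef_mul_ne (x : G × Fin n) {j j' : Fin n} (h : j ≠ j') : coef σ x j * coef σ x j' = 0 := by
  unfold coef
  rw [← Pi.mul_apply, ← map_mul]
  have : (Pi.single j 1 : Fin n → S) * Pi.single j' 1 = 0 := by
    funext i
    by_cases h1 : i = j
    · subst h1; simp [Pi.single_apply, h]
    · simp [Pi.single_apply, h1]
  rw [this, map_zero]; rfl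

lemma coef_mul (x : G × Fin n) (j j' : Fin n) :
    coef σ x j * coef σ x j' = if j = j' then coef σ x j else 0 := by
  split_ifs with h
  · subst h; exact coef_mul_self σ x j
  · exact coef_mul_ne σ x h

lemma sum_coef (x : G × Fin n) : ∑ j, coef σ x j = 1 := by
  unfold coef
  rw [← Finset.sum_apply, ← map_sum, Finset.univ_sum_single]
  show (σ x.1) 1 x.2 = 1
  rw [map_one]; rfl

lemma apply_eq_sum (g : G) (t : Fin n → S) (i : Fin n) :
    σ g t i = ∑ j, t j * coef σ (g, i) j := by
  have ht : t = ∑ j, t j • (Pi.single j 1 : Fin n → S) := by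
    funext i
    rw [Finset.sum_apply]
    simp [Pi.single_apply]
  conv_lhs => rw [ht]
  rw [map_sum, Finset.sum_apply]
  refine Finset.sum_congr rfl fun j _ => ?_
  rw [map_smul]; rfl

/-- the idempotent attached to a candidate permutation datum -/
noncomputable def atom (π : G × Fin n → Fin n) : S := ∏ x, coef σ x (π x)

lemma sum_atom : ∑ π : G × Fin n → Fin n, atom σ π = 1 := by
  unfold atom
  rw [← Fintype.prod_sum (fun x j => coef σ x j)]
  simp [sum_coef]

lemma atom_mul_coef (π : G × Fin n → Fin n) (x : G × Fin n) (j : Fin n) :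
    atom σ π * coef σ x j = if j = π x then atom σ π else 0 := by
  unfold atom
  rw [← Finset.prod_erase_mul _ _ (Finset.mem_univ x), mul_assoc, coef_mul]
  split_ifs with h1 h2 h2
  · rfl
  · exact absurd h1.symm h2
  · exact absurd h2.symm h1
  · rw [mul_zero]

lemma atom_mul_atom (π π' : G × Fin n → Fin n) :
    atom σ π * atom σ π' = if π = π' then atom σ π else 0 := by
  unfold atom
  rw [← Finset.prod_mul_distrib]
  split_ifs with h
  · subst h
    exact Finset.prod_congr rfl fun x _ => coef_mul_self σ x _
  · obtain ⟨x, hx⟩ := Function.ne_iff.mp h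
    exact Finset.prod_eq_zero (Finset.mem_univ x) (coef_mul_ne σ x hx)

lemma atom_mul_apply (π : G × Fin n → Fin n) (g : G) (t : Fin n → S) (i : Fin n) :
    atom σ π * σ g t i = atom σ π * t (π (g, i)) := by
  rw [apply_eq_sum, Finset.mul_sum]
  rw [Finset.sum_eq_single (π (g, i))]
  · rw [mul_left_comm, atom_mul_coef, if_pos rfl, mul_comm]
  · intro j _ hj
    rw [mul_left_comm, atom_mul_coef, if_neg hj, mul_zero]
  · intro h; exact absurd (Finset.mem_univ _) h

/-- the subalgebra of common fixed points -/
def eqSub : Subalgebra S (Fin n → S) where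
  carrier := {t | ∀ g, σ g t = t}
  mul_mem' ha hb g := by rw [map_mul, ha g, hb g]
  add_mem' ha hb g := by rw [map_add, ha g, hb g]
  algebraMap_mem' r g := (σ g).commutes r

lemma mem_eqSub (t : Fin n → S) : t ∈ eqSub σ ↔ ∀ g, σ g t = t := Iff.rfl

/-- the equivalence relation on indices generated by a permutation datum -/
def relSetoid (π : G × Fin n → Fin n) : Setoid (Fin n) :=
  Relation.EqvGen.setoid (fun i j => ∃ g, π (g, i) = j)

/-- a representative of the class of an index -/
noncomputable def rep (π : G × Fin n → Fin n) (i : Fin n) : Fin n :=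
  (Quotient.mk (relSetoid π) i).out

lemma rep_rel (π : G × Fin n → Fin n) (i : Fin n) : (relSetoid π).r (rep π i) i :=
  Quotient.exact (Quotient.out_eq _)

lemma rep_eq_of_rel (π : G × Fin n → Fin n) {i j : Fin n} (h : (relSetoid π).r i j) :
    rep π i = rep π j := by
  unfold rep
  rw [Quotient.sound h]

lemma atom_mul_eq_of_rel (π : G × Fin n → Fin n) {t : Fin n → S} (ht : t ∈ eqSub σ) {i j : Fin n}
    (h : (relSetoid π).r i j) : atom σ π * t i = atom σ π * t j := by
  induction h with
  | rel i j hij =>
    obtain ⟨g, rfl⟩ := hij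
    rw [← atom_mul_apply, ht g]
  | refl i => rfl
  | symm i j _ ih => exact ih.symm
  | trans i j k _ _ ih1 ih2 => exact ih1.trans ih2

/-- the retraction onto the fixed points -/
noncomputable def retr : (Fin n → S) →ₐ[S] (Fin n → S) where
  toFun t i := ∑ π : G × Fin n → Fin n, atom σ π * t (rep π i)
  map_one' := by
    funext i
    simp [sum_atom]
  map_mul' t t' := by
    funext i
    show ∑ π : G × Fin n → Fin n, atom σ π * (t (rep π i) * t' (rep π i)) =
      (∑ π : G × Fin n → Fin n, atom σ π * t (rep π i)) *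
        ∑ π : G × Fin n → Fin n, atom σ π * t' (rep π i)
    rw [Finset.sum_mul_sum]
    refine Finset.sum_congr rfl fun π _ => ?_
    rw [Finset.sum_eq_single π]
    · rw [mul_mul_mul_comm, atom_mul_atom, if_pos rfl]
    · intro π' _ hπ'
      rw [mul_mul_mul_comm, atom_mul_atom, if_neg (Ne.symm hπ'), zero_mul]
    · intro h; exact absurd (Finset.mem_univ _) h
  map_zero' := by
    funext i
    simp
  map_add' t t' := by
    funext i
    simp [mul_add, Finset.sum_add_distrib]
  commutes' r := by
    funext i
    show ∑ π : G × Fin n → Fin n, atom σ π * r = r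
    rw [← Finset.sum_mul, sum_atom, one_mul]

lemma retr_apply (t : Fin n → S) (i : Fin n) :
    retr σ t i = ∑ π : G × Fin n → Fin n, atom σ π * t (rep π i) := rfl

lemma atom_mul_retr (π : G × Fin n → Fin n) (t : Fin n → S) (i : Fin n) :
    atom σ π * retr σ t i = atom σ π * t (rep π i) := by
  rw [retr_apply, Finset.mul_sum, Finset.sum_eq_single π]
  · rw [← mul_assoc, atom_mul_atom, if_pos rfl]
  · intro π' _ hπ'
    rw [← mul_assoc, atom_mul_atom, if_neg (Ne.symm hπ'), zero_mul]
  · intro h; exact absurd (Finset.mem_univ _) h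

lemma eq_of_atom_mul_eq {a b : S} (h : ∀ π : G × Fin n → Fin n, atom σ π * a = atom σ π * b) :
    a = b := by
  rw [← one_mul a, ← one_mul b, ← sum_atom σ, Finset.sum_mul, Finset.sum_mul]
  exact Finset.sum_congr rfl fun π _ => h π

lemma retr_mem (t : Fin n → S) : retr σ t ∈ eqSub σ := by
  intro g
  funext i
  apply eq_of_atom_mul_eq σ
  intro π
  rw [atom_mul_apply, atom_mul_retr, atom_mul_retr]
  congr 2
  apply rep_eq_of_rel
  exact (relSetoid π).symm (Relation.EqvGen.rel _ _ ⟨g, rfl⟩)

lemma retr_of_mem {t : Fin n → S} (ht : t ∈ eqSub σ) : retr σ t = t := by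
  funext i
  apply eq_of_atom_mul_eq σ
  intro π
  rw [atom_mul_retr]
  exact atom_mul_eq_of_rel σ π ht (rep_rel π i)

/-- the fixed points of a finite family of endomorphisms of a split algebra over a Noetherian
ring form an étale algebra -/
theorem etale_eqSub [IsNoetherianRing S] : Algebra.Etale S (eqSub σ) := by
  let ρ' : (Fin n → S) →ₐ[S] eqSub σ := (retr σ).codRestrict (eqSub σ) (retr_mem σ)
  have hsurj : Function.Surjective ρ' := fun t =>
    ⟨t.1, Subtype.ext (retr_of_mem σ t.2)⟩
  obtain ⟨e, he, hker'⟩ := exists_idem_ker (retr σ)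
  have hker : RingHom.ker ρ' = Ideal.span {e} := by
    rw [← hker']
    ext t
    rw [RingHom.mem_ker, RingHom.mem_ker]
    constructor
    · intro h; exact congrArg Subtype.val h
    · intro h; exact Subtype.ext h
  have h1 : Algebra.Etale S ((Fin n → S) ⧸ Ideal.span {e}) := etale_quot_idem' e he
  let φ : ((Fin n → S) ⧸ RingHom.ker ρ') ≃ₐ[S] eqSub σ :=
    Ideal.quotientKerAlgEquivOfSurjective hsurj
  rw [hker] at φ
  exact Algebra.Etale.of_equiv φ

end Split

section Descent

variable {R E S : Type u} [CommRing R] [CommRing E] [CommRing S] [Algebra R E] [Algebra R S]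
  {G : Type u} [Fintype G] [DecidableEq G] (σ : G → (E →ₐ[R] E))

/-- the subalgebra of common fixed points of a family of endomorphisms -/
def fixSub : Subalgebra R E where
  carrier := {x | ∀ g, σ g x = x}
  mul_mem' ha hb g := by rw [map_mul, ha g, hb g]
  add_mem' ha hb g := by rw [map_add, ha g, hb g]
  algebraMap_mem' r g := (σ g).commutes r

omit [Fintype G] [DecidableEq G] in
lemma mem_fixSub (x : E) : x ∈ fixSub σ ↔ ∀ g, σ g x = x := Iff.rfl

/-- the difference map whose kernel is the fixed points -/
def diffMap : E →ₗ[R] (G → E) where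
  toFun a g := σ g a - a
  map_add' a b := by funext g; simp; ring
  map_smul' r a := by funext g; simp [smul_sub]

omit [Fintype G] [DecidableEq G] in
lemma exact_fixSub : Function.Exact (fixSub σ).val.toLinearMap (diffMap σ) := by
  intro a
  constructor
  · intro h
    refine ⟨⟨a, fun g => ?_⟩, rfl⟩
    have := congrFun h g
    exact sub_eq_zero.mp this
  · rintro ⟨b, rfl⟩
    funext g
    exact sub_eq_zero.mpr (b.2 g)

/-- an element of the base change fixed by all base changed endomorphisms comes from the base change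
of the fixed points (flat base change of invariants) -/
lemma mem_range_of_fixed [Module.Flat R S] (x : S ⊗[R] E)
    (hx : ∀ g, Algebra.TensorProduct.map (AlgHom.id S S) (σ g) x = x) :
    x ∈ Set.range (Algebra.TensorProduct.map (AlgHom.id S S) (fixSub σ).val) := by
  have hex := Module.Flat.lTensor_exact S (exact_fixSub σ)
  have hz : (diffMap σ).lTensor S x = 0 := by
    apply (TensorProduct.piRight R S S (fun _ : G => E)).injective
    rw [map_zero]
    funext g
    have h1 : ∀ z : S ⊗[R] (G → E), TensorProduct.piRight R S S (fun _ : G => E) z g =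
        (LinearMap.proj g : (G → E) →ₗ[R] E).lTensor S z := by
      intro z
      induction z using TensorProduct.induction_on with
      | zero => simp
      | tmul s f => simp
      | add a b ha hb => rw [map_add, map_add, Pi.add_apply, ha, hb]
    rw [h1, ← LinearMap.comp_apply, ← LinearMap.lTensor_comp]
    have h2 : (LinearMap.proj g : (G → E) →ₗ[R] E) ∘ₗ diffMap σ =
        (σ g).toLinearMap - LinearMap.id := by
      ext a; rfl
    rw [h2]
    have h3 : ∀ z : S ⊗[R] E, ((σ g).toLinearMap - LinearMap.id).lTensor S z =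
        Algebra.TensorProduct.map (AlgHom.id S S) (σ g) z - z := by
      intro z
      induction z using TensorProduct.induction_on with
      | zero => simp
      | tmul s a => simp
      | add a b ha hb =>
        rw [map_add, map_add, ha, hb]
        abel
    rw [h3, hx g, sub_self]; rfl
  obtain ⟨y, hy⟩ := (hex x).mp hz
  exact ⟨y, hy⟩

/-- the fixed points of a finite family of endomorphisms of an algebra split by a faithfully flat
Noetherian algebra form an étale algebra -/
theorem etale_fixSub [Module.FaithfullyFlat R S] [IsNoetherianRing S] (n : ℕ)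
    (e : S ⊗[R] E ≃ₐ[S] (Fin n → S)) : Algebra.Etale R (fixSub σ) := by
  let σ' : G → (S ⊗[R] E →ₐ[S] S ⊗[R] E) := fun g =>
    Algebra.TensorProduct.map (AlgHom.id S S) (σ g)
  let σ'' : G → ((Fin n → S) →ₐ[S] (Fin n → S)) := fun g =>
    (e.toAlgHom.comp (σ' g)).comp e.symm.toAlgHom
  let ι' : S ⊗[R] fixSub σ →ₐ[S] S ⊗[R] E :=
    Algebra.TensorProduct.map (AlgHom.id S S) (fixSub σ).val
  have hι' : ∀ g x, σ' g (ι' x) = ι' x := by
    intro g x
    have : (σ' g).comp ι' = ι' := by
      apply Algebra.TensorProduct.ext'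
      intro s a
      show (Algebra.TensorProduct.map (AlgHom.id S S) (σ g))
        ((Algebra.TensorProduct.map (AlgHom.id S S) (fixSub σ).val) (s ⊗ₜ a)) =
        (Algebra.TensorProduct.map (AlgHom.id S S) (fixSub σ).val) (s ⊗ₜ a)
      rw [Algebra.TensorProduct.map_tmul, Algebra.TensorProduct.map_tmul]
      show s ⊗ₜ[R] (σ g a.1) = s ⊗ₜ[R] a.1
      rw [a.2 g]
    exact congrArg (fun k : S ⊗[R] fixSub σ →ₐ[S] S ⊗[R] E => k x) this
  let Φ : S ⊗[R] fixSub σ →ₐ[S] (Fin n → S) := e.toAlgHom.comp ι'
  have hΦmem : ∀ x, Φ x ∈ eqSub σ'' := by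
    intro x g
    show e (σ' g (e.symm (e (ι' x)))) = e (ι' x)
    rw [AlgEquiv.symm_apply_apply, hι']
  let Φ' : S ⊗[R] fixSub σ →ₐ[S] eqSub σ'' := Φ.codRestrict (eqSub σ'') hΦmem
  have hinj : Function.Injective Φ' := by
    intro x y hxy
    have h1 : Φ x = Φ y := congrArg Subtype.val hxy
    have h2 : ι' x = ι' y := e.injective h1
    exact Module.Flat.lTensor_preserves_injective_linearMap (M := S)
      (fixSub σ).val.toLinearMap Subtype.val_injective h2
  have hsurj : Function.Surjective Φ' := by
    intro y
    have hy : ∀ g, σ' g (e.symm y.1) = e.symm y.1 := by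
      intro g
      have := y.2 g
      apply e.injective
      rw [AlgEquiv.apply_symm_apply]
      exact this
    obtain ⟨x, hx⟩ := mem_range_of_fixed σ (e.symm y.1) hy
    refine ⟨x, Subtype.ext ?_⟩
    show e (ι' x) = y.1
    rw [show ι' x = e.symm y.1 from hx, AlgEquiv.apply_symm_apply]
  haveI : Algebra.Etale S (eqSub σ'') := etale_eqSub σ''
  haveI : Algebra.Etale S (S ⊗[R] fixSub σ) :=
    Algebra.Etale.of_equiv (AlgEquiv.ofBijective Φ' ⟨hinj, hsurj⟩).symm
  exact Algebra.Etale.of_etale_tensorProduct_of_faithfullyFlat S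

end Descent

end Groth.Agent.H78.SF
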