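import Mathlib
import Groth.Prelude.Def_SchFin2
import Groth.Agent.H78.SchFin.BC4
import Groth.Agent.H78.SchFin.InvEtale

set_option autoImplicit false
set_option linter.style.haveILetI false

namespace Groth.Agent.H78.SF

open SchFin CategoryTheory CategoryTheory.Limits TensorProduct

universe u

variable {X : RSpace.{u}} {G : Type u} (A : Alg X) (σ : G → (A ⟶ A))

/-- the family of endomorphisms at a point -/
abbrev σat (p : X.pt) : G → (A.carrier p →ₐ[X.ring p] A.carrier p) := fun g => (σ g).app p

lemma res_mem_fixSub {p q : X.pt} (h : p ≤ q) (a : A.carrier p) (ha : a ∈ fixSub (σat A σ p)) :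
    A.res h a ∈ fixSub (σat A σ q) := by
  intro g
  show (σ g).app q (A.res h a) = A.res h a
  rw [← (σ g).compat h, ha g]

/-- the algebra of invariants of a family of endomorphisms -/
def invAlg : Alg X where
  carrier p := fixSub (σat A σ p)
  res {p q} h :=
    { toFun := fun a => ⟨A.res h a.1, res_mem_fixSub A σ h a.1 a.2⟩
      map_one' := Subtype.ext (map_one (A.res h))
      map_mul' := fun a b => Subtype.ext (map_mul (A.res h) a.1 b.1)
      map_zero' := Subtype.ext (map_zero (A.res h))
      map_add' := fun a b => Subtype.ext (map_add (A.res h) a.1 b.1) }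
  res_algebraMap h a := Subtype.ext (A.res_algebraMap h a)
  res_self p b := Subtype.ext (A.res_self p b.1)
  res_comp h h' b := Subtype.ext (A.res_comp h h' b.1)

/-- the inclusion of the invariants -/
def invIncl : invAlg A σ ⟶ A :=
  ⟨fun p => (fixSub (σat A σ p)).val, fun _ _ => rfl⟩

lemma invIncl_injective (p : X.pt) : Function.Injective ((invIncl A σ).app p) :=
  Subtype.val_injective

lemma invIncl_comp (g : G) : invIncl A σ ≫ σ g = invIncl A σ := by
  apply Alg.hom_ext; intro p
  apply AlgHom.ext; intro a
  exact a.2 g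

/-- maps into the invariants -/
def invLift {T : Alg X} (m : T ⟶ A) (hm : ∀ g, m ≫ σ g = m) : T ⟶ invAlg A σ :=
  ⟨fun p => (m.app p).codRestrict (fixSub (σat A σ p)) (fun t g =>
      congrArg (fun k : T ⟶ A => k.app p t) (hm g)),
    fun h t => Subtype.ext (m.compat h t)⟩

lemma invLift_incl {T : Alg X} (m : T ⟶ A) (hm : ∀ g, m ≫ σ g = m) :
    invLift A σ m hm ≫ invIncl A σ = m := by
  apply Alg.hom_ext; intro p; rfl

lemma invAlg_isQcoh [Finite G] (hX : X.IsFinSp) (hA : A.IsQcoh) : (invAlg A σ).IsQcoh := by
  intro p q h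
  let h₃ : (G → A.toMod.carrier p) →ₛₗ[X.res h] (G → A.toMod.carrier q) :=
    { toFun := fun x g => A.toMod.res h (x g)
      map_add' := fun x y => funext fun g => (A.toMod.res h).map_add _ _
      map_smul' := fun r x => funext fun g => (A.toMod.res h).map_smulₛₗ _ _ }
  have hb₃ : IsBCAlong (X.res h) h₃ :=
    IsBCAlong.finitePow (X.res h) G (A.toMod.res h) h₃ (fun _ _ => rfl) (hA p q h)
  refine IsBCAlong.of_left_exact (X.res h) (hX.2 p q h) ((invAlg A σ).toMod.res h)
    (A.toMod.res h) h₃
    (fixSub (σat A σ p)).val.toLinearMap (diffMap (E := A.carrier p) (σat A σ p))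
    (fixSub (σat A σ q)).val.toLinearMap (diffMap (E := A.carrier q) (σat A σ q))
    (fun x => rfl) ?_ (hA p q h) hb₃
    (exact_fixSub (E := A.carrier p) (σat A σ p)) Subtype.val_injective
    (exact_fixSub (E := A.carrier q) (σat A σ q)) Subtype.val_injective
  intro (a : A.carrier p)
  funext g
  show A.res h ((σ g).app p a - a) = (σ g).app q (A.res h a) - A.res h a
  rw [map_sub, (σ g).compat h]

lemma invAlg_isEtCover [Finite G] (hX : X.IsFinSp) (hA : A.IsEtCover)
    (hlt : ∃ (B : Alg X) (n : ℕ), B.IsCovering ∧
      ∀ p : X.pt, Nonempty (TensorProduct (X.ring p) (B.carrier p) (A.carrier p) ≃ₐ[B.carrier p]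
        (Fin n → B.carrier p))) : (invAlg A σ).IsEtCover := by
  classical
  haveI : Fintype G := Fintype.ofFinite G
  refine ⟨invAlg_isQcoh A σ hX hA.1, fun p => ?_⟩
  haveI := hX.1 p
  haveI := (hA.2 p).1
  haveI := (hA.2 p).2
  obtain ⟨B, n, hB, hiso⟩ := hlt
  haveI := (hB.2 p).1
  haveI := (hB.2 p).2
  obtain ⟨e⟩ := hiso p
  haveI : IsNoetherianRing (B.carrier p) := IsNoetherianRing.of_finite (X.ring p) (B.carrier p)
  constructor
  · haveI : IsNoetherian (X.ring p) (A.carrier p) := isNoetherian_of_isNoetherianRing_of_finite _ _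
    exact Module.Finite.of_injective (fixSub (σat A σ p)).val.toLinearMap Subtype.val_injective
  · exact etale_fixSub (S := B.carrier p) (σat A σ p) n e

section Limit

variable {G' : Type u} [Group G'] (F : SingleObj G' ⥤ FEt X)

/-- the endomorphisms of the underlying algebra given by a group action -/
def actMap (g : G') : (F.obj (SingleObj.star G')).obj ⟶ (F.obj (SingleObj.star G')).obj :=
  (F.map (X := SingleObj.star G') (Y := SingleObj.star G') g).hom

variable (hI : (invAlg (F.obj (SingleObj.star G')).obj (actMap F)).IsEtCover)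

/-- the cone of invariants -/
def invCone : Cone F where
  pt := ⟨invAlg (F.obj (SingleObj.star G')).obj (actMap F), hI⟩
  π :=
    { app := fun _ => ObjectProperty.homMk (invIncl (F.obj (SingleObj.star G')).obj (actMap F))
      naturality := fun _ _ g => by
        apply ObjectProperty.hom_ext
        show 𝟙 _ ≫ invIncl (F.obj (SingleObj.star G')).obj (actMap F) =
          invIncl (F.obj (SingleObj.star G')).obj (actMap F) ≫ actMap F g
        rw [Category.id_comp, invIncl_comp] }

/-- the cone of invariants is a limit -/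
def invConeIsLimit : IsLimit (invCone F hI) where
  lift s := ObjectProperty.homMk
    (invLift (F.obj (SingleObj.star G')).obj (actMap F) (s.π.app (SingleObj.star G')).hom
      (fun g => by
        have h := s.π.naturality (X := SingleObj.star G') (Y := SingleObj.star G') g
        have h' := congrArg (fun k => k.hom) h
        simp only [Functor.const_obj_obj, Functor.const_obj_map] at h'
        exact h'.symm.trans (Category.id_comp _)))
  fac s j := by
    apply ObjectProperty.hom_ext
    apply Alg.hom_ext; intro p; rfl
  uniq s m hm := by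
    apply ObjectProperty.hom_ext
    apply Alg.hom_ext; intro p
    apply AlgHom.ext; intro t
    apply Subtype.ext
    have h := hm (SingleObj.star G')
    exact congrArg (fun k => k.hom.app p t) h

end Limit

/-- S15629: limits of finite group actions on étale covers -/
theorem hasLimitsOfShape_singleObj (hX : X.IsSchematic)
    (hlt : ∀ A : FEt X, ∃ (B : Alg X) (n : ℕ), B.IsCovering ∧
      ∀ p : X.pt, Nonempty (TensorProduct (X.ring p) (B.carrier p) (A.obj.carrier p) ≃ₐ[B.carrier p]
        (Fin n → B.carrier p)))
    (G' : Type u) [Group G'] [Finite G'] : HasLimitsOfShape (SingleObj G') (FEt X) := by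
  refine ⟨fun F => ?_⟩
  have hI : (invAlg (F.obj (SingleObj.star G')).obj (actMap F)).IsEtCover :=
    invAlg_isEtCover _ _ hX.1 (F.obj (SingleObj.star G')).property (hlt _)
  exact HasLimit.mk ⟨invCone F hI, invConeIsLimit F hI⟩

end Groth.Agent.H78.SF
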