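import Mathlib
import Groth.Prelude.Def_SchFin2
import Groth.Agent.H78.SchFin.BC3

set_option autoImplicit false
set_option linter.style.haveILetI false

namespace Groth.Agent.H78.SF

open SchFin CategoryTheory

universe u

variable {X : RSpace.{u}}

/-- a global section of an algebra: a compatible family of elements -/
structure Sec (A : Alg X) where
  /-- the value at a point -/
  val : ∀ p, A.carrier p
  compat : ∀ {p q : X.pt} (h : p ≤ q), A.res h (val p) = val q

lemma Sec.span_le_comap {A : Alg X} (t : Sec A) {p q : X.pt} (h : p ≤ q) :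
    Ideal.span {t.val p} ≤ (Ideal.span {t.val q}).comap (A.res h) := by
  rw [Ideal.span_le, Set.singleton_subset_iff]
  show A.res h (t.val p) ∈ Ideal.span {t.val q}
  rw [t.compat h]
  exact Ideal.subset_span rfl

/-- the quotient of an algebra by the ideal generated by a global section -/
def quotAlg (A : Alg X) (t : Sec A) : Alg X where
  carrier p := A.carrier p ⧸ Ideal.span {t.val p}
  res h := Ideal.quotientMap _ (A.res h) (t.span_le_comap h)
  res_algebraMap h a := by
    show Ideal.quotientMap _ (A.res h) (t.span_le_comap h)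
      (Ideal.Quotient.mk _ (algebraMap _ _ a)) = Ideal.Quotient.mk _ (algebraMap _ _ _)
    rw [Ideal.quotientMap_mk, A.res_algebraMap]
  res_self p b := by
    obtain ⟨b, rfl⟩ := Ideal.Quotient.mk_surjective b
    rw [Ideal.quotientMap_mk, A.res_self]
  res_comp h h' b := by
    obtain ⟨b, rfl⟩ := Ideal.Quotient.mk_surjective b
    rw [Ideal.quotientMap_mk, Ideal.quotientMap_mk, Ideal.quotientMap_mk, A.res_comp]

/-- the quotient map -/
def quotMk (A : Alg X) (t : Sec A) : A ⟶ quotAlg A t :=
  ⟨fun p => Ideal.Quotient.mkₐ (X.ring p) (Ideal.span {t.val p}), fun h b => by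
    show Ideal.quotientMap _ (A.res h) (t.span_le_comap h) (Ideal.Quotient.mk _ b) = _
    rw [Ideal.quotientMap_mk]
    rfl⟩

lemma quotMk_surjective (A : Alg X) (t : Sec A) (p : X.pt) :
    Function.Surjective ((quotMk A t).app p) :=
  Ideal.Quotient.mk_surjective

lemma quotMk_eq_zero_iff (A : Alg X) (t : Sec A) (p : X.pt) (a : A.carrier p) :
    (quotMk A t).app p a = 0 ↔ a ∈ Ideal.span {t.val p} :=
  Ideal.Quotient.eq_zero_iff_mem

/-- maps out of the quotient -/
def quotLift {A B : Alg X} (t : Sec A) (f : A ⟶ B) (hf : ∀ p, f.app p (t.val p) = 0) :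
    quotAlg A t ⟶ B :=
  ⟨fun p => Ideal.Quotient.liftₐ (Ideal.span {t.val p}) (f.app p) (by
      intro a ha
      rw [Ideal.mem_span_singleton'] at ha
      obtain ⟨c, rfl⟩ := ha
      rw [map_mul, hf p, mul_zero]), fun {p q} h b => by
    obtain ⟨b, rfl⟩ := Ideal.Quotient.mk_surjective b
    show B.res h (f.app p b) = f.app q (A.res h b)
    exact f.compat h b⟩

lemma quotLift_mk {A B : Alg X} (t : Sec A) (f : A ⟶ B) (hf : ∀ p, f.app p (t.val p) = 0)
    (p : X.pt) (a : A.carrier p) :
    (quotLift t f hf).app p ((quotMk A t).app p a) = f.app p a := rfl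

lemma quotAlg_isQcoh {A : Alg X} (hA : A.IsQcoh) (t : Sec A) : (quotAlg A t).IsQcoh := by
  intro p q h
  refine IsBCAlong.of_right_exact (X.res h) (A.toMod.res h) (A.toMod.res h)
    ((quotAlg A t).toMod.res h)
    (LinearMap.mulLeft (X.ring p) (t.val p))
    (Ideal.Quotient.mkₐ (X.ring p) (Ideal.span {t.val p})).toLinearMap
    (LinearMap.mulLeft (X.ring q) (t.val q))
    (Ideal.Quotient.mkₐ (X.ring q) (Ideal.span {t.val q})).toLinearMap
    ?_ ?_ (hA p q h) (hA p q h) ?_ ?_ ?_ ?_
  · intro (x : A.carrier p)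
    show A.res h (t.val p * x) = t.val q * A.res h x
    rw [map_mul, t.compat h]
  · intro (x : A.carrier p)
    show Ideal.quotientMap _ (A.res h) (t.span_le_comap h) (Ideal.Quotient.mk _ x) =
      Ideal.Quotient.mk _ (A.res h x)
    rw [Ideal.quotientMap_mk]
  · intro (y : A.carrier p)
    show Ideal.Quotient.mk _ y = 0 ↔ y ∈ Set.range (LinearMap.mulLeft (X.ring p) (t.val p))
    rw [Ideal.Quotient.eq_zero_iff_mem, Ideal.mem_span_singleton']
    constructor
    · rintro ⟨a, rfl⟩; exact ⟨a, mul_comm _ _⟩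
    · rintro ⟨a, rfl⟩; exact ⟨a, mul_comm _ _⟩
  · exact (Ideal.Quotient.mk_surjective :
      Function.Surjective (Ideal.Quotient.mk (Ideal.span {t.val p})))
  · intro (y : A.carrier q)
    show Ideal.Quotient.mk _ y = 0 ↔ y ∈ Set.range (LinearMap.mulLeft (X.ring q) (t.val q))
    rw [Ideal.Quotient.eq_zero_iff_mem, Ideal.mem_span_singleton']
    constructor
    · rintro ⟨a, rfl⟩; exact ⟨a, mul_comm _ _⟩
    · rintro ⟨a, rfl⟩; exact ⟨a, mul_comm _ _⟩
  · exact (Ideal.Quotient.mk_surjective :
      Function.Surjective (Ideal.Quotient.mk (Ideal.span {t.val q})))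

lemma quotAlg_finite {A : Alg X} (t : Sec A) (p : X.pt)
    [Module.Finite (X.ring p) (A.carrier p)] :
    Module.Finite (X.ring p) ((quotAlg A t).carrier p) :=
  Module.Finite.of_surjective (Ideal.Quotient.mkₐ (X.ring p) (Ideal.span {t.val p})).toLinearMap
    Ideal.Quotient.mk_surjective

lemma etale_quot_idem {R A : Type u} [CommRing R] [CommRing A] [Algebra R A] [Algebra.Etale R A]
    (e : A) (he : IsIdempotentElem e) : Algebra.Etale R (A ⧸ Ideal.span {e}) := by
  have he' : IsIdempotentElem (1 - e) := he.one_sub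
  haveI : IsLocalization.Away (1 - e) (A ⧸ Ideal.span {1 - (1 - e)}) :=
    IsLocalization.Away.quotient_of_isIdempotentElem he'
  have h1 : (1 : A) - (1 - e) = e := sub_sub_cancel 1 e
  rw [h1] at this
  haveI : Algebra.Etale A (A ⧸ Ideal.span {e}) := Algebra.Etale.of_isLocalizationAway (1 - e)
  exact Algebra.Etale.comp R A (A ⧸ Ideal.span {e})

lemma quotAlg_isEtCover {A : Alg X} (hA : A.IsEtCover) (t : Sec A)
    (ht : ∀ p, IsIdempotentElem (t.val p)) : (quotAlg A t).IsEtCover := by
  refine ⟨quotAlg_isQcoh hA.1 t, fun p => ?_⟩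
  haveI := (hA.2 p).1
  haveI := (hA.2 p).2
  exact ⟨quotAlg_finite t p, etale_quot_idem (t.val p) (ht p)⟩

end Groth.Agent.H78.SF
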