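import Mathlib
import Groth.Prelude.Def_SchFin2
import Groth.Agent.H78.SchFin.BC3
import Groth.Agent.H78.SchFin.KerIdem
import Groth.Agent.H78.SchFin.AlgQuot

set_option autoImplicit false
set_option linter.style.haveILetI false

namespace Groth.Agent.H78.SF

open SchFin CategoryTheory

universe u

variable {X : RSpace.{u}}

/-- flat base change of kernels: the kernel at a larger point is generated by the restriction of
the kernel at a smaller point -/
theorem ker_span (hX : X.IsFinSp) {A B : Alg X} (hA : A.IsQcoh) (hB : B.IsQcoh) (f : A ⟶ B)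
    {p q : X.pt} (h : p ≤ q) (x : A.carrier q) (hx : f.app q x = 0) :
    x ∈ Ideal.span (A.res h '' {a | f.app p a = 0}) := by
  let K₁ : Submodule (X.ring p) (A.toMod.carrier p) := LinearMap.ker (f.app p).toLinearMap
  let K₂ : Submodule (X.ring q) (A.toMod.carrier q) := LinearMap.ker (f.app q).toLinearMap
  let h₁ : K₁ →ₛₗ[X.res h] K₂ :=
    ((A.toMod.res h).domRestrict K₁).codRestrict K₂ (fun a => by
      have ha : f.app p (a.1 : A.carrier p) = 0 := a.2
      show f.app q (A.res h (a.1 : A.carrier p)) = 0
      calc f.app q (A.res h (a.1 : A.carrier p)) = B.res h (f.app p (a.1 : A.carrier p)) :=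
            (f.compat h _).symm
        _ = B.res h 0 := congrArg _ ha
        _ = 0 := map_zero _)
  have hbc : IsBCAlong (X.res h) h₁ :=
    IsBCAlong.of_left_exact (X.res h) (hX.2 p q h) h₁ (A.toMod.res h) (B.toMod.res h)
      K₁.subtype (f.app p).toLinearMap K₂.subtype (f.app q).toLinearMap
      (fun x => rfl) (fun x => f.compat h x) (hA p q h) (hB p q h)
      (LinearMap.exact_subtype_ker_map _) Subtype.val_injective
      (LinearMap.exact_subtype_ker_map _) Subtype.val_injective
  obtain ⟨I, hI⟩ : ∃ I : Ideal (A.carrier q), I = Ideal.span (A.res h '' {a | f.app p a = 0}) :=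
    ⟨_, rfl⟩
  have key : ∀ n : K₂, (n.1 : A.carrier q) ∈ I := by
    intro n
    refine IsBCAlong.induction_on (X.res h) h₁ hbc
      (motive := fun n => (n.1 : A.carrier q) ∈ I) ?_ ?_ ?_ ?_ n
    · exact I.zero_mem
    · intro m
      rw [hI]
      exact Ideal.subset_span ⟨m.1, m.2, rfl⟩
    · intro s n hn
      exact Submodule.smul_of_tower_mem I s hn
    · intro a b ha hb
      exact I.add_mem ha hb
  rw [← hI]
  exact key ⟨x, hx⟩

/-- two idempotents each a multiple of the other are equal -/
lemma idem_eq_of_dvd {A : Type*} [CommRing A] {e e' : A} (he : IsIdempotentElem e)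
    (he' : IsIdempotentElem e') (h1 : e ∈ Ideal.span {e'}) (h2 : e' ∈ Ideal.span {e}) :
    e = e' := by
  rw [Ideal.mem_span_singleton'] at h1 h2
  obtain ⟨c, hc⟩ := h1
  obtain ⟨d, hd⟩ := h2
  have e1 : e * e' = e := by rw [← hc, mul_assoc, he'.eq]
  have e2 : e' * e = e' := by rw [← hd, mul_assoc, he.eq]
  rw [← e1, mul_comm, e2]

/-- idempotent generators of the kernels of a morphism of étale covers form a global section -/
theorem exists_ker_sec (hX : X.IsFinSp) {A B : Alg X} (hA : A.IsEtCover) (hB : B.IsEtCover)
    (f : A ⟶ B) :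
    ∃ t : Sec A, (∀ p, IsIdempotentElem (t.val p)) ∧
      ∀ p, RingHom.ker (f.app p) = Ideal.span {t.val p} := by
  have hex : ∀ p, ∃ e : A.carrier p, IsIdempotentElem e ∧ RingHom.ker (f.app p) = Ideal.span {e} := by
    intro p
    haveI := hX.1 p
    haveI := (hA.2 p).1
    haveI := (hA.2 p).2
    haveI := (hB.2 p).1
    haveI := (hB.2 p).2
    exact exists_idem_ker (f.app p)
  choose e he hker using hex
  refine ⟨⟨e, ?_⟩, he, hker⟩
  intro p q h
  have hε : IsIdempotentElem (A.res h (e p)) := by
    show A.res h (e p) * A.res h (e p) = A.res h (e p)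
    rw [← map_mul, (he p).eq]
  apply idem_eq_of_dvd hε (he q)
  · -- `res (e p)` lies in the kernel at `q`
    rw [← hker q, RingHom.mem_ker]
    have hp : f.app p (e p) = 0 := by
      have : e p ∈ RingHom.ker (f.app p) := by rw [hker p]; exact Ideal.subset_span rfl
      exact this
    rw [← f.compat h, hp, map_zero]
  · -- `e q` lies in the ideal generated by the restriction of the kernel at `p`
    have hq : f.app q (e q) = 0 := by
      have : e q ∈ RingHom.ker (f.app q) := by rw [hker q]; exact Ideal.subset_span rfl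
      exact this
    have := ker_span hX hA.1 hB.1 f h (e q) hq
    refine Ideal.span_le.2 ?_ this
    rintro _ ⟨a, ha, rfl⟩
    have ha' : a ∈ Ideal.span {e p} := by rw [← hker p]; exact ha
    rw [Ideal.mem_span_singleton'] at ha'
    obtain ⟨c, rfl⟩ := ha'
    show A.res h (c * e p) ∈ Ideal.span {A.res h (e p)}
    rw [map_mul]
    exact Ideal.mul_mem_left _ _ (Ideal.subset_span rfl)

/-- the complementary section `1 - t` -/
def Sec.compl {A : Alg X} (t : Sec A) : Sec A where
  val p := 1 - t.val p
  compat h := by rw [map_sub, map_one, t.compat h]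

end Groth.Agent.H78.SF
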