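import Mathlib

set_option autoImplicit false

namespace Groth.Agent.H78.SF

universe u v

/-- two-element family of types -/
def F2 (A B : Type v) : Bool → Type v
  | true => A
  | false => B

instance F2.commRing (A B : Type v) [CommRing A] [CommRing B] : ∀ b, CommRing (F2 A B b)
  | true => (inferInstance : CommRing A)
  | false => (inferInstance : CommRing B)

instance F2.algebra (R : Type u) [CommRing R] (A B : Type v) [CommRing A] [CommRing B]
    [Algebra R A] [Algebra R B] : ∀ b, Algebra R (F2 A B b)
  | true => (inferInstance : Algebra R A)
  | false => (inferInstance : Algebra R B)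

instance F2.etale (R : Type u) [CommRing R] (A B : Type v) [CommRing A] [CommRing B]
    [Algebra R A] [Algebra R B] [Algebra.Etale R A] [Algebra.Etale R B] :
    ∀ b, Algebra.Etale R (F2 A B b)
  | true => (inferInstance : Algebra.Etale R A)
  | false => (inferInstance : Algebra.Etale R B)

/-- the product of two algebras as a product over `Bool` -/
def piF2Equiv (R : Type u) [CommRing R] (A B : Type v) [CommRing A] [CommRing B]
    [Algebra R A] [Algebra R B] : (∀ b, F2 A B b) ≃ₐ[R] A × B where
  toFun f := (f true, f false)
  invFun p := fun b => match b with
    | true => p.1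
    | false => p.2
  left_inv f := by funext b; cases b <;> rfl
  right_inv p := rfl
  map_mul' _ _ := rfl
  map_add' _ _ := rfl
  commutes' _ := rfl

instance etale_prod (R : Type u) [CommRing R] (A B : Type v) [CommRing A] [CommRing B]
    [Algebra R A] [Algebra R B] [Algebra.Etale R A] [Algebra.Etale R B] :
    Algebra.Etale R (A × B) :=
  Algebra.Etale.of_equiv (piF2Equiv R A B)

/-- the zero algebra is étale -/
instance etale_punit (R : Type u) [CommRing R] : Algebra.Etale R PUnit.{v + 1} := by
  have e : (PEmpty.{1} → R) ≃ₐ[R] PUnit.{v + 1} :=
    { toFun := fun _ => PUnit.unit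
      invFun := fun _ => fun i => i.elim
      left_inv := fun f => by funext i; exact i.elim
      right_inv := fun _ => rfl
      map_mul' := fun _ _ => rfl
      map_add' := fun _ _ => rfl
      commutes' := fun _ => rfl }
  exact Algebra.Etale.of_equiv e

end Groth.Agent.H78.SF
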