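import Mathlib
import Groth.Prelude.Def_SchFin2
import Groth.Agent.H78.SchFin.BC3
import Groth.Agent.H78.SchFin.BC2
import Groth.Agent.H78.SchFin.EtaleProd

set_option autoImplicit false
set_option linter.style.haveILetI false

namespace Groth.Agent.H78.SF

open SchFin CategoryTheory CategoryTheory.Limits

universe u

variable {X : RSpace.{u}}

/-- product of two algebras -/
def prodAlg (A B : Alg X) : Alg X where
  carrier p := A.carrier p × B.carrier p
  res h := RingHom.prodMap (A.res h) (B.res h)
  res_algebraMap h a := by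
    show (A.res h (algebraMap _ _ a), B.res h (algebraMap _ _ a)) = _
    rw [A.res_algebraMap, B.res_algebraMap]
    rfl
  res_self p b := Prod.ext (A.res_self p b.1) (B.res_self p b.2)
  res_comp h h' b := Prod.ext (A.res_comp h h' b.1) (B.res_comp h h' b.2)

/-- first projection -/
def prodFst (A B : Alg X) : prodAlg A B ⟶ A :=
  ⟨fun p => AlgHom.fst (X.ring p) (A.carrier p) (B.carrier p), fun _ _ => rfl⟩

/-- second projection -/
def prodSnd (A B : Alg X) : prodAlg A B ⟶ B :=
  ⟨fun p => AlgHom.snd (X.ring p) (A.carrier p) (B.carrier p), fun _ _ => rfl⟩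

/-- pairing -/
def prodLift {T A B : Alg X} (f : T ⟶ A) (g : T ⟶ B) : T ⟶ prodAlg A B :=
  ⟨fun p => AlgHom.prod (f.app p) (g.app p), fun h b =>
    Prod.ext (f.compat h b) (g.compat h b)⟩

lemma prodAlg_isQcoh {A B : Alg X} (hA : A.IsQcoh) (hB : B.IsQcoh) : (prodAlg A B).IsQcoh := by
  intro p q h
  exact IsBCAlong.prod (X.res h) (A.toMod.res h) (B.toMod.res h) ((prodAlg A B).toMod.res h)
    (fun _ => rfl) (hA p q h) (hB p q h)

lemma prodAlg_isEtCover {A B : Alg X} (hA : A.IsEtCover) (hB : B.IsEtCover) :
    (prodAlg A B).IsEtCover := by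
  refine ⟨prodAlg_isQcoh hA.1 hB.1, fun p => ?_⟩
  haveI := (hA.2 p).1
  haveI := (hA.2 p).2
  haveI := (hB.2 p).1
  haveI := (hB.2 p).2
  exact ⟨(inferInstance : Module.Finite (X.ring p) (A.carrier p × B.carrier p)),
    (inferInstance : Algebra.Etale (X.ring p) (A.carrier p × B.carrier p))⟩

/-- the zero algebra -/
def unitAlg (X : RSpace.{u}) : Alg X where
  carrier _ := PUnit.{u + 1}
  res _ := RingHom.id _
  res_algebraMap _ _ := rfl
  res_self _ _ := rfl
  res_comp _ _ _ := rfl

/-- the unique map to the zero algebra -/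
def toUnit (A : Alg X) : A ⟶ unitAlg X :=
  ⟨fun p =>
    ({ toFun := fun _ => PUnit.unit, map_one' := rfl, map_mul' := fun _ _ => rfl,
       map_zero' := rfl, map_add' := fun _ _ => rfl, commutes' := fun _ => rfl } :
      A.carrier p →ₐ[X.ring p] PUnit.{u + 1}), fun _ _ => rfl⟩

lemma unitAlg_isEtCover (X : RSpace.{u}) : (unitAlg X).IsEtCover := by
  refine ⟨fun p q h => ?_, fun p => ?_⟩
  · haveI : Subsingleton ((unitAlg X).toMod.carrier p) :=
      (inferInstance : Subsingleton PUnit.{u + 1})
    haveI : Subsingleton ((unitAlg X).toMod.carrier q) :=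
      (inferInstance : Subsingleton PUnit.{u + 1})
    exact IsBCAlong.of_subsingleton_of_subsingleton _ _
  · exact ⟨(inferInstance : Module.Finite (X.ring p) PUnit.{u + 1}),
      (inferInstance : Algebra.Etale (X.ring p) PUnit.{u + 1})⟩

/-- the product in `FEt X` -/
def prodFEt (A B : FEt X) : FEt X := ⟨prodAlg A.obj B.obj, prodAlg_isEtCover A.property B.property⟩

/-- the terminal object of `FEt X` -/
def unitFEt (X : RSpace.{u}) : FEt X := ⟨unitAlg X, unitAlg_isEtCover X⟩

/-- the binary fan on the product -/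
def prodFan (A B : FEt X) : BinaryFan A B :=
  BinaryFan.mk (P := prodFEt A B) (ObjectProperty.homMk (prodFst A.obj B.obj))
    (ObjectProperty.homMk (prodSnd A.obj B.obj))

/-- the product fan is a limit -/
def prodFanIsLimit (A B : FEt X) : IsLimit (prodFan A B) :=
  BinaryFan.isLimitMk
    (fun s => ObjectProperty.homMk (prodLift s.fst.hom s.snd.hom))
    (fun s => by
      apply ObjectProperty.hom_ext; apply Alg.hom_ext; intro p; rfl)
    (fun s => by
      apply ObjectProperty.hom_ext; apply Alg.hom_ext; intro p; rfl)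
    (fun s m h1 h2 => by
      apply ObjectProperty.hom_ext; apply Alg.hom_ext; intro p
      apply AlgHom.ext; intro t
      have e1 := congrArg (fun k => (k.hom.app p) t) h1
      have e2 := congrArg (fun k => (k.hom.app p) t) h2
      exact Prod.ext e1 e2)

theorem hasBinaryProducts_FEt (X : RSpace.{u}) : HasBinaryProducts (FEt X) := by
  haveI : ∀ A B : FEt X, HasLimit (pair A B) := fun A B =>
    HasLimit.mk ⟨prodFan A B, prodFanIsLimit A B⟩
  exact hasBinaryProducts_of_hasLimit_pair _

/-- the zero algebra is terminal -/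
def isTerminalUnit (X : RSpace.{u}) : IsTerminal (unitFEt X) :=
  IsTerminal.ofUniqueHom (fun A => ObjectProperty.homMk (toUnit A.obj)) (fun A m => by
    apply ObjectProperty.hom_ext; apply Alg.hom_ext; intro p
    apply AlgHom.ext; intro t; rfl)

theorem hasTerminal_FEt (X : RSpace.{u}) : HasTerminal (FEt X) :=
  (isTerminalUnit X).hasTerminal

end Groth.Agent.H78.SF
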