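import Mathlib
import Groth.Prelude.Def_SchFin2
import Groth.Agent.H78.SchFin.BC4

set_option autoImplicit false
set_option linter.style.haveILetI false

namespace Groth.Agent.H78.SF

open SchFin CategoryTheory TensorProduct

universe u

variable {X : RSpace.{u}}

/-- the restriction map of the tensor product of two algebras -/
noncomputable def tensorRes (A B : Alg X) {p q : X.pt} (h : p ≤ q) :
    A.carrier p ⊗[X.ring p] B.carrier p →+* A.carrier q ⊗[X.ring q] B.carrier q :=
  letI : Algebra (X.ring p) (A.carrier q ⊗[X.ring q] B.carrier q) :=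
    ((algebraMap (X.ring q) (A.carrier q ⊗[X.ring q] B.carrier q)).comp (X.res h)).toAlgebra
  let u : A.carrier p →ₐ[X.ring p] (A.carrier q ⊗[X.ring q] B.carrier q) :=
    { toRingHom := (Algebra.TensorProduct.includeLeftRingHom).comp (A.res h)
      commutes' := fun r => by
        show (A.res h (algebraMap _ _ r)) ⊗ₜ[X.ring q] (1 : B.carrier q) =
          algebraMap (X.ring q) (A.carrier q ⊗[X.ring q] B.carrier q) (X.res h r)
        rw [A.res_algebraMap, Algebra.TensorProduct.algebraMap_apply] }
  let v : B.carrier p →ₐ[X.ring p] (A.carrier q ⊗[X.ring q] B.carrier q) :=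
    { toRingHom := (Algebra.TensorProduct.includeRight (R := X.ring q) (A := A.carrier q)
        (B := B.carrier q)).toRingHom.comp (B.res h)
      commutes' := fun r => by
        show (1 : A.carrier q) ⊗ₜ[X.ring q] (B.res h (algebraMap _ _ r)) =
          algebraMap (X.ring q) (A.carrier q ⊗[X.ring q] B.carrier q) (X.res h r)
        rw [B.res_algebraMap, Algebra.TensorProduct.algebraMap_apply']
        }
  (Algebra.TensorProduct.lift u v (fun _ _ => Commute.all _ _)).toRingHom

lemma tensorRes_tmul (A B : Alg X) {p q : X.pt} (h : p ≤ q) (a : A.carrier p) (b : B.carrier p) :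
    tensorRes A B h (a ⊗ₜ b) = A.res h a ⊗ₜ B.res h b := by
  unfold tensorRes
  simp only [AlgHom.toRingHom_eq_coe, RingHom.coe_coe, Algebra.TensorProduct.lift_tmul]
  show (A.res h a ⊗ₜ[X.ring q] (1 : B.carrier q)) * ((1 : A.carrier q) ⊗ₜ[X.ring q] B.res h b) = _
  rw [Algebra.TensorProduct.tmul_mul_tmul, mul_one, one_mul]

/-- tensor product (over the structure sheaf) of two algebras -/
@[reducible] noncomputable def tensorAlg (A B : Alg X) : Alg X where
  carrier p := A.carrier p ⊗[X.ring p] B.carrier p
  res h := tensorRes A B h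
  res_algebraMap h r := by
    rw [Algebra.TensorProduct.algebraMap_apply, tensorRes_tmul, A.res_algebraMap, map_one,
      Algebra.TensorProduct.algebraMap_apply]
  res_self p x := by
    induction x using TensorProduct.induction_on with
    | zero => rw [map_zero]
    | tmul a b => rw [tensorRes_tmul, A.res_self, B.res_self]
    | add x y hx hy => rw [map_add, hx, hy]
  res_comp h h' x := by
    induction x using TensorProduct.induction_on with
    | zero => rw [map_zero, map_zero, map_zero]
    | tmul a b =>
      rw [tensorRes_tmul, tensorRes_tmul, tensorRes_tmul, A.res_comp, B.res_comp]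
    | add x y hx hy => rw [map_add, map_add, map_add, hx, hy]

lemma tensorAlg_res_tmul (A B : Alg X) {p q : X.pt} (h : p ≤ q) (a : A.carrier p)
    (b : B.carrier p) :
    (tensorAlg A B).res h (a ⊗ₜ b) = A.res h a ⊗ₜ B.res h b := tensorRes_tmul A B h a b

/-- left inclusion into the tensor product -/
noncomputable def tensorInl (A B : Alg X) : A ⟶ tensorAlg A B :=
  ⟨fun p => Algebra.TensorProduct.includeLeft, fun h a => by
    show (tensorAlg A B).res h (a ⊗ₜ (1 : B.carrier _)) = (A.res h a) ⊗ₜ (1 : B.carrier _)
    rw [tensorAlg_res_tmul, map_one]⟩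

/-- right inclusion into the tensor product -/
noncomputable def tensorInr (A B : Alg X) : B ⟶ tensorAlg A B :=
  ⟨fun p => Algebra.TensorProduct.includeRight, fun h b => by
    show (tensorAlg A B).res h ((1 : A.carrier _) ⊗ₜ b) = (1 : A.carrier _) ⊗ₜ (B.res h b)
    rw [tensorAlg_res_tmul, map_one]⟩

lemma productMap_compat {A B T : Alg X} (u : A ⟶ T) (v : B ⟶ T) {p q : X.pt} (h : p ≤ q)
    (x : A.carrier p ⊗[X.ring p] B.carrier p) :
    T.res h (Algebra.TensorProduct.productMap (u.app p) (v.app p) x) =
      Algebra.TensorProduct.productMap (u.app q) (v.app q) (tensorRes A B h x) := by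
  induction x using TensorProduct.induction_on with
  | zero => rw [map_zero, map_zero, map_zero, map_zero]
  | tmul a b =>
    rw [tensorRes_tmul, Algebra.TensorProduct.productMap_apply_tmul,
      Algebra.TensorProduct.productMap_apply_tmul, map_mul, u.compat, v.compat]
  | add x y hx hy =>
    rw [map_add, map_add, map_add, map_add, hx, hy]

/-- maps out of the tensor product -/
noncomputable def tensorDesc {A B T : Alg X} (u : A ⟶ T) (v : B ⟶ T) : tensorAlg A B ⟶ T :=
  ⟨fun p => Algebra.TensorProduct.productMap (u.app p) (v.app p), fun {p q} h x =>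
    productMap_compat u v h x⟩

lemma tensorDesc_tmul {A B T : Alg X} (u : A ⟶ T) (v : B ⟶ T) (p : X.pt) (a : A.carrier p)
    (b : B.carrier p) : (tensorDesc u v).app p (a ⊗ₜ b) = u.app p a * v.app p b := rfl

lemma tensorAlg_isQcoh {A B : Alg X} (hA : A.IsQcoh) (hB : B.IsQcoh) :
    (tensorAlg A B).IsQcoh := by
  intro p q h
  exact IsBCAlong.tensor (X.res h) (A.toMod.res h) (B.toMod.res h)
    (LinearEquiv.refl (X.ring q) (A.carrier q ⊗[X.ring q] B.carrier q))
    ((tensorAlg A B).toMod.res h)
    (fun a b => tensorAlg_res_tmul A B h a b) (hA p q h) (hB p q h)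

lemma tensorAlg_isEtCover {A B : Alg X} (hA : A.IsEtCover) (hB : B.IsEtCover) :
    (tensorAlg A B).IsEtCover := by
  refine ⟨tensorAlg_isQcoh hA.1 hB.1, fun p => ?_⟩
  haveI := (hA.2 p).1
  haveI := (hA.2 p).2
  haveI := (hB.2 p).1
  haveI := (hB.2 p).2
  refine ⟨(inferInstance : Module.Finite (X.ring p) (A.carrier p ⊗[X.ring p] B.carrier p)), ?_⟩
  show Algebra.Etale (X.ring p) (A.carrier p ⊗[X.ring p] B.carrier p)
  exact Algebra.Etale.comp (X.ring p) (A.carrier p) (A.carrier p ⊗[X.ring p] B.carrier p)

/-- the structure algebra is an étale cover -/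
lemma str_isEtCover (X : RSpace.{u}) : (Alg.str X).IsEtCover := by
  refine ⟨fun p q h => ?_, fun p => ?_⟩
  · exact IsBCAlong.self (X.res h) ((Alg.str X).toMod.res h) (fun _ => rfl)
  · exact ⟨(inferInstance : Module.Finite (X.ring p) (X.ring p)),
      (inferInstance : Algebra.Etale (X.ring p) (X.ring p))⟩

/-- the unique map from the structure algebra -/
def fromStr (A : Alg X) : Alg.str X ⟶ A :=
  ⟨fun p => Algebra.ofId (X.ring p) (A.carrier p), fun h b => A.res_algebraMap h b⟩

end Groth.Agent.H78.SF
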