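import Mathlib

set_option autoImplicit false
set_option linter.style.haveILetI false

namespace Groth.Agent.H78.SF

open TensorProduct

universe u

/-- Two ring maps from `A` to fields with the same (prime) kernel admit a common nontrivial
extension. -/
theorem exists_compositum {A K L : Type u} [CommRing A] [Field K] [Field L]
    (α : A →+* K) (β : A →+* L) (hker : RingHom.ker α = RingHom.ker β) :
    ∃ (E : Type u) (_ : CommRing E) (_ : Nontrivial E) (a : K →+* E) (b : L →+* E),
      a.comp α = b.comp β := by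
  set 𝔭 := RingHom.ker α with h𝔭
  haveI : 𝔭.IsPrime := RingHom.ker_isPrime α
  have hu : ∀ {F : Type u} [Field F] (γ : A →+* F), RingHom.ker γ = 𝔭 →
      𝔭.primeCompl ≤ (IsUnit.submonoid F).comap γ := by
    intro F _ γ hγ r hr
    show IsUnit (γ r)
    rw [isUnit_iff_ne_zero]
    intro h0
    apply hr
    rw [← hγ]
    exact h0
  let α' : 𝔭.ResidueField →+* K := Ideal.ResidueField.lift 𝔭 α (le_of_eq rfl) (hu α rfl)
  let β' : 𝔭.ResidueField →+* L :=
    Ideal.ResidueField.lift 𝔭 β (le_of_eq hker) (hu β hker.symm)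
  letI : Algebra 𝔭.ResidueField K := α'.toAlgebra
  letI : Algebra 𝔭.ResidueField L := β'.toAlgebra
  refine ⟨K ⊗[𝔭.ResidueField] L, inferInstance, inferInstance,
    Algebra.TensorProduct.includeLeftRingHom,
    (Algebra.TensorProduct.includeRight (R := 𝔭.ResidueField) (A := K) (B := L)).toRingHom, ?_⟩
  ext r
  show (α r) ⊗ₜ[𝔭.ResidueField] (1 : L) = (1 : K) ⊗ₜ[𝔭.ResidueField] (β r)
  have e1 : α r = algebraMap 𝔭.ResidueField K (algebraMap A 𝔭.ResidueField r) :=
    (Ideal.ResidueField.lift_algebraMap 𝔭 α (le_of_eq rfl) (hu α rfl) r).symm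
  have e2 : β r = algebraMap 𝔭.ResidueField L (algebraMap A 𝔭.ResidueField r) :=
    (Ideal.ResidueField.lift_algebraMap 𝔭 β (le_of_eq hker) (hu β hker.symm) r).symm
  rw [e1, e2, Algebra.algebraMap_eq_smul_one, Algebra.algebraMap_eq_smul_one (A := L),
    smul_tmul]

end Groth.Agent.H78.SF
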