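import Mathlib
import Groth.Prelude.Def_SchFin

set_option autoImplicit false

namespace Groth.Agent.H78

open SchFin

universe u

/-- Connectedness of the prime spectrum in terms of idempotents. -/
lemma connectedSpace_primeSpectrum_iff (R : Type*) [CommRing R] :
    ConnectedSpace (PrimeSpectrum R) ↔
      Nontrivial R ∧ ∀ e : R, IsIdempotentElem e → e = 0 ∨ e = 1 := by
  have hnil : ∀ e : R, IsIdempotentElem e → PrimeSpectrum.basicOpen e = ⊥ → e = 0 := by
    intro e he h0
    rw [PrimeSpectrum.basicOpen_eq_bot_iff] at h0
    obtain ⟨n, hn⟩ := h0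
    rcases Nat.eq_zero_or_pos n with hn0 | hnpos
    · subst hn0
      rw [pow_zero] at hn
      have : e = e * 1 := (mul_one e).symm
      rw [this, hn, mul_zero]
    · obtain ⟨m, rfl⟩ : ∃ m, n = m + 1 := ⟨n - 1, by omega⟩
      rwa [he.pow_succ_eq] at hn
  constructor
  · intro h
    have hnt : Nontrivial R := PrimeSpectrum.nonempty_iff_nontrivial.mp h.toNonempty
    refine ⟨hnt, ?_⟩
    intro e he
    have hclopen : IsClopen (PrimeSpectrum.basicOpen e : Set (PrimeSpectrum R)) :=
      PrimeSpectrum.isClopen_iff.mpr ⟨e, he, rfl⟩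
    rcases isClopen_iff.mp hclopen with h0 | h1
    · left
      exact hnil e he (TopologicalSpace.Opens.ext h0)
    · right
      have htop : PrimeSpectrum.basicOpen e = ⊤ := TopologicalSpace.Opens.ext h1
      have h2 : PrimeSpectrum.basicOpen (1 - e) = ⊥ := by
        have := PrimeSpectrum.basicOpen_mul e (1 - e)
        rw [htop, top_inf_eq] at this
        rw [← this]
        have : e * (1 - e) = 0 := by rw [mul_sub, mul_one, he.eq, sub_self]
        rw [this, PrimeSpectrum.basicOpen_zero]
      have := hnil (1 - e) he.one_sub h2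
      exact (sub_eq_zero.mp this).symm
  · rintro ⟨hnt, hid⟩
    have : Nonempty (PrimeSpectrum R) := PrimeSpectrum.nonempty_iff_nontrivial.mpr hnt
    have : PreconnectedSpace (PrimeSpectrum R) := by
      rw [preconnectedSpace_iff_clopen]
      intro s hs
      obtain ⟨e, he, rfl⟩ := PrimeSpectrum.isClopen_iff.mp hs
      rcases hid e he with h | h
      · left; rw [h, PrimeSpectrum.basicOpen_zero]; rfl
      · right; rw [h, PrimeSpectrum.basicOpen_one]; rfl
    exact ⟨inferInstance⟩


/-- along a zigzag of comparable points, a property invariant under `≤` in both directions is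
constant -/
lemma eqvGen_le_invariant {α : Type*} [LE α] (P : α → Prop)
    (hP : ∀ a b : α, a ≤ b → (P a ↔ P b)) (a b : α)
    (h : Relation.EqvGen (fun a b : α => a ≤ b) a b) : P a ↔ P b := by
  induction h with
  | rel a b hab => exact hP a b hab
  | refl a => exact Iff.rfl
  | symm a b _ ih => exact ih.symm
  | trans a b c _ _ ih1 ih2 => exact ih1.trans ih2

theorem wellConnected_iff (X : RSpace.{u}) :
    X.IsWellConnected ↔ (X.IsTopConnected ∧ X.IsPwConnected) := by
  classical
  unfold RSpace.IsWellConnected
  constructor
  · rintro ⟨hconn, hpw⟩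
    refine ⟨?_, hpw⟩
    have hpw' := fun p => (connectedSpace_primeSpectrum_iff (X.ring p)).mp (hpw p)
    obtain ⟨hnt, hid⟩ := (connectedSpace_primeSpectrum_iff _).mp hconn
    have hne : Nonempty X.pt := by
      by_contra hemp
      rw [not_nonempty_iff] at hemp
      obtain ⟨a, b, hab⟩ := hnt.exists_pair_ne
      apply hab
      apply Subtype.ext
      funext q
      exact (hemp.false q.1).elim
    refine ⟨hne, ?_⟩
    intro p q
    -- the idempotent attached to the zigzag-component of p
    let e : X.sectRing Set.univ :=
      ⟨fun q => if Relation.EqvGen (fun a b : X.pt => a ≤ b) p q.1 then 1 else 0, by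
        intro q q' h
        have hiff : Relation.EqvGen (fun a b : X.pt => a ≤ b) p q.1 ↔
            Relation.EqvGen (fun a b : X.pt => a ≤ b) p q'.1 :=
          ⟨fun h1 => Relation.EqvGen.trans _ _ _ h1 (Relation.EqvGen.rel _ _ h),
           fun h1 => Relation.EqvGen.trans _ _ _ h1
             (Relation.EqvGen.symm _ _ (Relation.EqvGen.rel _ _ h))⟩
        by_cases h1 : Relation.EqvGen (fun a b : X.pt => a ≤ b) p q.1
        · simp only [if_pos h1, if_pos (hiff.mp h1), map_one]
        · simp only [if_neg h1, if_neg (fun h2 => h1 (hiff.mpr h2)), map_zero]⟩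
    have he : IsIdempotentElem e := by
      apply Subtype.ext
      funext q
      show (if _ then (1 : X.ring q.1) else 0) * (if _ then 1 else 0) = if _ then 1 else 0
      split_ifs <;> simp
    have hep : e.1 ⟨p, trivial⟩ = 1 := by
      show (if _ then (1 : X.ring p) else 0) = 1
      rw [if_pos (Relation.EqvGen.refl p)]
    rcases hid e he with h0 | h1
    · exfalso
      have : e.1 ⟨p, trivial⟩ = 0 := by rw [h0]; rfl
      rw [hep] at this
      have hN := (hpw' p).1
      exact one_ne_zero this
    · by_contra hpq
      have : e.1 ⟨q, trivial⟩ = 1 := by rw [h1]; rfl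
      have h2 : e.1 ⟨q, trivial⟩ = 0 := by
        show (if _ then (1 : X.ring q) else 0) = 0
        rw [if_neg hpq]
      rw [h2] at this
      have hN := (hpw' q).1
      exact zero_ne_one this
  · rintro ⟨⟨hne, hzz⟩, hpw⟩
    refine ⟨?_, hpw⟩
    have hpw' := fun p => (connectedSpace_primeSpectrum_iff (X.ring p)).mp (hpw p)
    unfold RSpace.IsConnected
    rw [connectedSpace_primeSpectrum_iff]
    obtain ⟨p₀⟩ := hne
    constructor
    · refine ⟨⟨0, 1, ?_⟩⟩
      intro h
      have : (0 : X.sectRing Set.univ).1 ⟨p₀, trivial⟩ = (1 : X.sectRing Set.univ).1 ⟨p₀, trivial⟩ := by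
        rw [h]
      have hN := (hpw' p₀).1
      exact zero_ne_one this
    · intro e he
      have hcomp : ∀ q : X.pt, e.1 ⟨q, trivial⟩ = 0 ∨ e.1 ⟨q, trivial⟩ = 1 := by
        intro q
        apply (hpw' q).2
        have := congrArg (fun s : X.sectRing Set.univ => s.1 ⟨q, trivial⟩) he
        exact this
      -- the property "e_q = 1" is invariant along ≤
      have hinv : ∀ a b : X.pt, a ≤ b → (e.1 ⟨a, trivial⟩ = 1 ↔ e.1 ⟨b, trivial⟩ = 1) := by
        intro a b hab
        have hres : X.res hab (e.1 ⟨a, trivial⟩) = e.1 ⟨b, trivial⟩ := e.2 ⟨a, trivial⟩ ⟨b, trivial⟩ hab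
        constructor
        · intro h1
          rw [← hres, h1, map_one]
        · intro h1
          rcases hcomp a with h0 | h1'
          · exfalso
            rw [h0, map_zero] at hres
            rw [← hres] at h1
            have hN := (hpw' b).1
            exact zero_ne_one h1
          · exact h1'
      have hconst : ∀ q, (e.1 ⟨p₀, trivial⟩ = 1 ↔ e.1 ⟨q, trivial⟩ = 1) := fun q =>
        eqvGen_le_invariant (fun a => e.1 ⟨a, trivial⟩ = 1) hinv p₀ q (hzz p₀ q)
      rcases hcomp p₀ with h0 | h1
      · left
        apply Subtype.ext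
        funext q
        rcases hcomp q.1 with h0' | h1'
        · exact h0'
        · exfalso
          have := (hconst q.1).mpr h1'
          rw [h0] at this
          have hN := (hpw' p₀).1
          exact zero_ne_one this
      · right
        apply Subtype.ext
        funext q
        exact (hconst q.1).mp h1

end Groth.Agent.H78
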