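import Mathlib
import Groth.Prelude.Def_SchFin

set_option autoImplicit false

namespace Groth.Agent.H78.SF

open SchFin

universe u

variable {X : RSpace.{u}} {U : Set X.pt} {R : Type u} [CommRing R] (φ : Coef X U R) (M : OMod X)

lemma fin1_eq (a b : Fin (0 + 1)) : a = b := by
  apply Fin.ext; have := a.isLt; have := b.isLt; omega

/-- the `0`-chain at a point -/
def pt0 (q : U) : Chain U 0 :=
  OrderEmbedding.ofMapLEIff (fun _ => q) (fun a b => by
    have : a = b := fin1_eq a b
    subst this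
    simp)

@[simp] lemma pt0_apply (q : U) (i : Fin (0 + 1)) : pt0 q i = q := rfl

lemma eq_pt0 (σ : Chain U 0) (i : Fin (0 + 1)) : σ = pt0 (σ i) := by
  apply RelEmbedding.ext
  intro j
  have : j = i := fin1_eq _ _
  rw [this]
  rfl

lemma exists_pt0 (σ : Chain U 0) : ∃ q : U, σ = pt0 q := ⟨_, eq_pt0 σ (Fin.last 0)⟩

/-- the `1`-chain `q < q'` -/
def ch1 (q q' : U) (hlt : q < q') : Chain U 1 :=
  OrderEmbedding.ofStrictMono (fun i : Fin (1 + 1) => if i = 0 then q else q') (by
    intro a b hab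
    have ha : a = 0 := by
      apply Fin.ext
      have := a.isLt; have := b.isLt
      have : a.1 < b.1 := hab
      simp only [Fin.val_zero]; omega
    have hb : b ≠ 0 := by
      intro hb; rw [ha, hb] at hab; exact lt_irrefl _ hab
    simp only [ha, hb, if_true, if_false]
    exact hlt)

lemma ch1_zero (q q' : U) (hlt : q < q') : ch1 q q' hlt 0 = q := by
  show (if (0 : Fin (1 + 1)) = 0 then q else q') = q
  rw [if_pos rfl]

lemma ch1_one (q q' : U) (hlt : q < q') : ch1 q q' hlt 1 = q' := by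
  show (if (1 : Fin (1 + 1)) = 0 then q else q') = q'
  rw [if_neg (by decide)]

lemma ch1_last (q q' : U) (hlt : q < q') : ch1 q q' hlt (Fin.last 1) = q' := ch1_one q q' hlt

lemma ch1_face0 (q q' : U) (hlt : q < q') : (ch1 q q' hlt).face 0 = pt0 q' := by
  apply RelEmbedding.ext
  intro j
  have : j = 0 := fin1_eq _ _
  subst this
  rw [Chain.face_apply]
  simp only [pt0_apply]
  exact ch1_one q q' hlt

lemma ch1_face1 (q q' : U) (hlt : q < q') : (ch1 q q' hlt).face 1 = pt0 q := by
  apply RelEmbedding.ext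
  intro j
  have : j = 0 := fin1_eq _ _
  subst this
  rw [Chain.face_apply]
  simp only [pt0_apply]
  exact ch1_zero q q' hlt

/-- `mk : Z⁰ → H⁰` is bijective. -/
lemma H0mk_bijective : Function.Bijective (H.mk φ M 0) := by
  constructor
  · rw [← LinearMap.ker_eq_bot]
    rw [eq_bot_iff]
    intro c hc
    have h1 : c ∈ (cobdry φ M 0).comap (cocycles φ M 0).subtype := by
      have := (Submodule.Quotient.mk_eq_zero _).mp hc
      exact this
    have h2 : (c : Cochain φ M 0) ∈ (⊥ : Submodule R (Cochain φ M 0)) := h1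
    rw [Submodule.mem_bot] at h2 ⊢
    exact Subtype.ext h2
  · exact Submodule.mkQ_surjective _

/-- `Z⁰ ≃ H⁰` -/
noncomputable def H0equiv : cocycles φ M 0 ≃ₗ[R] H φ M 0 :=
  LinearEquiv.ofBijective (H.mk φ M 0) (H0mk_bijective φ M)

/-- the `0`-cochain attached to a family -/
def famCochain (s : ∀ q : U, M.carrier q.1) : Cochain φ M 0 :=
  fun σ => s (σ (Fin.last 0))

lemma famCochain_mem (s : ∀ q : U, M.carrier q.1)
    (hs : ∀ (q q' : U) (h : q.1 ≤ q'.1), M.res h (s q) = s q') :
    famCochain φ M s ∈ cocycles φ M 0 := by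
  show diff φ M 0 (famCochain φ M s) = 0
  funext τ
  show (∑ j : Fin 2, ((-1 : ℤ) ^ (j : ℕ)) • (famCochain φ M s).faceVal τ j) = 0
  have h : ∀ j : Fin 2, (famCochain φ M s).faceVal τ j = s (τ (Fin.last 1)) := by
    intro j
    exact hs _ _ (Chain.face_last_le j τ)
  rw [Fin.sum_univ_two, h, h]
  simp

/-- the class in `H⁰` of a compatible family -/
noncomputable def ofFamily (s : ∀ q : U, M.carrier q.1)
    (hs : ∀ (q q' : U) (h : q.1 ≤ q'.1), M.res h (s q) = s q') : H φ M 0 :=
  H.mk φ M 0 ⟨famCochain φ M s, famCochain_mem φ M s hs⟩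

/-- evaluation of a class in `H⁰` at a point -/
noncomputable def eval (q : U) (m : H φ M 0) : M.carrier q.1 :=
  ((H0equiv φ M).symm m).1 (pt0 q)

lemma eval_mk (c : cocycles φ M 0) (q : U) : eval φ M q (H.mk φ M 0 c) = c.1 (pt0 q) := by
  unfold eval
  have : (H0equiv φ M).symm (H.mk φ M 0 c) = c := (H0equiv φ M).symm_apply_apply _
  rw [this]

lemma eval_ofFamily (s : ∀ q : U, M.carrier q.1)
    (hs : ∀ (q q' : U) (h : q.1 ≤ q'.1), M.res h (s q) = s q') (q : U) :
    eval φ M q (ofFamily φ M s hs) = s q := by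
  unfold ofFamily
  rw [eval_mk]
  rfl

lemma eval_add (q : U) (m m' : H φ M 0) : eval φ M q (m + m') = eval φ M q m + eval φ M q m' := by
  unfold eval
  rw [map_add]
  rfl

lemma eval_zero (q : U) : eval φ M q (0 : H φ M 0) = 0 := by
  unfold eval
  rw [map_zero]
  rfl

lemma eval_smul (q : U) (r : R) (m : H φ M 0) :
    eval φ M q (r • m) = φ.map q r • eval φ M q m := by
  unfold eval
  rw [map_smul]
  rfl

lemma res_chain_eq (c : Cochain φ M 0) (σ : Chain U 0) (q : U) (hσ : σ = pt0 q) {p : X.pt}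
    (hle : (σ (Fin.last 0)).1 ≤ p) (hle' : q.1 ≤ p) :
    M.res hle (c σ) = M.res hle' (c (pt0 q)) := by
  subst hσ; rfl

/-- compatibility of the values of a `0`-cocycle -/
lemma cocycle_compat (c : cocycles φ M 0) (q q' : U) (h : q.1 ≤ q'.1) :
    M.res h (c.1 (pt0 q)) = c.1 (pt0 q') := by
  classical
  rcases eq_or_lt_of_le h with heq | hlt
  · have : q = q' := Subtype.ext heq
    subst this
    exact M.res_self _ _
  · have hlt' : q < q' := hlt
    set τ : Chain U 1 := ch1 q q' hlt' with hτ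
    have hz : diff φ M 0 c.1 τ = 0 := by
      have : diff φ M 0 c.1 = 0 := c.2
      rw [this]; rfl
    have hz' : (∑ j : Fin 2, ((-1 : ℤ) ^ (j : ℕ)) • c.1.faceVal τ j) = 0 := hz
    rw [Fin.sum_univ_two] at hz'
    simp only [Fin.val_zero, pow_zero, one_smul, Fin.val_one, pow_one, neg_smul] at hz'
    have hq' : (τ (Fin.last 1)) = q' := ch1_last q q' hlt'
    have hle0 : q'.1 ≤ (τ (Fin.last 1)).1 := by rw [hq']
    have hle1 : q.1 ≤ (τ (Fin.last 1)).1 := by rw [hq']; exact h
    have h0 : c.1.faceVal τ 0 = M.res hle0 (c.1 (pt0 q')) :=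
      res_chain_eq φ M c.1 (τ.face 0) q' (ch1_face0 q q' hlt') _ _
    have h1 : c.1.faceVal τ 1 = M.res hle1 (c.1 (pt0 q)) :=
      res_chain_eq φ M c.1 (τ.face 1) q (ch1_face1 q q' hlt') _ _
    rw [h0, h1] at hz'
    have key : M.res hle1 (c.1 (pt0 q)) = M.res hle0 (c.1 (pt0 q')) := by
      have := hz'
      rw [add_neg_eq_zero] at this
      exact this.symm
    -- transport along hq'
    have hle2 : (τ (Fin.last 1)).1 ≤ q'.1 := by rw [hq']
    have e1 : M.res hle2 (M.res hle1 (c.1 (pt0 q))) = M.res h (c.1 (pt0 q)) :=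
      M.res_comp hle1 hle2 (c.1 (pt0 q))
    have e2 : M.res hle2 (M.res hle0 (c.1 (pt0 q'))) = c.1 (pt0 q') :=
      (M.res_comp hle0 hle2 (c.1 (pt0 q'))).trans (M.res_self _ _)
    exact e1.symm.trans ((congrArg (M.res hle2) key).trans e2)

lemma eval_compat (m : H φ M 0) (q q' : U) (h : q.1 ≤ q'.1) :
    M.res h (eval φ M q m) = eval φ M q' m :=
  cocycle_compat φ M _ q q' h

/-- classes in `H⁰` are determined by their values -/
lemma H0_ext (m m' : H φ M 0) (h : ∀ q : U, eval φ M q m = eval φ M q m') : m = m' := by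
  apply (H0equiv φ M).symm.injective
  apply Subtype.ext
  funext σ
  obtain ⟨q, rfl⟩ := exists_pt0 σ
  exact h q

/-- every class in `H⁰` comes from its family of values -/
lemma ofFamily_eval (m : H φ M 0) :
    ofFamily φ M (fun q => eval φ M q m) (fun q q' h => eval_compat φ M m q q' h) = m := by
  apply H0_ext
  intro q
  rw [eval_ofFamily]

lemma smul_ofFamily (r : R) (s : ∀ q : U, M.carrier q.1)
    (hs : ∀ (q q' : U) (h : q.1 ≤ q'.1), M.res h (s q) = s q') :
    r • ofFamily φ M s hs = ofFamily φ M (fun q => φ.map q r • s q) (fun q q' h => by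
      rw [LinearMap.map_smulₛₗ, hs q q' h, φ.compat q q' h]) := by
  apply H0_ext
  intro q
  rw [eval_smul, eval_ofFamily, eval_ofFamily]

variable {φ} {U' : Set X.pt} {R' : Type u} [CommRing R'] {φ' : Coef X U' R'}

lemma resH_mk (s : Coef.Sub φ φ') (n : ℕ) (c : cocycles φ M n) :
    ∃ hc : resCochain M s n c.1 ∈ cocycles φ' M n,
      resH M s n (H.mk φ M n c) = H.mk φ' M n ⟨resCochain M s n c.1, hc⟩ := by
  refine ⟨?_, rfl⟩
  change diff φ' M n (resCochain M s n c.1) = 0
  rw [diff_resCochain, show diff φ M n c.1 = 0 from c.2, map_zero]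

lemma eval_resH (s : Coef.Sub φ φ') (m : H φ M 0) (q : U') :
    eval φ' M q (resH M s 0 m) = eval φ M ⟨q.1, s.le q.2⟩ m := by
  obtain ⟨c, rfl⟩ := (H0mk_bijective φ M).2 m
  obtain ⟨hc, e⟩ := resH_mk M s 0 c
  rw [e, eval_mk, eval_mk]
  show c.1 ((pt0 q).incl s.le) = c.1 (pt0 ⟨q.1, s.le q.2⟩)
  congr 1

lemma resH_ofFamily (s : Coef.Sub φ φ') (f : ∀ q : U, M.carrier q.1)
    (hf : ∀ (q q' : U) (h : q.1 ≤ q'.1), M.res h (f q) = f q') :
    resH M s 0 (ofFamily φ M f hf) =
      ofFamily φ' M (fun q => f ⟨q.1, s.le q.2⟩) (fun q q' h => hf ⟨q.1, s.le q.2⟩ ⟨q'.1, s.le q'.2⟩ h) := by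
  apply H0_ext
  intro q
  rw [eval_resH, eval_ofFamily, eval_ofFamily]

/-- restriction in degree `0` is bijective when the two subsets agree -/
lemma resH_bijective_zero (s : Coef.Sub φ φ') (hU : U ⊆ U') : Function.Bijective (resH M s 0) := by
  constructor
  · intro m m' h
    apply H0_ext
    intro q
    have := congrArg (eval φ' M ⟨q.1, hU q.2⟩) h
    rw [eval_resH, eval_resH] at this
    exact this
  · intro n
    refine ⟨ofFamily φ M (fun q => eval φ' M ⟨q.1, hU q.2⟩ n)
      (fun q q' h => eval_compat φ' M n ⟨q.1, hU q.2⟩ ⟨q'.1, hU q'.2⟩ h), ?_⟩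
    apply H0_ext
    intro q
    rw [eval_resH, eval_ofFamily]

variable (φ) in
/-- evaluation at a least element of `U` is bijective on `H⁰` -/
lemma eval_bijective_of_min (q₀ : U) (hmin : ∀ q : U, q₀.1 ≤ q.1) :
    Function.Bijective (eval φ M q₀) := by
  constructor
  · intro m m' h
    apply H0_ext
    intro q
    rw [← eval_compat φ M m q₀ q (hmin q), ← eval_compat φ M m' q₀ q (hmin q), h]
  · intro v
    refine ⟨ofFamily φ M (fun q => M.res (hmin q) v) (fun q q' h => M.res_comp _ _ v), ?_⟩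
    rw [eval_ofFamily]
    exact M.res_self _ v

variable (φ) in
/-- `H⁰` over the empty set is trivial -/
lemma H0_subsingleton_of_isEmpty (hU : IsEmpty U) : Subsingleton (H φ M 0) :=
  ⟨fun m m' => H0_ext φ M m m' (fun q => (hU.false q).elim)⟩

end Groth.Agent.H78.SF
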