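import Mathlib
import Groth.Prelude.Def_SchFin
import Groth.Agent.H78.SchFin.H0
import Groth.Agent.H78.SchFin.BC

set_option autoImplicit false
set_option linter.style.haveILetI false

namespace Groth.Agent.H78.SF

open SchFin TensorProduct

universe u

/-- In a schematic finite space, restriction maps are epimorphisms of rings. -/
theorem res_epi (X : RSpace.{u}) (hX : X.IsSchematic) {x y : X.pt} (h : x ≤ y)
    {T : Type*} [CommRing T] (g₁ g₂ : X.ring y →+* T)
    (hg : g₁.comp (X.res h) = g₂.comp (X.res h)) : g₁ = g₂ := by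
  obtain ⟨-, -, hS⟩ := hX
  have hbc := (hS 0 x y h y y le_rfl).1
  set φ := Coef.ofLE x ((Hom.id X).wedge x y) ((Hom.id X).wedge_subset_up x y) with hφ
  set φ' := Coef.ofLE y ((Hom.id X).wedge y y) ((Hom.id X).wedge_subset_up y y) with hφ'
  set sub : Coef.Sub φ φ' := (Hom.id X).subSrc h y with hsub
  letI : Module (X.ring y) T := Module.compHom T g₁
  have hy : y ∈ (Hom.id X).wedge x y := ⟨h, le_rfl⟩
  have hy' : y ∈ (Hom.id X).wedge y y := ⟨le_rfl, le_rfl⟩
  let γ : H φ X.str 0 →+ T :=
    { toFun := fun m => g₂ (eval φ X.str ⟨y, hy⟩ m)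
      map_zero' := by rw [eval_zero]; exact map_zero g₂
      map_add' := fun a b => by rw [eval_add]; exact map_add g₂ _ _ }
  have hγ : ∀ (r : X.ring x) (m : H φ X.str 0), γ (r • m) = X.res h r • γ m := by
    intro r m
    show g₂ (eval φ X.str ⟨y, hy⟩ (r • m)) = g₁ (X.res h r) * g₂ (eval φ X.str ⟨y, hy⟩ m)
    rw [eval_smul]
    have : g₁ (X.res h r) = g₂ (X.res h r) := RingHom.congr_fun hg r
    have key : ∀ v : X.ring y, g₂ (X.res h r * v) = g₁ (X.res h r) * g₂ v :=
      fun v => by rw [this, map_mul]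
    exact key (eval φ X.str ⟨y, hy⟩ m)
  obtain ⟨L, hL⟩ := IsBCAlong.exists_lift (X.res h) (resH X.str sub 0) hbc γ hγ
  ext b
  -- the classes attached to `b` and to `1`
  let fam : ∀ (c : X.ring y) (q : ((Hom.id X).wedge x y)), X.str.carrier q.1 :=
    fun c q => X.res q.2.2 c
  have hfam : ∀ (c : X.ring y) (q q' : ((Hom.id X).wedge x y)) (hqq : q.1 ≤ q'.1),
      X.str.res hqq (fam c q) = fam c q' := fun c q q' hqq => X.res_comp _ _ c
  have e1 : ∀ c : X.ring y, L (resH X.str sub 0 (ofFamily φ X.str (fam c) (hfam c))) = g₂ c := by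
    intro c
    refine (hL _).trans ?_
    show g₂ (eval φ X.str ⟨y, hy⟩ (ofFamily φ X.str (fam c) (hfam c))) = g₂ c
    rw [eval_ofFamily]
    show g₂ (X.res _ c) = g₂ c
    rw [X.res_self]
  have e2 : resH X.str sub 0 (ofFamily φ X.str (fam b) (hfam b)) =
      b • resH X.str sub 0 (ofFamily φ X.str (fam 1) (hfam 1)) := by
    apply H0_ext
    intro q
    rw [eval_smul, eval_resH, eval_resH, eval_ofFamily, eval_ofFamily]
    show X.res _ b = X.res _ b * X.res _ 1
    rw [map_one]
    exact (mul_one _).symm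
  have e3 := e1 b
  rw [e2, map_smul, e1 1, map_one] at e3
  have : b • (1 : T) = g₁ b * 1 := rfl
  rw [this, mul_one] at e3
  exact e3

end Groth.Agent.H78.SF
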