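import Mathlib
import Groth.Prelude.Def_SchFin2
import Groth.Agent.H78.SchFin.AlgProd
import Groth.Agent.H78.SchFin.AlgKer

set_option autoImplicit false
set_option linter.style.haveILetI false

namespace Groth.Agent.H78.SF

open SchFin CategoryTheory CategoryTheory.Limits

universe u

variable {X : RSpace.{u}}

section BijLift

variable {A B D T : FEt X} (f : A ⟶ B) (π : A ⟶ D)
    (hbij : ∀ p, Function.Bijective (AlgHom.prod (f.hom.app p) (π.hom.app p)))

/-- the pointwise equivalence attached to a bijective pairing -/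
noncomputable def bijEquiv (p : X.pt) :
    A.obj.carrier p ≃ₐ[X.ring p] B.obj.carrier p × D.obj.carrier p :=
  AlgEquiv.ofBijective (AlgHom.prod (f.hom.app p) (π.hom.app p)) (hbij p)

lemma bijEquiv_apply (p : X.pt) (a : A.obj.carrier p) :
    bijEquiv f π hbij p a = (f.hom.app p a, π.hom.app p a) := rfl

lemma fst_bijEquiv_symm (p : X.pt) (x : B.obj.carrier p × D.obj.carrier p) :
    f.hom.app p ((bijEquiv f π hbij p).symm x) = x.1 := by
  have h1 := bijEquiv_apply f π hbij p ((bijEquiv f π hbij p).symm x)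
  rw [AlgEquiv.apply_symm_apply] at h1
  exact (congrArg Prod.fst h1).symm

lemma snd_bijEquiv_symm (p : X.pt) (x : B.obj.carrier p × D.obj.carrier p) :
    π.hom.app p ((bijEquiv f π hbij p).symm x) = x.2 := by
  have h1 := bijEquiv_apply f π hbij p ((bijEquiv f π hbij p).symm x)
  rw [AlgEquiv.apply_symm_apply] at h1
  exact (congrArg Prod.snd h1).symm

/-- the map into `A` attached to maps into `B` and `D` -/
noncomputable def bijLift (g : T ⟶ B) (k : T ⟶ D) : T ⟶ A :=
  ObjectProperty.homMk
    ⟨fun p => ((bijEquiv f π hbij p).symm.toAlgHom).comp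
        (AlgHom.prod (g.hom.app p) (k.hom.app p)), by
      intro p q h t
      apply (bijEquiv f π hbij q).injective
      show bijEquiv f π hbij q (A.obj.res h ((bijEquiv f π hbij p).symm
          (g.hom.app p t, k.hom.app p t))) =
        bijEquiv f π hbij q ((bijEquiv f π hbij q).symm
          (g.hom.app q (T.obj.res h t), k.hom.app q (T.obj.res h t)))
      rw [AlgEquiv.apply_symm_apply, bijEquiv_apply, ← f.hom.compat, ← π.hom.compat,
        fst_bijEquiv_symm, snd_bijEquiv_symm, g.hom.compat, k.hom.compat]⟩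

lemma bijLift_app (g : T ⟶ B) (k : T ⟶ D) (p : X.pt) (t : T.obj.carrier p) :
    (bijLift f π hbij g k).hom.app p t =
      (bijEquiv f π hbij p).symm (g.hom.app p t, k.hom.app p t) := rfl

lemma bijLift_fst (g : T ⟶ B) (k : T ⟶ D) : bijLift f π hbij g k ≫ f = g := by
  apply ObjectProperty.hom_ext; apply Alg.hom_ext; intro p
  apply AlgHom.ext; intro t
  show f.hom.app p ((bijLift f π hbij g k).hom.app p t) = g.hom.app p t
  rw [bijLift_app, fst_bijEquiv_symm]

lemma bijLift_snd (g : T ⟶ B) (k : T ⟶ D) : bijLift f π hbij g k ≫ π = k := by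
  apply ObjectProperty.hom_ext; apply Alg.hom_ext; intro p
  apply AlgHom.ext; intro t
  show π.hom.app p ((bijLift f π hbij g k).hom.app p t) = k.hom.app p t
  rw [bijLift_app, snd_bijEquiv_symm]

lemma bijLift_uniq (g : T ⟶ B) (k : T ⟶ D) (m : T ⟶ A) (h1 : m ≫ f = g) (h2 : m ≫ π = k) :
    m = bijLift f π hbij g k := by
  apply ObjectProperty.hom_ext; apply Alg.hom_ext; intro p
  apply AlgHom.ext; intro t
  apply (bijEquiv f π hbij p).injective
  rw [bijLift_app, AlgEquiv.apply_symm_apply, bijEquiv_apply]
  have e1 := congrArg (fun j => (j.hom.app p) t) h1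
  have e2 := congrArg (fun j => (j.hom.app p) t) h2
  exact Prod.ext e1 e2

/-- a fan whose pairing is bijective at every point is a limit -/
noncomputable def isLimit_of_bijective : IsLimit (BinaryFan.mk f π) :=
  BinaryFan.isLimitMk (fun s => bijLift f π hbij s.fst s.snd)
    (fun s => bijLift_fst f π hbij s.fst s.snd)
    (fun s => bijLift_snd f π hbij s.fst s.snd)
    (fun s m h1 h2 => bijLift_uniq f π hbij s.fst s.snd m h1 h2)

end BijLift

/-- pure algebra: for an idempotent `e` and a surjection `f` with kernel `(e)`, the pairing of `f`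
with the quotient by `(1 - e)` is bijective -/
lemma pairing_bijective {R A B : Type u} [CommRing R] [CommRing A] [CommRing B] [Algebra R A]
    [Algebra R B] (f : A →ₐ[R] B) (hf : Function.Surjective f) (e : A) (he : IsIdempotentElem e)
    (hker : RingHom.ker f = Ideal.span {e}) :
    Function.Bijective (AlgHom.prod f (Ideal.Quotient.mkₐ R (Ideal.span {1 - e}))) := by
  have hfe : f e = 0 := by
    have : e ∈ RingHom.ker f := by rw [hker]; exact Ideal.subset_span rfl
    exact this
  have hπ : (Ideal.Quotient.mk (Ideal.span {1 - e})) (1 - e) = 0 :=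
    Ideal.Quotient.eq_zero_iff_mem.2 (Ideal.subset_span rfl)
  have hπe : (Ideal.Quotient.mk (Ideal.span {1 - e})) e = 1 := by
    have := hπ
    rw [map_sub, map_one, sub_eq_zero] at this
    exact this.symm
  constructor
  · rw [injective_iff_map_eq_zero]
    intro a ha
    have h1 : f a = 0 := congrArg Prod.fst ha
    have h2 : (Ideal.Quotient.mk (Ideal.span {1 - e})) a = 0 := congrArg Prod.snd ha
    have m1 : a ∈ Ideal.span {e} := by rw [← hker]; exact h1
    have m2 : a ∈ Ideal.span {1 - e} := Ideal.Quotient.eq_zero_iff_mem.1 h2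
    rw [Ideal.mem_span_singleton'] at m1 m2
    obtain ⟨c, hc⟩ := m1
    obtain ⟨d, hd⟩ := m2
    have e1 : a * e = a := by rw [← hc, mul_assoc, he.eq]
    have e2 : a * e = 0 := by
      rw [← hd, mul_assoc, sub_mul, one_mul, he.eq, sub_self, mul_zero]
    rw [← e1, e2]
  · rintro ⟨b, d⟩
    obtain ⟨a₁, rfl⟩ := hf b
    obtain ⟨a₂, rfl⟩ := Ideal.Quotient.mk_surjective d
    refine ⟨a₁ * (1 - e) + a₂ * e, ?_⟩
    refine Prod.ext ?_ ?_
    · show f (a₁ * (1 - e) + a₂ * e) = f a₁
      rw [map_add, map_mul, map_mul, map_sub, map_one, hfe, sub_zero, mul_one, mul_zero, add_zero]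
    · show (Ideal.Quotient.mk (Ideal.span {1 - e})) (a₁ * (1 - e) + a₂ * e) =
        (Ideal.Quotient.mk (Ideal.span {1 - e})) a₂
      rw [map_add, map_mul, map_mul, hπ, hπe, mul_zero, zero_add, mul_one]

/-- S15628: a pointwise surjective morphism of étale covers is a projection to a direct factor -/
theorem exists_compl_factor (hX : X.IsSchematic) {A B : FEt X} (f : A ⟶ B)
    (hf : ∀ p : X.pt, Function.Surjective (f.hom.app p)) :
    ∃ (D : FEt X) (π : A ⟶ D), Nonempty (IsLimit (BinaryFan.mk f π)) := by
  obtain ⟨t, ht, hker⟩ := exists_ker_sec hX.1 A.property B.property f.hom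
  have htc : ∀ p, IsIdempotentElem (t.compl.val p) := fun p => (ht p).one_sub
  refine ⟨⟨quotAlg A.obj t.compl, quotAlg_isEtCover A.property t.compl htc⟩,
    ObjectProperty.homMk (quotMk A.obj t.compl), ⟨isLimit_of_bijective _ _ ?_⟩⟩
  intro p
  exact pairing_bijective (f.hom.app p) (hf p) (t.val p) (ht p) (hker p)

/-- S15625: factorisation of a morphism of étale covers -/
theorem exists_factorisation (hX : X.IsSchematic) {A B : FEt X} (f : A ⟶ B) :
    ∃ (Q : FEt X) (g : A ⟶ Q) (h : Q ⟶ B), g ≫ h = f ∧
      (∀ p : X.pt, Function.Surjective (g.hom.app p)) ∧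
      ∀ p : X.pt, Function.Injective (h.hom.app p) := by
  obtain ⟨t, ht, hker⟩ := exists_ker_sec hX.1 A.property B.property f.hom
  have hft : ∀ p, f.hom.app p (t.val p) = 0 := by
    intro p
    have : t.val p ∈ RingHom.ker (f.hom.app p) := by rw [hker p]; exact Ideal.subset_span rfl
    exact this
  refine ⟨⟨quotAlg A.obj t, quotAlg_isEtCover A.property t ht⟩,
    ObjectProperty.homMk (quotMk A.obj t), ObjectProperty.homMk (quotLift t f.hom hft), ?_,
    fun p => quotMk_surjective A.obj t p, ?_⟩
  · apply ObjectProperty.hom_ext; apply Alg.hom_ext; intro p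
    apply AlgHom.ext; intro a; rfl
  · intro p
    rw [injective_iff_map_eq_zero]
    intro x hx
    obtain ⟨a, rfl⟩ := quotMk_surjective A.obj t p x
    have h1 : f.hom.app p a = 0 := hx
    have h2 : a ∈ Ideal.span {t.val p} := by rw [← hker p]; exact h1
    exact (quotMk_eq_zero_iff A.obj t p a).2 h2

/-- S15626: a monomorphism of étale covers is injective at every point -/
theorem mono_injective (hX : X.IsSchematic) {A B : FEt X} (f : A ⟶ B) [Mono f] (p : X.pt) :
    Function.Injective (f.hom.app p) := by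
  obtain ⟨t, ht, hker⟩ := exists_ker_sec hX.1 A.property B.property f.hom
  have htc : ∀ p, IsIdempotentElem (t.compl.val p) := fun p => (ht p).one_sub
  have hft : ∀ p, f.hom.app p (t.val p) = 0 := by
    intro p
    have : t.val p ∈ RingHom.ker (f.hom.app p) := by rw [hker p]; exact Ideal.subset_span rfl
    exact this
  let Q : FEt X := ⟨quotAlg A.obj t, quotAlg_isEtCover A.property t ht⟩
  let D : FEt X := ⟨quotAlg A.obj t.compl, quotAlg_isEtCover A.property t.compl htc⟩
  let g : A ⟶ Q := ObjectProperty.homMk (quotMk A.obj t)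
  let π : A ⟶ D := ObjectProperty.homMk (quotMk A.obj t.compl)
  let h : Q ⟶ B := ObjectProperty.homMk (quotLift t f.hom hft)
  have hgh : g ≫ h = f := by
    apply ObjectProperty.hom_ext; apply Alg.hom_ext; intro p
    apply AlgHom.ext; intro a; rfl
  have hbij : ∀ p, Function.Bijective (AlgHom.prod (g.hom.app p) (π.hom.app p)) := by
    intro p
    refine pairing_bijective (g.hom.app p) (quotMk_surjective A.obj t p) (t.val p) (ht p) ?_
    exact Ideal.mk_ker
  let T : FEt X := prodFEt A D
  let u : T ⟶ A := ObjectProperty.homMk (prodFst A.obj D.obj)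
  let s : T ⟶ D := ObjectProperty.homMk (prodSnd A.obj D.obj)
  let v : T ⟶ A := bijLift g π hbij (u ≫ g) s
  have huv : u ≫ f = v ≫ f := by
    rw [← hgh, ← Category.assoc, ← Category.assoc, bijLift_fst]
  have huv' : u = v := (cancel_mono f).1 huv
  have hπ : u ≫ π = s := by rw [huv', bijLift_snd]
  -- evaluate at `(0, 1)`
  have h01 := congrArg (fun j => (j.hom.app p) ((0 : A.obj.carrier p), (1 : D.obj.carrier p))) hπ
  have h01' : (quotMk A.obj t.compl).app p (0 : A.obj.carrier p) = (1 : D.obj.carrier p) := h01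
  rw [map_zero] at h01'
  -- so `1 ∈ (1 - t p)`
  have h1 : (1 : A.obj.carrier p) ∈ Ideal.span {t.compl.val p} := by
    rw [← quotMk_eq_zero_iff A.obj t.compl p 1, map_one]
    exact h01'.symm
  rw [Ideal.mem_span_singleton'] at h1
  obtain ⟨c, hc⟩ := h1
  have ht0 : t.val p = 0 := by
    have : c * t.compl.val p * t.val p = t.val p := by rw [hc, one_mul]
    rw [← this, mul_assoc]
    show c * ((1 - t.val p) * t.val p) = 0
    rw [sub_mul, one_mul, (ht p).eq, sub_self, mul_zero]
  rw [injective_iff_map_eq_zero]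
  intro a ha
  have : a ∈ RingHom.ker (f.hom.app p) := ha
  rw [hker p, ht0, Ideal.span_singleton_eq_bot.2 rfl] at this
  exact this

end Groth.Agent.H78.SF
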