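import Mathlib

set_option autoImplicit false
set_option linter.style.haveILetI false

namespace Groth.Agent.H78.SF

open TensorProduct

universe u

section
variable {R A B : Type u} [CommRing R] [CommRing A] [CommRing B] [Algebra R A] [Algebra R B]
  [Algebra A B] [IsScalarTower R A B]

/-- purity of a faithfully flat algebra: `A ⊗ N → B ⊗ N` is injective -/
lemma rTensor_injective_of_faithfullyFlat [Module.FaithfullyFlat A B] (N : Type u) [AddCommGroup N]
    [Module R N] :
    Function.Injective ((IsScalarTower.toAlgHom R A B).toLinearMap.rTensor N) := by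
  have h1 := Module.FaithfullyFlat.tensorProduct_mk_injective (A := A) (B := B) (A ⊗[R] N)
  have h2 : Function.Injective
      ((AlgebraTensorModule.cancelBaseChange R A A B N) ∘ (TensorProduct.mk A B (A ⊗[R] N) 1)) :=
    (AlgebraTensorModule.cancelBaseChange R A A B N).injective.comp h1
  have h3 : ((AlgebraTensorModule.cancelBaseChange R A A B N) ∘
      (TensorProduct.mk A B (A ⊗[R] N) 1)) =
      ((IsScalarTower.toAlgHom R A B).toLinearMap.rTensor N) := by
    funext t
    induction t using TensorProduct.induction_on with
    | zero => simp
    | tmul a n =>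
      simp [Algebra.smul_def]
    | add x y hx hy =>
      simp only [Function.comp_apply, map_add] at hx hy ⊢
      rw [hx, hy]
  rw [← h3]
  exact h2

lemma lTensor_injective_of_faithfullyFlat [Module.FaithfullyFlat A B] (N : Type u) [AddCommGroup N]
    [Module R N] :
    Function.Injective ((IsScalarTower.toAlgHom R A B).toLinearMap.lTensor N) := by
  have h := rTensor_injective_of_faithfullyFlat (R := R) (A := A) (B := B) N
  rw [← LinearMap.comm_comp_rTensor_comp_comm_eq]
  simp only [LinearMap.coe_comp, LinearEquiv.coe_coe]
  exact (TensorProduct.comm R B N).injective.comp (h.comp (TensorProduct.comm R N A).injective)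

end

/-- an injective map of finite flat algebras of the same rank, flat over its source, is
surjective -/
theorem surjective_of_injective_of_rank_eq {R A B : Type u} [CommRing R] [CommRing A]
    [CommRing B] [Algebra R A] [Algebra R B] [Module.Finite R A] [Module.Finite R B]
    [Module.Flat R A] [Module.Flat R B] [Algebra A B] [IsScalarTower R A B] [Module.Flat A B]
    (hinj : Function.Injective (algebraMap A B))
    (hrank : ∀ p : PrimeSpectrum R, Module.rankAtStalk A p = Module.rankAtStalk B p) :
    Function.Surjective (algebraMap A B) := by
  haveI : Module.Finite A B := Module.Finite.of_restrictScalars_finite R A B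
  haveI : Module.FaithfullyFlat A B :=
    Module.FaithfullyFlat.of_comap_surjective
      (PrimeSpectrum.comap_surjective_iff_injective_of_finite.mpr hinj)
  let fl : A →ₗ[R] B := (IsScalarTower.toAlgHom R A B).toLinearMap
  -- the cokernel
  let C := B ⧸ LinearMap.range fl
  have hC : ∀ p : PrimeSpectrum R, Subsingleton (p.asIdeal.ResidueField ⊗[R] C) := by
    intro p
    let k := p.asIdeal.ResidueField
    have hinjk : Function.Injective (fl.baseChange k) :=
      lTensor_injective_of_faithfullyFlat (R := R) (A := A) (B := B) k
    have hfr : Module.finrank k (k ⊗[R] A) = Module.finrank k (k ⊗[R] B) := by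
      have h1 := Module.rankAtStalk_eq (M := A) p
      have h2 := Module.rankAtStalk_eq (M := B) p
      rw [← h1, ← h2, hrank p]
    have hsurjk : Function.Surjective (fl.baseChange k) :=
      (LinearMap.injective_iff_surjective_of_finrank_eq_finrank hfr).1 hinjk
    have hsurjq : Function.Surjective ((LinearMap.range fl).mkQ.lTensor k) :=
      LinearMap.lTensor_surjective k (Submodule.mkQ_surjective _)
    refine ⟨fun x y => ?_⟩
    obtain ⟨x', rfl⟩ := hsurjq x
    obtain ⟨y', rfl⟩ := hsurjq y
    obtain ⟨x'', rfl⟩ := hsurjk x'
    obtain ⟨y'', rfl⟩ := hsurjk y'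
    have hz : ∀ t : k ⊗[R] A, ((LinearMap.range fl).mkQ.lTensor k) (fl.baseChange k t) = 0 := by
      intro t
      have : ((LinearMap.range fl).mkQ.lTensor k) (fl.baseChange k t) =
          (((LinearMap.range fl).mkQ.comp fl).lTensor k) t := by
        rw [LinearMap.lTensor_comp]; rfl
      rw [this, LinearMap.range_mkQ_comp, LinearMap.lTensor_zero, LinearMap.zero_apply]
    rw [hz, hz]
  have hsupp : Module.support R C = ∅ := by
    ext p
    simp only [Set.mem_empty_iff_false, iff_false]
    rw [Module.mem_support_iff_nontrivial_residueField_tensorProduct]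
    haveI := hC p
    exact not_nontrivial _
  have hsub : Subsingleton C := Module.support_eq_empty_iff.mp hsupp
  have hrange : LinearMap.range fl = ⊤ := Submodule.Quotient.subsingleton_iff.mp hsub
  intro b
  have : b ∈ LinearMap.range fl := by rw [hrange]; trivial
  obtain ⟨a, ha⟩ := this
  exact ⟨a, ha⟩

end Groth.Agent.H78.SF
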