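import Mathlib
import Groth.Prelude.Def_SchFin2
import Groth.Agent.H78.SchFin.RankIso

set_option autoImplicit false
set_option linter.style.haveILetI false

namespace Groth.Agent.H78.SF

open SchFin CategoryTheory

universe u

variable {X : RSpace.{u}}

/-- a morphism of étale covers bijective at every point is an isomorphism -/
theorem isIso_of_bijective {A B : FEt X} (f : A ⟶ B)
    (h : ∀ p, Function.Bijective (f.hom.app p)) : IsIso f := by
  let e : ∀ p, A.obj.carrier p ≃ₐ[X.ring p] B.obj.carrier p := fun p =>
    AlgEquiv.ofBijective (f.hom.app p) (h p)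
  have he : ∀ p a, e p a = f.hom.app p a := fun p a => rfl
  let g : B ⟶ A := ObjectProperty.homMk
    ⟨fun p => (e p).symm.toAlgHom, by
      intro p q hpq b
      apply (e q).injective
      show e q (A.obj.res hpq ((e p).symm b)) = e q ((e q).symm (B.obj.res hpq b))
      rw [AlgEquiv.apply_symm_apply, he, ← f.hom.compat, ← he, AlgEquiv.apply_symm_apply]⟩
  refine ⟨g, ?_, ?_⟩
  · apply ObjectProperty.hom_ext; apply Alg.hom_ext; intro p
    apply AlgHom.ext; intro a
    show (e p).symm (e p a) = a
    exact (e p).symm_apply_apply a
  · apply ObjectProperty.hom_ext; apply Alg.hom_ext; intro p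
    apply AlgHom.ext; intro b
    show e p ((e p).symm b) = b
    exact (e p).apply_symm_apply b

/-- S15630: a pointwise injective morphism of étale covers with equal ranks is an isomorphism -/
theorem isIso_of_injective_of_rank_eq (hX : X.IsSchematic) {A B : FEt X} (f : A ⟶ B)
    (hf : ∀ p : X.pt, Function.Injective (f.hom.app p))
    (hdeg : ∀ (p : X.pt) (P : PrimeSpectrum (X.ring p)),
      Module.rankAtStalk (A.obj.carrier p) P = Module.rankAtStalk (B.obj.carrier p) P) :
    IsIso f := by
  apply isIso_of_bijective
  intro p
  refine ⟨hf p, ?_⟩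
  haveI := (A.property.2 p).1
  haveI := (A.property.2 p).2
  haveI := (B.property.2 p).1
  haveI := (B.property.2 p).2
  letI : Algebra (A.obj.carrier p) (B.obj.carrier p) := (f.hom.app p).toRingHom.toAlgebra
  haveI : IsScalarTower (X.ring p) (A.obj.carrier p) (B.obj.carrier p) :=
    IsScalarTower.of_algebraMap_eq fun r => ((f.hom.app p).commutes r).symm
  haveI : Algebra.Etale (A.obj.carrier p) (B.obj.carrier p) :=
    Algebra.Etale.of_restrictScalars (X.ring p) (A.obj.carrier p) (B.obj.carrier p)
  exact surjective_of_injective_of_rank_eq (R := X.ring p) (hf p) (hdeg p)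

end Groth.Agent.H78.SF
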