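import Mathlib
import Groth.Prelude.Def_SchFin2
import Groth.Agent.H78.SchFin.AlgTensor
import Groth.Agent.H78.SchFin.AlgKer

set_option autoImplicit false
set_option linter.style.haveILetI false

namespace Groth.Agent.H78.SF

open SchFin CategoryTheory CategoryTheory.Limits TensorProduct

universe u

variable {X : RSpace.{u}}

/-- image of a global section under a morphism -/
def Sec.map {A B : Alg X} (t : Sec A) (f : A ⟶ B) : Sec B where
  val p := f.app p (t.val p)
  compat h := by rw [f.compat h, t.compat h]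

lemma comp_app {A B C : Alg X} (f : A ⟶ B) (g : B ⟶ C) (p : X.pt) (a : A.carrier p) :
    (f ≫ g).app p a = g.app p (f.app p a) := rfl

lemma tensorInl_app (A B : Alg X) (p : X.pt) (a : A.carrier p) :
    (tensorInl A B).app p a = a ⊗ₜ[X.ring p] (1 : B.carrier p) := rfl

lemma tensorInr_app (A B : Alg X) (p : X.pt) (b : B.carrier p) :
    (tensorInr A B).app p b = (1 : A.carrier p) ⊗ₜ[X.ring p] b := rfl

lemma tensorAlg_hom_ext {A B W : Alg X} (m₁ m₂ : tensorAlg A B ⟶ W)
    (h1 : tensorInl A B ≫ m₁ = tensorInl A B ≫ m₂)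
    (h2 : tensorInr A B ≫ m₁ = tensorInr A B ≫ m₂) : m₁ = m₂ := by
  apply Alg.hom_ext; intro p
  apply Algebra.TensorProduct.ext'
  intro a b
  have e1 : m₁.app p (a ⊗ₜ[X.ring p] (1 : B.carrier p)) = m₂.app p (a ⊗ₜ[X.ring p] 1) :=
    congrArg (fun k : A ⟶ W => k.app p a) h1
  have e2 : m₁.app p ((1 : A.carrier p) ⊗ₜ[X.ring p] b) = m₂.app p (1 ⊗ₜ[X.ring p] b) :=
    congrArg (fun k : B ⟶ W => k.app p b) h2
  have e : a ⊗ₜ[X.ring p] b = (a ⊗ₜ[X.ring p] (1 : B.carrier p)) * ((1 : A.carrier p) ⊗ₜ[X.ring p] b) := by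
    rw [Algebra.TensorProduct.tmul_mul_tmul, mul_one, one_mul]
  show m₁.app p (a ⊗ₜ[X.ring p] b) = m₂.app p (a ⊗ₜ[X.ring p] b)
  rw [e, map_mul, map_mul, e1, e2]

lemma quotAlg_hom_ext {A W : Alg X} (t : Sec A) (m₁ m₂ : quotAlg A t ⟶ W)
    (h : quotMk A t ≫ m₁ = quotMk A t ≫ m₂) : m₁ = m₂ := by
  apply Alg.hom_ext; intro p
  apply AlgHom.ext; intro x
  obtain ⟨y, rfl⟩ := quotMk_surjective A t p x
  exact congrArg (fun k : A ⟶ W => k.app p y) h

lemma tensorInl_desc {A B T : Alg X} (u : A ⟶ T) (v : B ⟶ T) :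
    tensorInl A B ≫ tensorDesc u v = u := by
  apply Alg.hom_ext; intro p
  apply AlgHom.ext; intro a
  show (tensorDesc u v).app p (a ⊗ₜ[X.ring p] (1 : B.carrier p)) = u.app p a
  rw [tensorDesc_tmul, map_one, mul_one]

lemma tensorInr_desc {A B T : Alg X} (u : A ⟶ T) (v : B ⟶ T) :
    tensorInr A B ≫ tensorDesc u v = v := by
  apply Alg.hom_ext; intro p
  apply AlgHom.ext; intro b
  show (tensorDesc u v).app p ((1 : A.carrier p) ⊗ₜ[X.ring p] b) = v.app p b
  rw [tensorDesc_tmul, map_one, one_mul]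

/-- the idempotent section cutting the pushout out of the tensor product -/
theorem exists_pushout_sec (hX : X.IsFinSp) {A B C : Alg X} (hC : C.IsEtCover)
    (f : C ⟶ A) (g : C ⟶ B) :
    ∃ s : Sec (tensorAlg A B), (∀ p, IsIdempotentElem (s.val p)) ∧
      (∀ p (c : C.carrier p), ((f.app p c) ⊗ₜ[X.ring p] (1 : B.carrier p) -
        (1 : A.carrier p) ⊗ₜ[X.ring p] (g.app p c)) ∈ Ideal.span {s.val p}) ∧
      (∀ p (W : Type u) [CommRing W] [Algebra (X.ring p) W] (u : A.carrier p →ₐ[X.ring p] W)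
        (v : B.carrier p →ₐ[X.ring p] W), u.comp (f.app p) = v.comp (g.app p) →
        Algebra.TensorProduct.productMap u v (s.val p) = 0) := by
  -- multiplication of `C`
  let μ : tensorAlg C C ⟶ C := tensorDesc (𝟙 C) (𝟙 C)
  obtain ⟨t, ht, hker⟩ := exists_ker_sec hX (tensorAlg_isEtCover hC hC) hC μ
  let d : tensorAlg C C ⟶ tensorAlg A B :=
    tensorDesc (f ≫ tensorInl A B) (g ≫ tensorInr A B)
  let s : Sec (tensorAlg A B) := t.map d
  have hs : ∀ p, IsIdempotentElem (s.val p) := fun p => by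
    show d.app p (t.val p) * d.app p (t.val p) = d.app p (t.val p)
    rw [← map_mul, (ht p).eq]
  have hμt : ∀ p, μ.app p (t.val p) = 0 := fun p => by
    have : t.val p ∈ RingHom.ker (μ.app p) := by rw [hker p]; exact Ideal.subset_span rfl
    exact this
  refine ⟨s, hs, ?_, ?_⟩
  · intro p c
    have hmem : (c ⊗ₜ[X.ring p] (1 : C.carrier p) - (1 : C.carrier p) ⊗ₜ[X.ring p] c) ∈
        Ideal.span {t.val p} := by
      rw [← hker p, RingHom.mem_ker, map_sub]
      show (tensorDesc (𝟙 C) (𝟙 C)).app p (c ⊗ₜ[X.ring p] (1 : C.carrier p)) -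
        (tensorDesc (𝟙 C) (𝟙 C)).app p ((1 : C.carrier p) ⊗ₜ[X.ring p] c) = 0
      rw [tensorDesc_tmul, tensorDesc_tmul]
      show c * 1 - 1 * c = 0
      rw [mul_one, one_mul, sub_self]
    rw [Ideal.mem_span_singleton'] at hmem ⊢
    obtain ⟨x, hx⟩ := hmem
    refine ⟨d.app p x, ?_⟩
    show d.app p x * d.app p (t.val p) = _
    rw [← map_mul, hx, map_sub]
    show (tensorDesc (f ≫ tensorInl A B) (g ≫ tensorInr A B)).app p (c ⊗ₜ[X.ring p] 1) -
      (tensorDesc (f ≫ tensorInl A B) (g ≫ tensorInr A B)).app p (1 ⊗ₜ[X.ring p] c) = _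
    rw [tensorDesc_tmul, tensorDesc_tmul, map_one, map_one, mul_one, one_mul]
    rfl
  · intro p W _ _ u v huv
    have hd : (Algebra.TensorProduct.productMap u v).comp (d.app p) =
        (u.comp (f.app p)).comp (μ.app p) := by
      apply Algebra.TensorProduct.ext'
      intro c c'
      show Algebra.TensorProduct.productMap u v
        ((tensorDesc (f ≫ tensorInl A B) (g ≫ tensorInr A B)).app p (c ⊗ₜ[X.ring p] c')) =
        u (f.app p ((tensorDesc (𝟙 C) (𝟙 C)).app p (c ⊗ₜ[X.ring p] c')))
      rw [tensorDesc_tmul, tensorDesc_tmul, map_mul, map_mul, map_mul]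
      show Algebra.TensorProduct.productMap u v ((f.app p c) ⊗ₜ[X.ring p] (1 : B.carrier p)) *
        Algebra.TensorProduct.productMap u v ((1 : A.carrier p) ⊗ₜ[X.ring p] (g.app p c')) =
        u (f.app p c) * u (f.app p c')
      rw [Algebra.TensorProduct.productMap_apply_tmul, Algebra.TensorProduct.productMap_apply_tmul,
        map_one, map_one, mul_one, one_mul]
      have := congrArg (fun k : C.carrier p →ₐ[X.ring p] W => k c') huv
      exact congrArg (fun z => u (f.app p c) * z) this.symm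
    have := congrArg (fun k : (tensorAlg C C).carrier p →ₐ[X.ring p] W => k (t.val p)) hd
    show Algebra.TensorProduct.productMap u v (d.app p (t.val p)) = 0
    refine this.trans ?_
    show u (f.app p (μ.app p (t.val p))) = 0
    rw [hμt p, map_zero, map_zero]

/-- existence of pushouts of étale covers, in the category of algebras, with the pointwise
universal property -/
theorem exists_pushout (hX : X.IsFinSp) {A B C : Alg X} (hA : A.IsEtCover) (hB : B.IsEtCover)
    (hC : C.IsEtCover) (f : C ⟶ A) (g : C ⟶ B) :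
    ∃ (P : Alg X) (_ : P.IsEtCover) (i : A ⟶ P) (j : B ⟶ P), f ≫ i = g ≫ j ∧
      (∀ (W : Alg X) (u : A ⟶ W) (v : B ⟶ W), f ≫ u = g ≫ v →
        ∃ d : P ⟶ W, i ≫ d = u ∧ j ≫ d = v ∧ ∀ m : P ⟶ W, i ≫ m = u → j ≫ m = v → m = d) ∧
      (∀ p (W : Type u) [CommRing W] [Algebra (X.ring p) W] (u : A.carrier p →ₐ[X.ring p] W)
        (v : B.carrier p →ₐ[X.ring p] W), u.comp (f.app p) = v.comp (g.app p) →
        ∃ d : P.carrier p →ₐ[X.ring p] W, d.comp (i.app p) = u ∧ d.comp (j.app p) = v ∧
          ∀ m : P.carrier p →ₐ[X.ring p] W, m.comp (i.app p) = u → m.comp (j.app p) = v →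
            m = d) := by
  obtain ⟨s, hs, hcomm, hkill⟩ := exists_pushout_sec hX hC f g
  refine ⟨quotAlg (tensorAlg A B) s, quotAlg_isEtCover (tensorAlg_isEtCover hA hB) s hs,
    tensorInl A B ≫ quotMk _ s, tensorInr A B ≫ quotMk _ s, ?_, ?_, ?_⟩
  · -- commutativity
    apply Alg.hom_ext; intro p
    apply AlgHom.ext; intro c
    show (quotMk _ s).app p ((f.app p c) ⊗ₜ[X.ring p] (1 : B.carrier p)) =
      (quotMk _ s).app p ((1 : A.carrier p) ⊗ₜ[X.ring p] (g.app p c))
    rw [← sub_eq_zero, ← map_sub, quotMk_eq_zero_iff]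
    exact hcomm p c
  · intro W u v huv
    have hkill' : ∀ p, (tensorDesc u v).app p (s.val p) = 0 := fun p =>
      hkill p (W.carrier p) (u.app p) (v.app p)
        (congrArg (fun k : C ⟶ W => k.app p) huv)
    have hq : quotMk _ s ≫ quotLift s (tensorDesc u v) hkill' = tensorDesc u v := by
      apply Alg.hom_ext; intro p; rfl
    refine ⟨quotLift s (tensorDesc u v) hkill', ?_, ?_, ?_⟩
    · rw [Category.assoc, hq, tensorInl_desc]
    · rw [Category.assoc, hq, tensorInr_desc]
    · intro m hm1 hm2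
      apply quotAlg_hom_ext
      rw [hq]
      apply tensorAlg_hom_ext
      · rw [tensorInl_desc, ← Category.assoc, hm1]
      · rw [tensorInr_desc, ← Category.assoc, hm2]
  · intro p W _ _ u v huv
    have hk := hkill p W u v huv
    have hk' : ∀ a ∈ Ideal.span {s.val p}, Algebra.TensorProduct.productMap u v a = 0 := by
      intro a ha
      rw [Ideal.mem_span_singleton'] at ha
      obtain ⟨c, rfl⟩ := ha
      rw [map_mul, hk, mul_zero]
    refine ⟨Ideal.Quotient.liftₐ (Ideal.span {s.val p}) (Algebra.TensorProduct.productMap u v) hk',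
      ?_, ?_, ?_⟩
    · apply AlgHom.ext; intro a
      show Algebra.TensorProduct.productMap u v (a ⊗ₜ[X.ring p] (1 : B.carrier p)) = u a
      rw [Algebra.TensorProduct.productMap_apply_tmul, map_one, mul_one]
    · apply AlgHom.ext; intro b
      show Algebra.TensorProduct.productMap u v ((1 : A.carrier p) ⊗ₜ[X.ring p] b) = v b
      rw [Algebra.TensorProduct.productMap_apply_tmul, map_one, one_mul]
    · intro m hm1 hm2
      apply AlgHom.ext; intro x
      obtain ⟨y, rfl⟩ := quotMk_surjective (tensorAlg A B) s p x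
      show m ((quotMk _ s).app p y) = Algebra.TensorProduct.productMap u v y
      induction y using TensorProduct.induction_on with
      | zero => rw [map_zero, map_zero, map_zero]
      | tmul a b =>
        have e : a ⊗ₜ[X.ring p] b =
            (a ⊗ₜ[X.ring p] (1 : B.carrier p)) * ((1 : A.carrier p) ⊗ₜ[X.ring p] b) := by
          rw [Algebra.TensorProduct.tmul_mul_tmul, mul_one, one_mul]
        rw [Algebra.TensorProduct.productMap_apply_tmul, e, map_mul, map_mul]
        have e1 := congrArg (fun k : A.carrier p →ₐ[X.ring p] W => k a) hm1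
        have e2 := congrArg (fun k : B.carrier p →ₐ[X.ring p] W => k b) hm2
        exact congrArg₂ (· * ·) e1 e2
      | add y z hy hz => rw [map_add, map_add, map_add, hy, hz]

theorem hasPushouts_FEt (hX : X.IsFinSp) : HasPushouts (FEt X) := by
  haveI : ∀ {A B C : FEt X} {f : A ⟶ B} {g : A ⟶ C}, HasColimit (span f g) := by
    intro C A B f g
    obtain ⟨P, hP, i, j, hij, huniv, -⟩ :=
      exists_pushout hX A.property B.property C.property f.hom g.hom
    choose dsc h1 h2 h3 using huniv
    let i' : A ⟶ (⟨P, hP⟩ : FEt X) := ObjectProperty.homMk i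
    let j' : B ⟶ (⟨P, hP⟩ : FEt X) := ObjectProperty.homMk j
    have hij' : f ≫ i' = g ≫ j' := by
      apply ObjectProperty.hom_ext
      exact hij
    have hw : ∀ s : PushoutCocone f g, f.hom ≫ s.inl.hom = g.hom ≫ s.inr.hom := fun s =>
      congrArg (fun k => k.hom) s.condition
    refine HasColimit.mk ⟨PushoutCocone.mk i' j' hij', PushoutCocone.IsColimit.mk hij'
      (fun s => ObjectProperty.homMk (dsc s.pt.obj s.inl.hom s.inr.hom (hw s)))
      (fun s => ?_) (fun s => ?_) (fun s m hm1 hm2 => ?_)⟩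
    · apply ObjectProperty.hom_ext
      exact h1 s.pt.obj s.inl.hom s.inr.hom (hw s)
    · apply ObjectProperty.hom_ext
      exact h2 s.pt.obj s.inl.hom s.inr.hom (hw s)
    · apply ObjectProperty.hom_ext
      exact h3 s.pt.obj s.inl.hom s.inr.hom (hw s) m.hom
        (congrArg (fun k => k.hom) hm1) (congrArg (fun k => k.hom) hm2)
  exact hasPushouts_of_hasColimit_span _

/-- the structure algebra as an étale cover -/
def strFEt (X : RSpace.{u}) : FEt X := ⟨Alg.str X, str_isEtCover X⟩

/-- the structure algebra is initial -/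
def isInitialStr (X : RSpace.{u}) : IsInitial (strFEt X) :=
  IsInitial.ofUniqueHom (fun A => ObjectProperty.homMk (fromStr A.obj)) (fun A m => by
    apply ObjectProperty.hom_ext; apply Alg.hom_ext; intro p
    apply AlgHom.ext; intro t
    exact (m.hom.app p).commutes t)

theorem hasInitial_FEt (X : RSpace.{u}) : HasInitial (FEt X) :=
  (isInitialStr X).hasInitial

end Groth.Agent.H78.SF
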