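import Mathlib
import Groth.Prelude.Def_SchFin2
import Groth.Agent.H78.SchFin.FEtPushout
import Groth.Agent.H78.SchFin.AlgProd
import Groth.Agent.H78.SchFin.FEtFactor
import Groth.Agent.H78.SchFin.RankIso

set_option autoImplicit false
set_option linter.style.haveILetI false

namespace Groth.Agent.H78.SF

open SchFin CategoryTheory CategoryTheory.Limits TensorProduct

universe u

variable {X : RSpace.{u}} {Ω : Type u} [Field Ω] [IsAlgClosed Ω]

/-- the algebra structure of the field of a geometric point over the ring of its base point -/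
@[reducible] def algΩ (ξ : GeomPt X Ω) : Algebra (X.ring ξ.base) Ω := ξ.toField.toAlgebra

attribute [local instance] algΩ

variable (ξ : GeomPt X Ω)

/-- points of the fibre are algebra maps to `Ω` -/
noncomputable def fibEquiv {A : Alg X} (hA : A.IsEtCover) :
    (A.carrier ξ.base →ₐ[X.ring ξ.base] Ω) ≃ ξ.Fib A :=
  haveI := (hA.2 ξ.base).1
  haveI := (hA.2 ξ.base).2
  (Algebra.TensorProduct.liftEquivRight (X.ring ξ.base) Ω (A.carrier ξ.base) Ω).trans
    (Algebra.IsFiniteSplit.algHomEquivPrimeSpectrum Ω (Ω ⊗[X.ring ξ.base] A.carrier ξ.base))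

lemma fibEquiv_asIdeal {A : Alg X} (hA : A.IsEtCover) (φ : A.carrier ξ.base →ₐ[X.ring ξ.base] Ω) :
    (fibEquiv ξ hA φ).asIdeal =
      RingHom.ker (Algebra.TensorProduct.lift (Algebra.ofId Ω Ω) φ fun _ _ => .all _ _) := rfl

lemma fibMap_fibEquiv {A B : Alg X} (hA : A.IsEtCover) (hB : B.IsEtCover) (f : A ⟶ B)
    (φ : B.carrier ξ.base →ₐ[X.ring ξ.base] Ω) :
    ξ.fibMap f (fibEquiv ξ hB φ) = fibEquiv ξ hA (φ.comp (f.app ξ.base)) := by
  apply PrimeSpectrum.ext
  rw [fibEquiv_asIdeal]
  show Ideal.comap (Algebra.TensorProduct.map (AlgHom.id Ω Ω) (f.app ξ.base)).toRingHom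
    (fibEquiv ξ hB φ).asIdeal = _
  rw [fibEquiv_asIdeal]
  ext t
  simp only [Ideal.mem_comap, RingHom.mem_ker]
  have : (Algebra.TensorProduct.lift (Algebra.ofId Ω Ω) φ fun _ _ => .all _ _).comp
      (Algebra.TensorProduct.map (AlgHom.id Ω Ω) (f.app ξ.base)) =
      (Algebra.TensorProduct.lift (Algebra.ofId Ω Ω) (φ.comp (f.app ξ.base))
        fun _ _ => .all _ _) := by
    apply Algebra.TensorProduct.ext'
    intro a b
    simp
  rw [← this]
  rfl

/-- the fibre of the structure algebra is a point -/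
noncomputable instance fib_str_unique : Unique (ξ.Fib (Alg.str X)) :=
  haveI : Unique ((Alg.str X).carrier ξ.base →ₐ[X.ring ξ.base] Ω) :=
    { default := Algebra.ofId (X.ring ξ.base) Ω
      uniq := fun φ => AlgHom.ext fun r => φ.commutes r }
  (fibEquiv ξ (str_isEtCover X)).symm.unique

theorem fib_preservesTerminal :
    PreservesLimitsOfShape (Discrete PEmpty.{1}) ξ.fibFunctor := by
  have hT : IsTerminal (Opposite.op (strFEt X)) := terminalOpOfInitial (isInitialStr X)
  have hFT : IsTerminal (ξ.fibFunctor.obj (Opposite.op (strFEt X))) :=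
    IsTerminal.ofUniqueHom
      (fun Y => FintypeCat.homMk (fun _ => (default : ξ.Fib (Alg.str X))))
      (fun Y m => by
        apply FintypeCat.hom_ext
        intro y
        exact Subsingleton.elim (α := ξ.Fib (Alg.str X)) _ _)
  haveI : PreservesLimit (Functor.empty.{0} (FEt X)ᵒᵖ) ξ.fibFunctor :=
    preservesLimit_of_preserves_limit_cone hT ((isLimitMapConeEmptyConeEquiv _ _).symm hFT)
  exact preservesLimitsOfShape_pempty_of_preservesTerminal _

/-- the fibre of a pushout is the fibre product of the fibres -/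
lemma fib_pushout_existsUnique {A B C P : Alg X} (hA : A.IsEtCover) (hB : B.IsEtCover)
    (hC : C.IsEtCover) (hP : P.IsEtCover) (f : C ⟶ A) (g : C ⟶ B) (i : A ⟶ P) (j : B ⟶ P)
    (hpt : ∀ (u : A.carrier ξ.base →ₐ[X.ring ξ.base] Ω) (v : B.carrier ξ.base →ₐ[X.ring ξ.base] Ω),
      u.comp (f.app ξ.base) = v.comp (g.app ξ.base) →
      ∃ d : P.carrier ξ.base →ₐ[X.ring ξ.base] Ω, d.comp (i.app ξ.base) = u ∧
        d.comp (j.app ξ.base) = v ∧
        ∀ m : P.carrier ξ.base →ₐ[X.ring ξ.base] Ω, m.comp (i.app ξ.base) = u →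
          m.comp (j.app ξ.base) = v → m = d)
    (a : ξ.Fib A) (b : ξ.Fib B) (hab : ξ.fibMap f a = ξ.fibMap g b) :
    ∃! 𝔭 : ξ.Fib P, ξ.fibMap i 𝔭 = a ∧ ξ.fibMap j 𝔭 = b := by
  obtain ⟨φa, rfl⟩ := (fibEquiv ξ hA).surjective a
  obtain ⟨φb, rfl⟩ := (fibEquiv ξ hB).surjective b
  rw [fibMap_fibEquiv ξ hC hA, fibMap_fibEquiv ξ hC hB] at hab
  have hab' := (fibEquiv ξ hC).injective hab
  obtain ⟨d, hd1, hd2, hd3⟩ := hpt φa φb hab'
  refine ⟨fibEquiv ξ hP d, ⟨?_, ?_⟩, ?_⟩
  · rw [fibMap_fibEquiv ξ hA hP, hd1]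
  · rw [fibMap_fibEquiv ξ hB hP, hd2]
  · rintro 𝔮 ⟨h1, h2⟩
    obtain ⟨m, rfl⟩ := (fibEquiv ξ hP).surjective 𝔮
    rw [fibMap_fibEquiv ξ hA hP] at h1
    rw [fibMap_fibEquiv ξ hB hP] at h2
    rw [hd3 m ((fibEquiv ξ hA).injective h1) ((fibEquiv ξ hB).injective h2)]

lemma fibFunctor_map_apply {A' B' : (FEt X)ᵒᵖ} (F : A' ⟶ B') (z : ξ.Fib A'.unop.obj) :
    (ξ.fibFunctor.map F) z = ξ.fibMap F.unop.hom z := rfl

theorem fib_preservesPullbacks (hX : X.IsSchematic) :
    PreservesLimitsOfShape WalkingCospan ξ.fibFunctor := by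
  suffices h : ∀ {A' B' C' : (FEt X)ᵒᵖ} (F : A' ⟶ C') (G : B' ⟶ C'),
      PreservesLimit (cospan F G) ξ.fibFunctor from
    ⟨fun {K} => preservesLimit_of_iso_diagram _ (diagramIsoCospan K).symm⟩
  intro A' B' C' F G
  obtain ⟨P, hP, i, j, hij, huniv, hpt⟩ := exists_pushout hX.1 A'.unop.property B'.unop.property
    C'.unop.property F.unop.hom G.unop.hom
  choose dsc h1 h2 h3 using huniv
  let P' : (FEt X)ᵒᵖ := Opposite.op ⟨P, hP⟩
  let fst : P' ⟶ A' := (ObjectProperty.homMk i : A'.unop ⟶ (⟨P, hP⟩ : FEt X)).op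
  let snd : P' ⟶ B' := (ObjectProperty.homMk j : B'.unop ⟶ (⟨P, hP⟩ : FEt X)).op
  have hcond : fst ≫ F = snd ≫ G := by
    apply Quiver.Hom.unop_inj
    apply ObjectProperty.hom_ext
    exact hij
  have hw : ∀ s : PullbackCone F G,
      F.unop.hom ≫ s.fst.unop.hom = G.unop.hom ≫ s.snd.unop.hom := fun s =>
    congrArg (fun k => k.unop.hom) s.condition
  have hlim : IsLimit (PullbackCone.mk fst snd hcond) :=
    PullbackCone.IsLimit.mk hcond
      (fun s => (ObjectProperty.homMk
        (dsc s.pt.unop.obj s.fst.unop.hom s.snd.unop.hom (hw s)) :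
          (⟨P, hP⟩ : FEt X) ⟶ s.pt.unop).op)
      (fun s => by
        apply Quiver.Hom.unop_inj
        apply ObjectProperty.hom_ext
        exact h1 s.pt.unop.obj s.fst.unop.hom s.snd.unop.hom (hw s))
      (fun s => by
        apply Quiver.Hom.unop_inj
        apply ObjectProperty.hom_ext
        exact h2 s.pt.unop.obj s.fst.unop.hom s.snd.unop.hom (hw s))
      (fun s m hm1 hm2 => by
        apply Quiver.Hom.unop_inj
        apply ObjectProperty.hom_ext
        exact h3 s.pt.unop.obj s.fst.unop.hom s.snd.unop.hom (hw s) m.unop.hom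
          (congrArg (fun k => k.unop.hom) hm1) (congrArg (fun k => k.unop.hom) hm2))
  have key : ∀ (a : ξ.Fib A'.unop.obj) (b : ξ.Fib B'.unop.obj),
      ξ.fibMap F.unop.hom a = ξ.fibMap G.unop.hom b →
      ∃! 𝔭 : ξ.Fib P, ξ.fibMap i 𝔭 = a ∧ ξ.fibMap j 𝔭 = b :=
    fib_pushout_existsUnique ξ A'.unop.property B'.unop.property C'.unop.property hP
      F.unop.hom G.unop.hom i j (fun u v huv => hpt ξ.base Ω u v huv)
  have hcompat : ∀ (s : PullbackCone (ξ.fibFunctor.map F) (ξ.fibFunctor.map G)) (z : s.pt),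
      ξ.fibMap F.unop.hom (s.fst z) = ξ.fibMap G.unop.hom (s.snd z) := fun s z =>
    congrArg (fun k => k z) s.condition
  have hlim' : IsLimit (PullbackCone.mk (ξ.fibFunctor.map fst) (ξ.fibFunctor.map snd)
      (by rw [← Functor.map_comp, ← Functor.map_comp, hcond])) :=
    PullbackCone.IsLimit.mk _
      (fun s => FintypeCat.homMk (fun z =>
        (Classical.choose (key (s.fst z) (s.snd z) (hcompat s z)) : ξ.Fib P)))
      (fun s => by
        apply FintypeCat.hom_ext
        intro z
        exact (Classical.choose_spec (key (s.fst z) (s.snd z) (hcompat s z))).1.1)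
      (fun s => by
        apply FintypeCat.hom_ext
        intro z
        exact (Classical.choose_spec (key (s.fst z) (s.snd z) (hcompat s z))).1.2)
      (fun s m hm1 hm2 => by
        apply FintypeCat.hom_ext
        intro z
        exact (Classical.choose_spec (key (s.fst z) (s.snd z) (hcompat s z))).2 (m z)
          ⟨congrArg (fun k => k z) hm1, congrArg (fun k => k z) hm2⟩)
  exact preservesLimit_of_preserves_limit_cone hlim
    ((isLimitMapConePullbackConeEquiv _ _).symm hlim')

/-- base change to a field of an injective map of finite étale algebras is injective -/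
lemma baseChange_injective_of_injective {R A B K : Type u} [CommRing R] [CommRing A] [CommRing B]
    [CommRing K] [Algebra R K]
    [Algebra R A] [Algebra R B] [Module.Finite R A] [Module.Finite R B] [Algebra.Etale R A]
    [Algebra.Etale R B] (f : A →ₐ[R] B) (hf : Function.Injective f) :
    Function.Injective (Algebra.TensorProduct.map (AlgHom.id K K) f) := by
  letI : Algebra A B := f.toRingHom.toAlgebra
  haveI : IsScalarTower R A B := IsScalarTower.of_algebraMap_eq fun r => (f.commutes r).symm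
  haveI : Algebra.Etale A B := Algebra.Etale.of_restrictScalars R A B
  haveI : Module.Finite A B := Module.Finite.of_restrictScalars_finite R A B
  haveI : Module.FaithfullyFlat A B :=
    Module.FaithfullyFlat.of_comap_surjective
      (PrimeSpectrum.comap_surjective_iff_injective_of_finite.mpr hf)
  have h := lTensor_injective_of_faithfullyFlat (R := R) (A := A) (B := B) K
  intro x y hxy
  apply h
  exact hxy

lemma fibMap_surjective_of_injective {A B : Alg X} (hA : A.IsEtCover) (hB : B.IsEtCover)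
    (f : A ⟶ B) (hinj : Function.Injective (f.app ξ.base)) : Function.Surjective (ξ.fibMap f) := by
  haveI := (hA.2 ξ.base).1
  haveI := (hA.2 ξ.base).2
  haveI := (hB.2 ξ.base).1
  haveI := (hB.2 ξ.base).2
  have hinj' := baseChange_injective_of_injective (K := Ω) (f.app ξ.base) hinj
  let g := Algebra.TensorProduct.map (AlgHom.id Ω Ω) (f.app ξ.base)
  have hfin : g.toRingHom.Finite := by
    apply RingHom.Finite.of_comp_finite
      (f := algebraMap Ω (Ω ⊗[X.ring ξ.base] A.carrier ξ.base))
    have : g.toRingHom.comp (algebraMap Ω (Ω ⊗[X.ring ξ.base] A.carrier ξ.base)) =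
        algebraMap Ω (Ω ⊗[X.ring ξ.base] B.carrier ξ.base) := by
      ext r
      exact g.commutes r
    rw [this, RingHom.finite_algebraMap]
    exact (inferInstance : Module.Finite Ω (Ω ⊗[X.ring ξ.base] B.carrier ξ.base))
  exact hfin.to_isIntegral.comap_surjective hinj'

theorem fib_preservesEpimorphisms (hX : X.IsSchematic) :
    ξ.fibFunctor.PreservesEpimorphisms := by
  refine ⟨fun {A' B'} F hF => ?_⟩
  haveI : Mono F.unop := unop_mono_of_epi F
  have hinj := mono_injective hX F.unop ξ.base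
  apply ConcreteCategory.epi_of_surjective
  exact fibMap_surjective_of_injective ξ B'.unop.property A'.unop.property F.unop.hom hinj

section ProdHom

variable {R A B K : Type u} [CommRing R] [CommRing A] [CommRing B] [Field K] [Algebra R A]
  [Algebra R B] [Algebra R K]

/-- a map from a product to a field sending `(1, 0)` to `1` factors through the first
projection -/
def fstFactor (ψ : A × B →ₐ[R] K) (h : ψ (1, 0) = 1) : A →ₐ[R] K where
  toFun a := ψ (a, 0)
  map_one' := h
  map_mul' a a' := by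
    rw [← map_mul]; congr 1; ext <;> simp
  map_zero' := by
    have : ((0 : A), (0 : B)) = 0 := rfl
    rw [this, map_zero]
  map_add' a a' := by
    rw [← map_add]; congr 1; ext <;> simp
  commutes' r := by
    have : (algebraMap R A r, (0 : B)) = algebraMap R (A × B) r * (1, 0) := by
      ext <;> simp
    rw [this, map_mul, h, mul_one, AlgHom.commutes]

lemma fstFactor_comp (ψ : A × B →ₐ[R] K) (h : ψ (1, 0) = 1) :
    (fstFactor ψ h).comp (AlgHom.fst R A B) = ψ := by
  apply AlgHom.ext
  rintro ⟨a, b⟩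
  show ψ (a, 0) = ψ (a, b)
  have h0 : ψ (0, 1) = 0 := by
    have h1 : ψ ((1, 0) + (0, 1)) = 1 := by
      have : ((1 : A), (0 : B)) + (0, 1) = 1 := by ext <;> simp
      rw [this, map_one]
    rw [map_add, h] at h1
    exact left_eq_add.mp h1.symm
  have : ((a, b) : A × B) = (a, 0) + (0, b) * (0, 1) := by ext <;> simp
  rw [this, map_add, map_mul, h0, mul_zero, add_zero]

/-- a map from a product to a field sending `(0, 1)` to `1` factors through the second
projection -/
def sndFactor (ψ : A × B →ₐ[R] K) (h : ψ (0, 1) = 1) : B →ₐ[R] K where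
  toFun b := ψ (0, b)
  map_one' := h
  map_mul' a a' := by
    rw [← map_mul]; congr 1; ext <;> simp
  map_zero' := by
    have : ((0 : A), (0 : B)) = 0 := rfl
    rw [this, map_zero]
  map_add' a a' := by
    rw [← map_add]; congr 1; ext <;> simp
  commutes' r := by
    have : ((0 : A), algebraMap R B r) = algebraMap R (A × B) r * (0, 1) := by
      ext <;> simp
    rw [this, map_mul, h, mul_one, AlgHom.commutes]

lemma sndFactor_comp (ψ : A × B →ₐ[R] K) (h : ψ (0, 1) = 1) :
    (sndFactor ψ h).comp (AlgHom.snd R A B) = ψ := by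
  apply AlgHom.ext
  rintro ⟨a, b⟩
  show ψ (0, b) = ψ (a, b)
  have h0 : ψ (1, 0) = 0 := by
    have h1 : ψ ((1, 0) + (0, 1)) = 1 := by
      have : ((1 : A), (0 : B)) + (0, 1) = 1 := by ext <;> simp
      rw [this, map_one]
    rw [map_add, h] at h1
    exact right_eq_add.mp h1.symm
  have : ((a, b) : A × B) = (a, 0) * (1, 0) + (0, b) := by ext <;> simp
  rw [this, map_add, map_mul, h0, mul_zero, zero_add]

lemma prodHom_cases (ψ : A × B →ₐ[R] K) : ψ (1, 0) = 1 ∨ ψ (0, 1) = 1 := by
  have hid : ψ (1, 0) * ψ (1, 0) = ψ (1, 0) := by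
    rw [← map_mul]; congr 1; ext <;> simp
  have h1 : ψ (1, 0) + ψ (0, 1) = 1 := by
    rw [← map_add]
    have : ((1 : A), (0 : B)) + (0, 1) = 1 := by ext <;> simp
    rw [this, map_one]
  rcases (IsIdempotentElem.iff_eq_zero_or_one (p := ψ (1, 0))).1 hid with h | h
  · right; rw [h, zero_add] at h1; exact h1
  · left; exact h

end ProdHom

lemma fib_unit_isEmpty : IsEmpty (ξ.Fib (unitAlg X)) := by
  refine ⟨fun z => ?_⟩
  let φ := (fibEquiv ξ (unitAlg_isEtCover X)).symm z
  have h1 : φ 1 = 1 := map_one φ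
  have h0 : (1 : (unitAlg X).carrier ξ.base) = 0 := rfl
  rw [h0, map_zero] at h1
  exact zero_ne_one h1

theorem fib_preservesInitial :
    PreservesColimitsOfShape (Discrete.{0} PEmpty) ξ.fibFunctor := by
  have hI : IsInitial (Opposite.op (unitFEt X)) := initialOpOfTerminal (isTerminalUnit X)
  have hempty := fib_unit_isEmpty ξ
  have hFI : IsInitial (ξ.fibFunctor.obj (Opposite.op (unitFEt X))) :=
    IsInitial.ofUniqueHom
      (fun Y => FintypeCat.homMk (fun z : ξ.Fib (unitAlg X) => (hempty.false z).elim))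
      (fun Y m => by
        apply FintypeCat.hom_ext
        intro z
        exact (hempty.false z).elim)
  haveI : PreservesColimit (Functor.empty.{0} (FEt X)ᵒᵖ) ξ.fibFunctor :=
    preservesColimit_of_preserves_colimit_cocone hI
      ((isColimitMapCoconeEmptyCoconeEquiv _ _).symm hFI)
  exact preservesColimitsOfShape_pempty_of_preservesInitial _

lemma fibMap_prodFst_injective {A B : Alg X} (hA : A.IsEtCover) (hB : B.IsEtCover) :
    Function.Injective (ξ.fibMap (prodFst A B)) := by
  intro a a' h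
  obtain ⟨φ, rfl⟩ := (fibEquiv ξ hA).surjective a
  obtain ⟨φ', rfl⟩ := (fibEquiv ξ hA).surjective a'
  rw [fibMap_fibEquiv ξ (prodAlg_isEtCover hA hB) hA, fibMap_fibEquiv ξ (prodAlg_isEtCover hA hB) hA]
    at h
  have h' := (fibEquiv ξ (prodAlg_isEtCover hA hB)).injective h
  congr 1
  apply AlgHom.ext; intro t
  exact congrArg (fun k : (prodAlg A B).carrier ξ.base →ₐ[X.ring ξ.base] Ω =>
    k ((t, 0) : A.carrier ξ.base × B.carrier ξ.base)) h'

lemma fibMap_prodSnd_injective {A B : Alg X} (hA : A.IsEtCover) (hB : B.IsEtCover) :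
    Function.Injective (ξ.fibMap (prodSnd A B)) := by
  intro a a' h
  obtain ⟨φ, rfl⟩ := (fibEquiv ξ hB).surjective a
  obtain ⟨φ', rfl⟩ := (fibEquiv ξ hB).surjective a'
  rw [fibMap_fibEquiv ξ (prodAlg_isEtCover hA hB) hB, fibMap_fibEquiv ξ (prodAlg_isEtCover hA hB) hB]
    at h
  have h' := (fibEquiv ξ (prodAlg_isEtCover hA hB)).injective h
  congr 1
  apply AlgHom.ext; intro t
  exact congrArg (fun k : (prodAlg A B).carrier ξ.base →ₐ[X.ring ξ.base] Ω =>
    k ((0, t) : A.carrier ξ.base × B.carrier ξ.base)) h'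

lemma fibMap_prod_disjoint {A B : Alg X} (hA : A.IsEtCover) (hB : B.IsEtCover)
    (a : ξ.Fib A) (b : ξ.Fib B) : ξ.fibMap (prodFst A B) a ≠ ξ.fibMap (prodSnd A B) b := by
  intro h
  obtain ⟨φ, rfl⟩ := (fibEquiv ξ hA).surjective a
  obtain ⟨φ', rfl⟩ := (fibEquiv ξ hB).surjective b
  rw [fibMap_fibEquiv ξ (prodAlg_isEtCover hA hB) hA, fibMap_fibEquiv ξ (prodAlg_isEtCover hA hB) hB]
    at h
  have h' := (fibEquiv ξ (prodAlg_isEtCover hA hB)).injective h
  have h1 := congrArg (fun k : (prodAlg A B).carrier ξ.base →ₐ[X.ring ξ.base] Ω =>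
    k ((1, 0) : A.carrier ξ.base × B.carrier ξ.base)) h'
  have h2 : φ 1 = φ' 0 := h1
  rw [map_one, map_zero] at h2
  exact one_ne_zero h2

lemma fibMap_prod_cover {A B : Alg X} (hA : A.IsEtCover) (hB : B.IsEtCover)
    (z : ξ.Fib (prodAlg A B)) :
    (∃ a, ξ.fibMap (prodFst A B) a = z) ∨ (∃ b, ξ.fibMap (prodSnd A B) b = z) := by
  obtain ⟨ψ, rfl⟩ := (fibEquiv ξ (prodAlg_isEtCover hA hB)).surjective z
  let ψ' : A.carrier ξ.base × B.carrier ξ.base →ₐ[X.ring ξ.base] Ω := ψ
  rcases prodHom_cases ψ' with h | h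
  · left
    refine ⟨fibEquiv ξ hA (fstFactor ψ' h), ?_⟩
    rw [fibMap_fibEquiv ξ (prodAlg_isEtCover hA hB) hA]
    congr 1
    exact fstFactor_comp ψ' h
  · right
    refine ⟨fibEquiv ξ hB (sndFactor ψ' h), ?_⟩
    rw [fibMap_fibEquiv ξ (prodAlg_isEtCover hA hB) hB]
    congr 1
    exact sndFactor_comp ψ' h

theorem fib_preservesBinaryCoproducts :
    PreservesColimitsOfShape (Discrete WalkingPair) ξ.fibFunctor := by
  suffices h : ∀ (A' B' : (FEt X)ᵒᵖ), PreservesColimit (pair A' B') ξ.fibFunctor from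
    ⟨fun {K} => preservesColimit_of_iso_diagram _ (diagramIsoPair K).symm⟩
  intro A' B'
  let inl : A' ⟶ Opposite.op (prodFEt A'.unop B'.unop) :=
    (ObjectProperty.homMk (prodFst A'.unop.obj B'.unop.obj) :
      prodFEt A'.unop B'.unop ⟶ A'.unop).op
  let inr : B' ⟶ Opposite.op (prodFEt A'.unop B'.unop) :=
    (ObjectProperty.homMk (prodSnd A'.unop.obj B'.unop.obj) :
      prodFEt A'.unop B'.unop ⟶ B'.unop).op
  have hcolim : IsColimit (BinaryCofan.mk inl inr) :=
    BinaryCofan.isColimitMk
      (fun s => (ObjectProperty.homMk (prodLift s.inl.unop.hom s.inr.unop.hom) :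
        s.pt.unop ⟶ prodFEt A'.unop B'.unop).op)
      (fun s => by
        apply Quiver.Hom.unop_inj; apply ObjectProperty.hom_ext; apply Alg.hom_ext; intro p; rfl)
      (fun s => by
        apply Quiver.Hom.unop_inj; apply ObjectProperty.hom_ext; apply Alg.hom_ext; intro p; rfl)
      (fun s m h1 h2 => by
        apply Quiver.Hom.unop_inj; apply ObjectProperty.hom_ext; apply Alg.hom_ext; intro p
        apply AlgHom.ext; intro t
        have e1 := congrArg (fun k => (k.unop.hom.app p) t) h1
        have e2 := congrArg (fun k => (k.unop.hom.app p) t) h2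
        exact Prod.ext e1 e2)
  have hcolim' : IsColimit (BinaryCofan.mk (ξ.fibFunctor.map inl) (ξ.fibFunctor.map inr)) := by
    apply isColimitOfReflects FintypeCat.incl
    refine (isColimitMapCoconeBinaryCofanEquiv _ _ _).symm ?_
    apply Nonempty.some
    rw [Types.binaryCofan_isColimit_iff]
    refine ⟨?_, ?_, ?_⟩
    · exact fibMap_prodFst_injective ξ A'.unop.property B'.unop.property
    · exact fibMap_prodSnd_injective ξ A'.unop.property B'.unop.property
    · refine IsCompl.of_eq ?_ ?_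
      · ext z
        simp only [Set.inf_eq_inter, Set.mem_inter_iff, Set.mem_range, Set.bot_eq_empty,
          Set.mem_empty_iff_false, iff_false, not_and]
        rintro ⟨a, rfl⟩ ⟨b, hb⟩
        exact fibMap_prod_disjoint ξ A'.unop.property B'.unop.property a b hb.symm
      · ext z
        simp only [Set.sup_eq_union, Set.mem_union, Set.mem_range, Set.top_eq_univ, Set.mem_univ,
          iff_true]
        exact fibMap_prod_cover ξ A'.unop.property B'.unop.property z
  exact preservesColimit_of_preserves_colimit_cocone hcolim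
    ((isColimitMapCoconeBinaryCofanEquiv _ _ _).symm hcolim')

theorem hasFiniteProducts_FEt (X : RSpace.{u}) : HasFiniteProducts (FEt X) := by
  haveI := hasBinaryProducts_FEt X
  haveI := hasTerminal_FEt X
  exact hasFiniteProducts_of_has_binary_and_terminal

theorem fib_preservesFiniteCoproducts : PreservesFiniteCoproducts ξ.fibFunctor := by
  haveI := hasFiniteProducts_FEt X
  haveI : HasFiniteCoproducts (FEt X)ᵒᵖ := inferInstance
  haveI := fib_preservesBinaryCoproducts ξ
  haveI := fib_preservesInitial ξ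
  exact ⟨fun n => preservesShape_fin_of_preserves_binary_and_initial ξ.fibFunctor n⟩

end Groth.Agent.H78.SF
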