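import Mathlib
import Groth.Prelude.Def_SchFin2
import Groth.Agent.H78.SchFin.Fibre
import Groth.Agent.H78.SchFin.FEtIso

set_option autoImplicit false
set_option linter.style.haveILetI false

namespace Groth.Agent.H78.SF

open SchFin CategoryTheory CategoryTheory.Limits TensorProduct

universe u

/-- the rank of a module split by a faithfully flat algebra -/
lemma rankAtStalk_of_split {R S A : Type u} [CommRing R] [CommRing S] [CommRing A] [Algebra R S]
    [Algebra R A] [Module.FaithfullyFlat R S] [Module.Finite R A] [Module.Flat R A] (n : ℕ)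
    (e : S ⊗[R] A ≃ₐ[S] (Fin n → S)) (P : PrimeSpectrum R) : Module.rankAtStalk A P = n := by
  obtain ⟨Q, rfl⟩ := PrimeSpectrum.comap_surjective_of_faithfullyFlat (B := S) P
  haveI : Nontrivial S := Q.nontrivial
  rw [← Module.rankAtStalk_baseChange, Module.rankAtStalk_eq_of_equiv e.toLinearEquiv,
    Module.rankAtStalk_eq_finrank_of_free]
  simp

/-- the cardinality of the spectrum of a finite étale algebra over a separably closed field is its
dimension -/
lemma card_primeSpectrum_eq_finrank {K T : Type u} [Field K] [IsSepClosed K] [CommRing T]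
    [Algebra K T] [Module.Finite K T] [Algebra.Etale K T] :
    Nat.card (PrimeSpectrum T) = Module.finrank K T := by
  haveI : IsArtinianRing T := IsArtinianRing.of_finite K T
  let e := Algebra.FormallyEtale.equivPiOfIsSepClosed K T
  rw [e.toLinearEquiv.finrank_eq]
  haveI : Fintype (PrimeSpectrum T) := Fintype.ofFinite _
  rw [Module.finrank_fintype_fun_eq_card, Nat.card_eq_fintype_card]

variable {X : RSpace.{u}} {Ω : Type u} [Field Ω] [IsAlgClosed Ω]

attribute [local instance] algΩ

variable (ξ : GeomPt X Ω)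

/-- the prime of the ring at the base point cut out by the geometric point -/
noncomputable def basePrime : PrimeSpectrum (X.ring ξ.base) :=
  ⟨RingHom.ker ξ.toField, RingHom.ker_isPrime _⟩

/-- the cardinality of the fibre is the rank at the base prime -/
lemma card_fib_eq_rank {A : Alg X} (hA : A.IsEtCover) :
    Nat.card (ξ.Fib A) = Module.rankAtStalk (A.carrier ξ.base) (basePrime ξ) := by
  haveI := (hA.2 ξ.base).1
  haveI := (hA.2 ξ.base).2
  show Nat.card (PrimeSpectrum (Ω ⊗[X.ring ξ.base] A.carrier ξ.base)) = _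
  rw [card_primeSpectrum_eq_finrank (K := Ω)]
  have h1 := Module.rankAtStalk_baseChange (R := X.ring ξ.base) (M := A.carrier ξ.base) (S := Ω)
    (⊥ : PrimeSpectrum Ω)
  have h2 : Module.rankAtStalk (R := Ω) (Ω ⊗[X.ring ξ.base] A.carrier ξ.base) ⊥ =
      Module.finrank Ω (Ω ⊗[X.ring ξ.base] A.carrier ξ.base) := by
    rw [Module.rankAtStalk_eq_finrank_of_free]; rfl
  rw [← h2, h1]
  congr 1

/-- under local triviality, the rank of an étale cover is the same at every prime of every point,
equal to the cardinality of the fibre -/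
lemma rank_eq_card_fib (A : FEt X)
    (hlt : ∃ (B : Alg X) (n : ℕ), B.IsCovering ∧
      ∀ p : X.pt, Nonempty (TensorProduct (X.ring p) (B.carrier p) (A.obj.carrier p) ≃ₐ[B.carrier p]
        (Fin n → B.carrier p)))
    (p : X.pt) (P : PrimeSpectrum (X.ring p)) :
    Module.rankAtStalk (A.obj.carrier p) P = Nat.card (ξ.Fib A.obj) := by
  obtain ⟨B, n, hB, hiso⟩ := hlt
  have key : ∀ (q : X.pt) (Q : PrimeSpectrum (X.ring q)),
      Module.rankAtStalk (A.obj.carrier q) Q = n := by
    intro q Q
    haveI := (A.property.2 q).1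
    haveI := (A.property.2 q).2
    haveI := (hB.2 q).2
    obtain ⟨e⟩ := hiso q
    exact rankAtStalk_of_split n e Q
  rw [card_fib_eq_rank ξ A.property, key, key]

lemma fibMap_injective_of_surjective {A B : Alg X} (hA : A.IsEtCover) (hB : B.IsEtCover)
    (f : A ⟶ B) (hsurj : Function.Surjective (f.app ξ.base)) : Function.Injective (ξ.fibMap f) := by
  intro b b' h
  obtain ⟨φ, rfl⟩ := (fibEquiv ξ hB).surjective b
  obtain ⟨φ', rfl⟩ := (fibEquiv ξ hB).surjective b'
  rw [fibMap_fibEquiv ξ hA hB, fibMap_fibEquiv ξ hA hB] at h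
  have h' := (fibEquiv ξ hA).injective h
  congr 1
  apply AlgHom.ext; intro t
  obtain ⟨s, rfl⟩ := hsurj t
  exact congrArg (fun k : A.carrier ξ.base →ₐ[X.ring ξ.base] Ω => k s) h'

/-- S15631: the fibre functor reflects isomorphisms -/
theorem fib_reflectsIsomorphisms (hX : X.IsSchematic)
    (hlt : ∀ A : FEt X, ∃ (B : Alg X) (n : ℕ), B.IsCovering ∧
      ∀ p : X.pt, Nonempty (TensorProduct (X.ring p) (B.carrier p) (A.obj.carrier p) ≃ₐ[B.carrier p]
        (Fin n → B.carrier p))) :
    ξ.fibFunctor.ReflectsIsomorphisms := by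
  refine ⟨fun {A' B'} F hF => ?_⟩
  -- `g : B ⟶ A` in `FEt X`
  obtain ⟨Q, q, h, hqh, hq, hh⟩ := exists_factorisation hX F.unop
  have hbij : Function.Bijective (ξ.fibMap F.unop.hom) :=
    (ConcreteCategory.isIso_iff_bijective (ξ.fibFunctor.map F)).mp hF
  have hcomp : ξ.fibMap F.unop.hom = ξ.fibMap q.hom ∘ ξ.fibMap h.hom := by
    rw [← ξ.fibMap_comp, ← hqh]; rfl
  rw [hcomp] at hbij
  have hh_surj : Function.Surjective (ξ.fibMap h.hom) :=
    fibMap_surjective_of_injective ξ Q.property A'.unop.property h.hom (hh ξ.base)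
  have hq_inj : Function.Injective (ξ.fibMap q.hom) :=
    fibMap_injective_of_surjective ξ B'.unop.property Q.property q.hom (hq ξ.base)
  have hh_bij : Function.Bijective (ξ.fibMap h.hom) :=
    ⟨Function.Injective.of_comp hbij.1, hh_surj⟩
  have hq_bij : Function.Bijective (ξ.fibMap q.hom) :=
    ⟨hq_inj, Function.Surjective.of_comp hbij.2⟩
  have cardQA : Nat.card (ξ.Fib Q.obj) = Nat.card (ξ.Fib A'.unop.obj) :=
    (Nat.card_eq_of_bijective _ hh_bij).symm
  have cardBQ : Nat.card (ξ.Fib B'.unop.obj) = Nat.card (ξ.Fib Q.obj) :=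
    (Nat.card_eq_of_bijective _ hq_bij).symm
  haveI : IsIso h := by
    apply isIso_of_injective_of_rank_eq hX h hh
    intro p P
    rw [rank_eq_card_fib ξ Q (hlt Q), rank_eq_card_fib ξ A'.unop (hlt _), cardQA]
  haveI : IsIso q := by
    apply isIso_of_bijective
    intro p
    haveI := (B'.unop.property.2 p).1
    haveI := (B'.unop.property.2 p).2
    haveI := (Q.property.2 p).1
    haveI := (Q.property.2 p).2
    refine Module.bijective_of_surjective_of_rankAtStalk_eq (R := X.ring p)
      (φ := (q.hom.app p).toLinearMap) (hq p) (fun m _ => ?_)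
    rw [rank_eq_card_fib ξ B'.unop (hlt _), rank_eq_card_fib ξ Q (hlt Q), cardBQ]
  haveI : IsIso F.unop := by rw [← hqh]; infer_instance
  exact (isIso_unop_iff F).mp inferInstance

end Groth.Agent.H78.SF
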