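import Mathlib

set_option autoImplicit false
set_option linter.style.haveILetI false

namespace Groth.Agent.H78.SF

universe u

section Orbit

variable {B : Type u} [CommRing B] {H : Type u} [Group H] [Finite H] [MulSemiringAction H B]
  {Ω : Type u} [Field Ω]

/-- elementwise: a value of `φ'` is a value of `φ` on the orbit -/
lemma exists_smul_eq_of_agree (φ φ' : B →+* Ω)
    (hag : ∀ b : B, (∀ h : H, h • b = b) → φ b = φ' b) (b : B) : ∃ h : H, φ' b = φ (h • b) := by
  classical
  cases nonempty_fintype H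
  let A := FixedPoints.subring B H
  haveI hinv : Algebra.IsInvariant A B H := ⟨fun b hb => ⟨⟨b, hb⟩, rfl⟩⟩
  obtain ⟨p, hp⟩ := Algebra.IsInvariant.charpoly_mem_lifts A B H b
  have hp' : p.map (algebraMap A B) = MulSemiringAction.charpoly H b := hp
  have h1 : (MulSemiringAction.charpoly H b).map φ = (MulSemiringAction.charpoly H b).map φ' := by
    rw [← hp', Polynomial.map_map, Polynomial.map_map]
    congr 1
    ext a
    exact hag a.1 a.2
  have h2 : ((MulSemiringAction.charpoly H b).map φ').eval (φ' b) = 0 := by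
    rw [Polynomial.eval_map, Polynomial.eval₂_hom, MulSemiringAction.eval_charpoly, map_zero]
  rw [← h1, MulSemiringAction.charpoly_eq, Polynomial.map_prod, Polynomial.eval_prod,
    Finset.prod_eq_zero_iff] at h2
  obtain ⟨h, -, hh⟩ := h2
  refine ⟨h, ?_⟩
  simpa [sub_eq_zero] using hh

/-- two maps to a field with the same kernel agreeing on invariants differ by an element of the
group -/
lemma exists_smul_of_agree_of_ker_eq (φ φ' : B →+* Ω)
    (hag : ∀ b : B, (∀ h : H, h • b = b) → φ b = φ' b)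
    (hker : RingHom.ker φ = RingHom.ker φ') : ∃ h : H, ∀ b, φ' b = φ (h • b) := by
  classical
  let A := FixedPoints.subring B H
  haveI hinv : Algebra.IsInvariant A B H := ⟨fun b hb => ⟨⟨b, hb⟩, rfl⟩⟩
  obtain ⟨Q, hQ⟩ : ∃ Q : Ideal B, Q = RingHom.ker φ := ⟨_, rfl⟩
  haveI : Q.IsPrime := hQ ▸ RingHom.ker_isPrime φ
  let P : Ideal A := Q.under A
  let φb : B ⧸ Q →+* Ω := Ideal.Quotient.lift Q φ (fun a ha => by rw [hQ] at ha; exact ha)
  let φb' : B ⧸ Q →+* Ω := Ideal.Quotient.lift Q φ' (fun a ha => by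
    rw [hQ, hker] at ha; exact ha)
  have hφb : ∀ b, φb (Ideal.Quotient.mk Q b) = φ b := fun b => rfl
  have hφb' : ∀ b, φb' (Ideal.Quotient.mk Q b) = φ' b := fun b => rfl
  have hinj : Function.Injective φb := by
    rw [injective_iff_map_eq_zero]
    intro x hx
    obtain ⟨b, rfl⟩ := Ideal.Quotient.mk_surjective x
    rw [hφb] at hx
    rw [Ideal.Quotient.eq_zero_iff_mem, hQ]
    exact hx
  have hinj' : Function.Injective φb' := by
    rw [injective_iff_map_eq_zero]
    intro x hx
    obtain ⟨b, rfl⟩ := Ideal.Quotient.mk_surjective x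
    rw [hφb'] at hx
    rw [Ideal.Quotient.eq_zero_iff_mem, hQ, hker]
    exact hx
  -- the images agree
  have hex : ∀ x : B ⧸ Q, ∃ y : B ⧸ Q, φb y = φb' x := by
    intro x
    obtain ⟨b, rfl⟩ := Ideal.Quotient.mk_surjective x
    obtain ⟨h, hh⟩ := exists_smul_eq_of_agree φ φ' hag b
    exact ⟨Ideal.Quotient.mk Q (h • b), by rw [hφb, hφb', hh]⟩
  have hex' : ∀ y : B ⧸ Q, ∃ x : B ⧸ Q, φb' x = φb y := by
    intro y
    obtain ⟨b, rfl⟩ := Ideal.Quotient.mk_surjective y
    obtain ⟨h, hh⟩ := exists_smul_eq_of_agree φ' φ (fun b hb => (hag b hb).symm) b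
    exact ⟨Ideal.Quotient.mk Q (h • b), by rw [hφb, hφb', hh]⟩
  choose t ht using hex
  let tr : B ⧸ Q →+* B ⧸ Q :=
    { toFun := t
      map_one' := hinj (by rw [ht, map_one, map_one])
      map_mul' := fun x y => hinj (by rw [ht, map_mul, map_mul, ht, ht])
      map_zero' := hinj (by rw [ht, map_zero, map_zero])
      map_add' := fun x y => hinj (by rw [ht, map_add, map_add, ht, ht]) }
  have htr_bij : Function.Bijective tr := by
    constructor
    · intro x y hxy
      apply hinj'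
      rw [← ht x, ← ht y]
      exact congrArg φb hxy
    · intro y
      obtain ⟨x, hx⟩ := hex' y
      exact ⟨x, hinj (by rw [← hx]; exact ht x)⟩
  let te : (B ⧸ Q) ≃ₐ[A ⧸ P] (B ⧸ Q) :=
    AlgEquiv.ofRingEquiv (f := RingEquiv.ofBijective tr htr_bij) (by
      intro x
      obtain ⟨a, rfl⟩ := Ideal.Quotient.mk_surjective x
      apply hinj
      show φb (t (Ideal.Quotient.mk Q (algebraMap A B a))) = φb (Ideal.Quotient.mk Q (algebraMap A B a))
      rw [ht, hφb, hφb']
      exact (hag a.1 a.2).symm)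
  obtain ⟨s, hs⟩ := Ideal.Quotient.stabilizerHom_surjective H P Q te
  refine ⟨s.1, fun b => ?_⟩
  have h1 : Ideal.Quotient.stabilizerHom Q P H s (Ideal.Quotient.mk Q b) =
      te (Ideal.Quotient.mk Q b) := by rw [hs]
  rw [Ideal.Quotient.stabilizerHom_apply] at h1
  have h2 : φb (Ideal.Quotient.mk Q (s • b)) = φb (t (Ideal.Quotient.mk Q b)) := congrArg φb h1
  rw [ht, hφb'] at h2
  exact h2.symm

/-- two maps to a field agreeing on invariants differ by an element of the group -/
theorem exists_smul_of_agree (φ φ' : B →+* Ω)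
    (hag : ∀ b : B, (∀ h : H, h • b = b) → φ b = φ' b) : ∃ h : H, ∀ b, φ' b = φ (h • b) := by
  classical
  let A := FixedPoints.subring B H
  haveI hinv : Algebra.IsInvariant A B H := ⟨fun b hb => ⟨⟨b, hb⟩, rfl⟩⟩
  haveI : (RingHom.ker φ).IsPrime := RingHom.ker_isPrime φ
  haveI : (RingHom.ker φ').IsPrime := RingHom.ker_isPrime φ'
  have hunder : (RingHom.ker φ).under A = (RingHom.ker φ').under A := by
    ext a
    simp only [Ideal.under_def, Ideal.mem_comap, RingHom.mem_ker]
    have := hag a.1 a.2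
    show φ a.1 = 0 ↔ φ' a.1 = 0
    rw [this]
  obtain ⟨g, hg⟩ := Algebra.IsInvariant.exists_smul_of_under_eq A B H (RingHom.ker φ)
    (RingHom.ker φ') hunder
  let φ₁ : B →+* Ω := φ.comp (MulSemiringAction.toRingHom H B g⁻¹)
  have hφ₁ : ∀ b, φ₁ b = φ (g⁻¹ • b) := fun b => rfl
  have hker : RingHom.ker φ₁ = RingHom.ker φ' := by
    rw [hg]
    ext b
    rw [RingHom.mem_ker, hφ₁, Ideal.mem_pointwise_smul_iff_inv_smul_mem, RingHom.mem_ker]
  have hag₁ : ∀ b : B, (∀ h : H, h • b = b) → φ₁ b = φ' b := by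
    intro b hb
    rw [hφ₁, hb g⁻¹]
    exact hag b hb
  obtain ⟨s, hs⟩ := exists_smul_of_agree_of_ker_eq φ₁ φ' hag₁ hker
  refine ⟨g⁻¹ * s, fun b => ?_⟩
  rw [hs b, hφ₁, mul_smul]

end Orbit

end Groth.Agent.H78.SF
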