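import Mathlib
import Groth.Prelude.Def_SchFin2
import Groth.Agent.H78.SchFin.Fibre
import Groth.Agent.H78.SchFin.FibRank
import Groth.Agent.H78.SchFin.AlgInv
import Groth.Agent.H78.SchFin.OrbitLemma

set_option autoImplicit false
set_option linter.style.haveILetI false

namespace Groth.Agent.H78.SF

open SchFin CategoryTheory CategoryTheory.Limits TensorProduct

universe u

/-- a product in a category is a coproduct in the opposite category -/
def isColimitOpOfIsLimit {C : Type*} [Category C] {P A B : C} {f : P ⟶ A} {g : P ⟶ B}
    (h : IsLimit (BinaryFan.mk f g)) : IsColimit (BinaryCofan.mk f.op g.op) :=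
  BinaryCofan.isColimitMk
    (fun s => (BinaryFan.IsLimit.lift' h s.inl.unop s.inr.unop).1.op)
    (fun s => by
      apply Quiver.Hom.unop_inj
      exact (BinaryFan.IsLimit.lift' h s.inl.unop s.inr.unop).2.1)
    (fun s => by
      apply Quiver.Hom.unop_inj
      exact (BinaryFan.IsLimit.lift' h s.inl.unop s.inr.unop).2.2)
    (fun s m h1 h2 => by
      apply Quiver.Hom.unop_inj
      apply BinaryFan.IsLimit.hom_ext h
      · exact (congrArg Quiver.Hom.unop h1).trans
          (BinaryFan.IsLimit.lift' h s.inl.unop s.inr.unop).2.1.symm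
      · exact (congrArg Quiver.Hom.unop h2).trans
          (BinaryFan.IsLimit.lift' h s.inl.unop s.inr.unop).2.2.symm)

variable {X : RSpace.{u}}

section Quot

variable {G : Type u} [Group G] (K : SingleObj G ⥤ (FEt X)ᵒᵖ)

/-- the étale cover acted on -/
abbrev actObj : FEt X := (K.obj (SingleObj.star G)).unop

/-- the endomorphisms of the underlying algebra given by an action on the opposite category -/
def opActMap (g : G) : (actObj K).obj ⟶ (actObj K).obj :=
  (K.map (X := SingleObj.star G) (Y := SingleObj.star G) g).unop.hom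

lemma opActMap_one : opActMap K 1 = 𝟙 _ := by
  have h : K.map (X := SingleObj.star G) (Y := SingleObj.star G) (1 : G) = 𝟙 _ :=
    K.map_id (SingleObj.star G)
  unfold opActMap
  rw [h]; rfl

lemma opActMap_mul (g h : G) : opActMap K (h * g) = opActMap K h ≫ opActMap K g := by
  have e : K.map (X := SingleObj.star G) (Y := SingleObj.star G) (h * g) =
      K.map (X := SingleObj.star G) (Y := SingleObj.star G) g ≫
        K.map (X := SingleObj.star G) (Y := SingleObj.star G) h :=
    K.map_comp (X := SingleObj.star G) (Y := SingleObj.star G) (Z := SingleObj.star G) g h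
  unfold opActMap
  rw [e]; rfl

variable (hI : (invAlg (actObj K).obj (opActMap K)).IsEtCover)

/-- the cocone of invariants -/
def quotCocone : Cocone K where
  pt := Opposite.op ⟨invAlg (actObj K).obj (opActMap K), hI⟩
  ι :=
    { app := fun _ => (ObjectProperty.homMk (invIncl (actObj K).obj (opActMap K)) :
        (⟨invAlg (actObj K).obj (opActMap K), hI⟩ : FEt X) ⟶ actObj K).op
      naturality := fun _ _ g => by
        apply Quiver.Hom.unop_inj
        apply ObjectProperty.hom_ext
        show invIncl (actObj K).obj (opActMap K) ≫ opActMap K g =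
          𝟙 _ ≫ invIncl (actObj K).obj (opActMap K)
        rw [Category.id_comp, invIncl_comp] }

/-- the cocone of invariants is a colimit -/
def quotCoconeIsColimit : IsColimit (quotCocone K hI) where
  desc s := (ObjectProperty.homMk
    (invLift (actObj K).obj (opActMap K) (s.ι.app (SingleObj.star G)).unop.hom
      (fun g => by
        have h := s.ι.naturality (X := SingleObj.star G) (Y := SingleObj.star G) g
        have h' := congrArg (fun k => k.unop.hom) h
        simp only [Functor.const_obj_obj, Functor.const_obj_map] at h'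
        exact h'.trans (Category.id_comp _))) :
      s.pt.unop ⟶ (⟨invAlg (actObj K).obj (opActMap K), hI⟩ : FEt X)).op
  fac s j := by
    apply Quiver.Hom.unop_inj
    apply ObjectProperty.hom_ext
    apply Alg.hom_ext; intro p; rfl
  uniq s m hm := by
    apply Quiver.Hom.unop_inj
    apply ObjectProperty.hom_ext
    apply Alg.hom_ext; intro p
    apply AlgHom.ext; intro t
    apply Subtype.ext
    have h := hm (SingleObj.star G)
    exact congrArg (fun k => k.unop.hom.app p t) h

end Quot

section FibOrbit

variable {Ω : Type u} [Field Ω] [IsAlgClosed Ω]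

attribute [local instance] algΩ

variable (ξ : GeomPt X Ω)

/-- two points of the fibre with the same image in the fibre of the invariants are in the same
orbit -/
lemma fib_orbit {A : Alg X} (hA : A.IsEtCover) {G : Type u} [Group G] [Finite G]
    (σ : G → (A ⟶ A)) (h1 : σ 1 = 𝟙 A) (hmul : ∀ g h, σ (h * g) = σ h ≫ σ g)
    (hI : (invAlg A σ).IsEtCover) (a a' : ξ.Fib A)
    (h : ξ.fibMap (invIncl A σ) a = ξ.fibMap (invIncl A σ) a') :
    ∃ g, a' = ξ.fibMap (σ g) a := by
  obtain ⟨φ, rfl⟩ := (fibEquiv ξ hA).surjective a
  obtain ⟨φ', rfl⟩ := (fibEquiv ξ hA).surjective a'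
  rw [fibMap_fibEquiv ξ hI hA, fibMap_fibEquiv ξ hI hA] at h
  have h' := (fibEquiv ξ hI).injective h
  -- the action of `G` on the algebra at the base point
  letI : MulSemiringAction G (A.carrier ξ.base) :=
    { smul := fun g b => (σ g⁻¹).app ξ.base b
      one_smul := fun b => by
        show (σ (1 : G)⁻¹).app ξ.base b = b
        rw [inv_one, h1]; rfl
      mul_smul := fun g k b => by
        show (σ (g * k)⁻¹).app ξ.base b = (σ g⁻¹).app ξ.base ((σ k⁻¹).app ξ.base b)
        rw [mul_inv_rev, hmul]; rfl
      smul_zero := fun g => map_zero _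
      smul_add := fun g b c => map_add _ b c
      smul_one := fun g => map_one _
      smul_mul := fun g b c => map_mul _ b c }
  have hsmul : ∀ (g : G) (b : A.carrier ξ.base), g • b = (σ g⁻¹).app ξ.base b := fun _ _ => rfl
  have hag : ∀ b : A.carrier ξ.base, (∀ g : G, g • b = b) →
      (φ : A.carrier ξ.base →+* Ω) b = (φ' : A.carrier ξ.base →+* Ω) b := by
    intro b hb
    have hb' : b ∈ fixSub (σat A σ ξ.base) := by
      intro g
      have := hb g⁻¹
      rw [hsmul, inv_inv] at this
      exact this
    exact congrArg (fun k : (invAlg A σ).carrier ξ.base →ₐ[X.ring ξ.base] Ω => k ⟨b, hb'⟩) h'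
  obtain ⟨g, hg⟩ := exists_smul_of_agree (φ : A.carrier ξ.base →+* Ω)
    (φ' : A.carrier ξ.base →+* Ω) hag
  refine ⟨g⁻¹, ?_⟩
  rw [fibMap_fibEquiv ξ hA hA]
  congr 1
  apply AlgHom.ext
  intro b
  exact hg b

/-- the fibre functor preserves quotients by finite groups -/
theorem fib_preservesQuotients (hX : X.IsSchematic)
    (hlt : ∀ A : FEt X, ∃ (B : Alg X) (n : ℕ), B.IsCovering ∧
      ∀ p : X.pt, Nonempty (TensorProduct (X.ring p) (B.carrier p) (A.obj.carrier p) ≃ₐ[B.carrier p]
        (Fin n → B.carrier p)))
    (G : Type u) [Group G] [Finite G] :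
    PreservesColimitsOfShape (SingleObj G) ξ.fibFunctor := by
  refine ⟨fun {K} => ?_⟩
  have hI : (invAlg (actObj K).obj (opActMap K)).IsEtCover :=
    invAlg_isEtCover _ _ hX.1 (actObj K).property (hlt _)
  refine preservesColimit_of_preserves_colimit_cocone (quotCoconeIsColimit K hI) ?_
  have hsurj : Function.Surjective (ξ.fibMap (invIncl (actObj K).obj (opActMap K))) :=
    fibMap_surjective_of_injective ξ hI (actObj K).property _ (invIncl_injective _ _ ξ.base)
  have horb := fib_orbit ξ (actObj K).property (opActMap K) (opActMap_one K) (opActMap_mul K) hI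
  have hnat : ∀ (s : Cocone (K ⋙ ξ.fibFunctor)) (g : G) (a : ξ.Fib (actObj K).obj),
      (s.ι.app (SingleObj.star G)) (ξ.fibMap (opActMap K g) a) =
        (s.ι.app (SingleObj.star G)) a := by
    intro s g a
    have := s.ι.naturality (X := SingleObj.star G) (Y := SingleObj.star G) g
    exact congrArg (fun k => k a) this
  exact
  { desc := fun s => FintypeCat.homMk (fun z : ξ.Fib (invAlg (actObj K).obj (opActMap K)) =>
      (s.ι.app (SingleObj.star G)) (Classical.choose (hsurj z)))
    fac := fun s j => by
      apply FintypeCat.hom_ext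
      intro (a : ξ.Fib (actObj K).obj)
      show (s.ι.app (SingleObj.star G)) (Classical.choose
        (hsurj (ξ.fibMap (invIncl (actObj K).obj (opActMap K)) a))) =
        (s.ι.app (SingleObj.star G)) a
      obtain ⟨g, hg⟩ := horb _ _ (Classical.choose_spec
        (hsurj (ξ.fibMap (invIncl (actObj K).obj (opActMap K)) a)))
      exact (hnat s g _).symm.trans (congrArg (fun w : ξ.Fib (actObj K).obj =>
        (s.ι.app (SingleObj.star G)) w) hg.symm)
    uniq := fun s m hm => by
      apply FintypeCat.hom_ext
      intro (z : ξ.Fib (invAlg (actObj K).obj (opActMap K)))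
      have h := hm (SingleObj.star G)
      have h2 := congrArg (fun k => k (Classical.choose (hsurj z))) h
      have h3 : m z = (s.ι.app (SingleObj.star G)) (Classical.choose (hsurj z)) := by
        refine Eq.trans ?_ h2
        exact congrArg (fun w : ξ.Fib (invAlg (actObj K).obj (opActMap K)) => m w)
          (Classical.choose_spec (hsurj z)).symm
      exact h3 }

/-- S15632: étale covers form a Galois category with the fibre functor -/
theorem exists_preGalois_fiberFunctor (hX : X.IsSchematic)
    (hlt : ∀ A : FEt X, ∃ (B : Alg X) (n : ℕ), B.IsCovering ∧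
      ∀ p : X.pt, Nonempty (TensorProduct (X.ring p) (B.carrier p) (A.obj.carrier p) ≃ₐ[B.carrier p]
        (Fin n → B.carrier p)))
    (hepi : ∀ (A B : FEt X) (f : A ⟶ B), Epi f → ∀ p : X.pt, Function.Surjective (f.hom.app p)) :
    ∃ h : PreGaloisCategory (FEt X)ᵒᵖ,
      @PreGaloisCategory.FiberFunctor (FEt X)ᵒᵖ _ h ξ.fibFunctor := by
  haveI := hasInitial_FEt X
  haveI := hasPushouts_FEt (X := X) hX.1
  haveI := hasFiniteProducts_FEt X
  have hquot : ∀ (G : Type u) [Group G] [Finite G], HasColimitsOfShape (SingleObj G) (FEt X)ᵒᵖ := by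
    intro G _ _
    refine ⟨fun K => ?_⟩
    have hI : (invAlg (actObj K).obj (opActMap K)).IsEtCover :=
      invAlg_isEtCover _ _ hX.1 (actObj K).property (hlt _)
    exact HasColimit.mk ⟨quotCocone K hI, quotCoconeIsColimit K hI⟩
  have hpre : PreGaloisCategory (FEt X)ᵒᵖ :=
    { hasTerminal := inferInstance
      hasPullbacks := inferInstance
      hasFiniteCoproducts := inferInstance
      hasQuotientsByFiniteGroups := fun G _ _ => hquot G
      monoInducesIsoOnDirectSummand := fun {A' B'} i _ => by
        haveI : Epi i.unop := unop_epi_of_mono i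
        have hs := hepi _ _ i.unop inferInstance
        obtain ⟨D, π, ⟨hlim⟩⟩ := exists_compl_factor hX i.unop hs
        exact ⟨Opposite.op D, π.op, ⟨isColimitOpOfIsLimit hlim⟩⟩ }
  refine ⟨hpre, ?_⟩
  exact
    { preservesTerminalObjects := fib_preservesTerminal ξ
      preservesPullbacks := fib_preservesPullbacks ξ hX
      preservesFiniteCoproducts := fib_preservesFiniteCoproducts ξ
      preservesEpis := fib_preservesEpimorphisms ξ hX
      preservesQuotientsByFiniteGroups := fun G _ _ => fib_preservesQuotients ξ hX hlt G
      reflectsIsos := fib_reflectsIsomorphisms ξ hX hlt }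

end FibOrbit

end Groth.Agent.H78.SF
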