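import Mathlib
import Groth.Prelude.Def_SchFin2
import Groth.Agent.H78.SchFin.H0
import Groth.Agent.H78.SchFin.BC
import Groth.Agent.H78.SchFin.Compositum

set_option autoImplicit false
set_option linter.style.haveILetI false

namespace Groth.Agent.H78.SF

open SchFin TensorProduct

universe u

theorem geomPt_no_lift (X : RSpace.{u}) {Ω : Type u} [Field Ω] [IsAlgClosed Ω] (ξ : GeomPt X Ω)
    {x' : X.pt} (hx : ξ.base < x') (P : Ideal (X.ring x')) [P.IsPrime] :
    P.comap (X.res hx.le) ≠ RingHom.ker ξ.toField := by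
  intro hP
  obtain ⟨-, -, hS⟩ := ξ.isSchematic
  have hbc := (hS 0 PUnit.unit PUnit.unit le_rfl ξ.base x' hx.le).2
  set f := ξ.hom with hf
  set φ := Coef.ofHom f ξ.base (f.wedge PUnit.unit ξ.base) (f.wedge_subset_pre _ _) with hφ
  set φ' := Coef.ofHom f x' (f.wedge PUnit.unit x') (f.wedge_subset_pre _ _) with hφ'
  set sub : Coef.Sub φ φ' := f.subTgt PUnit.unit hx.le with hsub
  let α : X.ring ξ.base →+* P.ResidueField :=
    (algebraMap (X.ring x') P.ResidueField).comp (X.res hx.le)
  have hker : RingHom.ker α = RingHom.ker ξ.toField := by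
    rw [← hP]
    show RingHom.ker ((algebraMap (X.ring x') P.ResidueField).comp (X.res hx.le)) = _
    rw [← RingHom.comap_ker, Ideal.ker_algebraMap_residueField]
  obtain ⟨E, _, _, a, b, hab⟩ := exists_compositum α ξ.toField hker
  letI : Module (X.ring x') E :=
    Module.compHom E (a.comp (algebraMap (X.ring x') P.ResidueField))
  have hmem : PUnit.unit ∈ f.wedge PUnit.unit ξ.base := ⟨le_rfl, le_rfl⟩
  let γ : H φ (RSpace.point Ω).str 0 →+ E :=
    { toFun := fun m => b (eval φ (RSpace.point Ω).str ⟨PUnit.unit, hmem⟩ m)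
      map_zero' := by rw [eval_zero]; exact map_zero b
      map_add' := fun m m' => by rw [eval_add]; exact map_add b _ _ }
  have hγ : ∀ (r : X.ring ξ.base) (m : H φ (RSpace.point Ω).str 0),
      γ (r • m) = X.res hx.le r • γ m := by
    intro r m
    show b (eval φ (RSpace.point Ω).str ⟨PUnit.unit, hmem⟩ (r • m)) =
      a (algebraMap (X.ring x') P.ResidueField (X.res hx.le r)) *
        b (eval φ (RSpace.point Ω).str ⟨PUnit.unit, hmem⟩ m)
    rw [eval_smul]
    have e1 : a (algebraMap (X.ring x') P.ResidueField (X.res hx.le r)) = b (ξ.toField r) :=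
      RingHom.congr_fun hab r
    have key : ∀ v : Ω, b (ξ.toField r * v) =
        a (algebraMap (X.ring x') P.ResidueField (X.res hx.le r)) * b v :=
      fun v => by rw [e1, map_mul]
    have e2 : φ.map ⟨PUnit.unit, hmem⟩ r = ξ.toField r := by
      show f.app PUnit.unit (X.res _ r) = ξ.toField r
      exact congrArg (ξ.hom.app PUnit.unit) (X.res_self ξ.base r)
    rw [e2]
    exact key (eval φ (RSpace.point Ω).str ⟨PUnit.unit, hmem⟩ m)
  obtain ⟨L, hL⟩ := IsBCAlong.exists_lift (X.res hx.le) (resH (RSpace.point Ω).str sub 0) hbc γ hγ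
  have htriv : ∀ n : H φ' (RSpace.point Ω).str 0, n = 0 := by
    intro n
    apply H0_ext
    intro q
    exact absurd q.2.2 (not_le_of_gt hx)
  let m₁ : H φ (RSpace.point Ω).str 0 :=
    ofFamily φ (RSpace.point Ω).str (fun _ => (1 : Ω)) (fun _ _ _ => rfl)
  have h1 : γ m₁ = 1 := by
    exact (congrArg b (eval_ofFamily φ (RSpace.point Ω).str (fun _ => (1 : Ω))
      (fun _ _ _ => rfl) ⟨PUnit.unit, hmem⟩)).trans (map_one b)
  have h0 : γ m₁ = 0 :=
    (hL m₁).symm.trans ((congrArg L (htriv _)).trans (map_zero L))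
  exact one_ne_zero (h1.symm.trans h0)

end Groth.Agent.H78.SF
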