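import Mathlib
import Groth.Prelude.Def_SchFin2
import Groth.Agent.H78.SchFin.Epi
import Groth.Agent.H78.SchFin.FlatEpi

set_option autoImplicit false
set_option linter.style.haveILetI false

namespace Groth.Agent.H78.SF

open SchFin TensorProduct

universe u

lemma res_isEpiHom (X : RSpace.{u}) (hX : X.IsSchematic) {x y : X.pt} (h : x ≤ y) :
    IsEpiHom (X.res h) := fun _ _ g₁ g₂ e => res_epi X hX h g₁ g₂ e

lemma res_flat (X : RSpace.{u}) (hX : X.IsSchematic) {x y : X.pt} (h : x ≤ y) :
    (X.res h).Flat := hX.1.2 x y h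

theorem loc_bijective (X : RSpace.{u}) (hX : X.IsSchematic)
    {x y : X.pt} (h : x ≤ y) (P : Ideal (X.ring y)) [P.IsPrime] :
    Function.Bijective (Localization.localRingHom (P.comap (X.res h)) P (X.res h) rfl) :=
  localRingHom_bijective_of_flat_epi (X.res h) (res_flat X hX h) (res_isEpiHom X hX h) P

theorem loc_bijective' (X : RSpace.{u}) (hX : X.IsSchematic)
    {x y : X.pt} (h : x ≤ y) (P : Ideal (X.ring y)) [P.IsPrime] (Q : Ideal (X.ring x)) [Q.IsPrime]
    (hQ : Q = P.comap (X.res h)) :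
    Function.Bijective (Localization.localRingHom Q P (X.res h) hQ) := by
  subst hQ
  exact loc_bijective X hX h P

theorem kappaMap_bijective (X : RSpace.{u}) (hX : X.IsSchematic) (a b : X.Pair)
    (h : a.1 ≤ b.1) (hp : PrimeSpectrum.comap (X.res h) b.2 = a.2) :
    Function.Bijective (RSpace.Pair.κMap a b h hp) := by
  refine ⟨RingHom.injective _, ?_⟩
  have hb := (loc_bijective' X hX h b.2.asIdeal a.2.asIdeal (by rw [← hp]; rfl)).2
  intro z
  obtain ⟨w, rfl⟩ := IsLocalRing.residue_surjective z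
  obtain ⟨v, rfl⟩ := hb w
  exact ⟨IsLocalRing.residue _ v, IsLocalRing.ResidueField.map_residue _ v⟩

end Groth.Agent.H78.SF
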