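import Mathlib
import Groth.Prelude.Def_SchFin
import Groth.Agent.H78.SchFin.H0

set_option autoImplicit false
set_option linter.style.haveILetI false

namespace Groth.Agent.H78.SF

open SchFin

universe u

variable {Y : RSpace.{u}} [Subsingleton Y.pt] {U : Set Y.pt} {R : Type u} [CommRing R]
  (φ : Coef Y U R) (M : OMod Y)

lemma chain_isEmpty (U : Set Y.pt) (n : ℕ) : IsEmpty (Chain U (n + 1)) :=
  ⟨fun σ => by
    have h : σ 0 = σ 1 := Subsingleton.elim _ _
    have := σ.injective h
    exact absurd this (by simp)⟩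

lemma cochain_subsingleton_succ (n : ℕ) : Subsingleton (Cochain φ M (n + 1)) := by
  haveI := chain_isEmpty U n
  unfold Cochain
  infer_instance

lemma H_subsingleton_succ (n : ℕ) : Subsingleton (H φ M (n + 1)) := by
  haveI := cochain_subsingleton_succ φ M n
  refine ⟨fun a b => ?_⟩
  obtain ⟨a, rfl⟩ := Submodule.mkQ_surjective _ a
  obtain ⟨b, rfl⟩ := Submodule.mkQ_surjective _ b
  congr 1
  exact Subtype.ext (Subsingleton.elim _ _)

end Groth.Agent.H78.SF
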