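import Mathlib
import Groth.Prelude.Def_SchFin
import Groth.Agent.H78.SchFin.H0

set_option autoImplicit false
set_option linter.style.haveILetI false

namespace Groth.Agent.H78.SF

open SchFin

universe u

variable {X : RSpace.{u}} {U : Set X.pt} {R : Type u} [CommRing R] (φ : Coef X U R)

lemma str_res_apply {p q : X.pt} (h : p ≤ q) (a : X.ring p) : X.str.res h a = X.res h a := rfl

/-- evaluation of a class in `H⁰` of the rings, as an element of the ring -/
noncomputable def evalR (q : U) (m : H φ X.str 0) : X.ring q.1 := eval φ X.str q m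

lemma evalR_compat (m : H φ X.str 0) (q q' : U) (h : q.1 ≤ q'.1) :
    X.res h (evalR φ q m) = evalR φ q' m := eval_compat φ X.str m q q' h

lemma evalR_add (q : U) (m m' : H φ X.str 0) :
    evalR φ q (m + m') = evalR φ q m + evalR φ q m' := eval_add φ X.str q m m'

lemma evalR_zero (q : U) : evalR φ q (0 : H φ X.str 0) = 0 := eval_zero φ X.str q

lemma evalR_smul (q : U) (r : R) (m : H φ X.str 0) :
    evalR φ q (r • m) = φ.map q r * evalR φ q m := eval_smul φ X.str q r m

/-- the class of a compatible family of ring elements -/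
noncomputable def ofFamR (s : ∀ q : U, X.ring q.1)
    (hs : ∀ (q q' : U) (h : q.1 ≤ q'.1), X.res h (s q) = s q') : H φ X.str 0 :=
  ofFamily φ X.str s hs

lemma evalR_ofFamR (s : ∀ q : U, X.ring q.1)
    (hs : ∀ (q q' : U) (h : q.1 ≤ q'.1), X.res h (s q) = s q') (q : U) :
    evalR φ q (ofFamR φ s hs) = s q := eval_ofFamily φ X.str s hs q

lemma H0R_ext (m m' : H φ X.str 0) (h : ∀ q : U, evalR φ q m = evalR φ q m') : m = m' :=
  H0_ext φ X.str m m' h

/-- the class of a section of the rings -/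
noncomputable def ofSec (t : X.sectRing U) : H φ X.str 0 := ofFamR φ t.1 t.2

lemma evalR_ofSec (t : X.sectRing U) (q : U) : evalR φ q (ofSec φ t) = t.1 q :=
  evalR_ofFamR φ t.1 t.2 q

/-- the section of the rings attached to a class -/
noncomputable def toSec (m : H φ X.str 0) : X.sectRing U :=
  ⟨fun q => evalR φ q m, fun q q' h => evalR_compat φ m q q' h⟩

lemma toSec_apply (m : H φ X.str 0) (q : U) : (toSec φ m).1 q = evalR φ q m := rfl

lemma ofSec_toSec (m : H φ X.str 0) : ofSec φ (toSec φ m) = m := by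
  apply H0R_ext; intro q; rw [evalR_ofSec]; rfl

lemma toSec_ofSec (t : X.sectRing U) : toSec φ (ofSec φ t) = t := by
  apply Subtype.ext; funext q; exact evalR_ofSec φ t q

lemma ofSec_add (t t' : X.sectRing U) : ofSec φ (t + t') = ofSec φ t + ofSec φ t' := by
  apply H0R_ext; intro q; rw [evalR_add, evalR_ofSec, evalR_ofSec, evalR_ofSec]; rfl

lemma ofSec_zero : ofSec φ (0 : X.sectRing U) = 0 := by
  apply H0R_ext; intro q; rw [evalR_zero, evalR_ofSec]; rfl

/-- pointwise multiplication on `H⁰` of the rings -/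
noncomputable def mulH (n₁ n₂ : H φ X.str 0) : H φ X.str 0 :=
  ofFamR φ (fun q => evalR φ q n₁ * evalR φ q n₂) (fun q q' h => by
    rw [map_mul, evalR_compat, evalR_compat])

lemma evalR_mulH (n₁ n₂ : H φ X.str 0) (q : U) :
    evalR φ q (mulH φ n₁ n₂) = evalR φ q n₁ * evalR φ q n₂ := evalR_ofFamR φ _ _ q

lemma ofSec_mul (t t' : X.sectRing U) : ofSec φ (t * t') = mulH φ (ofSec φ t) (ofSec φ t') := by
  apply H0R_ext; intro q; rw [evalR_mulH, evalR_ofSec, evalR_ofSec, evalR_ofSec]; rfl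

lemma mulH_comm (n₁ n₂ : H φ X.str 0) : mulH φ n₁ n₂ = mulH φ n₂ n₁ := by
  apply H0R_ext; intro q; rw [evalR_mulH, evalR_mulH, mul_comm]

lemma smul_mulH (r : R) (n₁ n₂ : H φ X.str 0) : mulH φ (r • n₁) n₂ = r • mulH φ n₁ n₂ := by
  apply H0R_ext; intro q; rw [evalR_mulH, evalR_smul, evalR_smul, evalR_mulH, mul_assoc]

lemma mulH_smul (r : R) (n₁ n₂ : H φ X.str 0) : mulH φ n₁ (r • n₂) = r • mulH φ n₁ n₂ := by
  rw [mulH_comm, smul_mulH, mulH_comm]

lemma add_mulH (n₁ n₁' n₂ : H φ X.str 0) :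
    mulH φ (n₁ + n₁') n₂ = mulH φ n₁ n₂ + mulH φ n₁' n₂ := by
  apply H0R_ext; intro q
  rw [evalR_mulH, evalR_add, evalR_add, evalR_mulH, evalR_mulH, add_mul]

lemma mulH_add (n₁ n₂ n₂' : H φ X.str 0) :
    mulH φ n₁ (n₂ + n₂') = mulH φ n₁ n₂ + mulH φ n₁ n₂' := by
  rw [mulH_comm, add_mulH, mulH_comm, mulH_comm φ n₂']

lemma zero_mulH (n₂ : H φ X.str 0) : mulH φ 0 n₂ = 0 := by
  apply H0R_ext; intro q
  rw [evalR_mulH, evalR_zero, zero_mul]

lemma mulH_zero (n₁ : H φ X.str 0) : mulH φ n₁ 0 = 0 := by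
  rw [mulH_comm, zero_mulH]

variable {φ} {U' : Set X.pt} {R' : Type u} [CommRing R'] {φ' : Coef X U' R'}

lemma evalR_resH (s : Coef.Sub φ φ') (m : H φ X.str 0) (q : U') :
    evalR φ' q (resH X.str s 0 m) = evalR φ ⟨q.1, s.le q.2⟩ m := eval_resH X.str s m q

lemma resH_mulH (s : Coef.Sub φ φ') (m m' : H φ X.str 0) :
    resH X.str s 0 (mulH φ m m') = mulH φ' (resH X.str s 0 m) (resH X.str s 0 m') := by
  apply H0R_ext; intro q
  rw [evalR_resH, evalR_mulH, evalR_mulH, evalR_resH, evalR_resH]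

end Groth.Agent.H78.SF
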