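import Mathlib
import Groth.Prelude.Def_SchFin
import Groth.Agent.H78.SchFin.H0Ring
import Groth.Agent.H78.SchFin.BC

set_option autoImplicit false
set_option linter.style.haveILetI false

namespace Groth.Agent.H78.SF

open SchFin

universe u

/-- multiplicative lifts along a base change of `H⁰` of the rings -/
theorem exists_mul_lift {X : RSpace.{u}} {U U' : Set X.pt} {R R' : Type u} [CommRing R]
    [CommRing R'] {φ : Coef X U R} {φ' : Coef X U' R'} (sub : Coef.Sub φ φ')
    (hbc : IsBCAlong sub.hom (resH X.str sub 0)) {E : Type*} [CommRing E] (v : R' →+* E)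
    (γ : H φ X.str 0 →+ E) (hγ : ∀ r m, γ (r • m) = v (sub.hom r) * γ m)
    (hγmul : ∀ m m', γ (mulH φ m m') = γ m * γ m') :
    ∃ L : H φ' X.str 0 →+ E, (∀ m, L (resH X.str sub 0 m) = γ m) ∧
      (∀ b n, L (b • n) = v b * L n) ∧ ∀ n n', L (mulH φ' n n') = L n * L n' := by
  letI : Module R' E := Module.compHom E v
  obtain ⟨L, hL⟩ := IsBCAlong.exists_lift sub.hom (resH X.str sub 0) hbc γ
    (fun r m => hγ r m)
  have hLsmul : ∀ (b : R') (n : H φ' X.str 0), L (b • n) = v b * L n := fun b n =>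
    L.map_smul b n
  have step1 : ∀ (m : H φ X.str 0) (n : H φ' X.str 0),
      L (mulH φ' (resH X.str sub 0 m) n) = L (resH X.str sub 0 m) * L n := by
    intro m n
    refine IsBCAlong.induction_on sub.hom (resH X.str sub 0) hbc
      (motive := fun n => L (mulH φ' (resH X.str sub 0 m) n) = L (resH X.str sub 0 m) * L n)
      ?_ ?_ ?_ ?_ n
    · rw [mulH_zero, map_zero, mul_zero]
    · intro m'
      rw [← resH_mulH, hL, hL, hL, hγmul]
    · intro b n ih
      rw [mulH_smul, hLsmul, hLsmul, ih]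
      ring
    · intro n₁ n₂ ih₁ ih₂
      rw [mulH_add, map_add, map_add, ih₁, ih₂, mul_add]
  have step2 : ∀ (n n' : H φ' X.str 0), L (mulH φ' n n') = L n * L n' := by
    intro n n'
    refine IsBCAlong.induction_on sub.hom (resH X.str sub 0) hbc
      (motive := fun n => L (mulH φ' n n') = L n * L n') ?_ ?_ ?_ ?_ n
    · rw [zero_mulH, map_zero, zero_mul]
    · intro m
      exact step1 m n'
    · intro b n ih
      rw [smul_mulH, hLsmul, hLsmul, ih]
      ring
    · intro n₁ n₂ ih₁ ih₂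
      rw [add_mulH, map_add, map_add, ih₁, ih₂, add_mul]
  exact ⟨L.toAddMonoidHom, hL, hLsmul, step2⟩

/-- In a schematic space, for `s ≤ x`, `s ≤ y`, the ring of sections over `up x ∩ up y` has the
(existence part of the) universal property of the pushout of `O_x ← O_s → O_y`. -/
theorem exists_sect_hom (X : RSpace.{u}) (hX : X.IsSchematic) {s x y : X.pt} (hx : s ≤ x)
    (hy : s ≤ y) {E : Type*} [CommRing E] (u : X.ring x →+* E) (v : X.ring y →+* E)
    (huv : u.comp (X.res hx) = v.comp (X.res hy)) :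
    ∃ w : X.sectRing (X.up x ∩ X.up y) →+* E,
      w.comp (X.resSect x _ Set.inter_subset_left) = u ∧
      w.comp (X.resSect y _ Set.inter_subset_right) = v := by
  obtain ⟨-, -, hS⟩ := hX
  have hbc := (hS 0 x x le_rfl s y hy).2
  obtain ⟨φ, hφ⟩ : ∃ φ, φ = Coef.ofHom (Hom.id X) s ((Hom.id X).wedge x s)
    ((Hom.id X).wedge_subset_pre x s) := ⟨_, rfl⟩
  obtain ⟨φ', hφ'⟩ : ∃ φ', φ' = Coef.ofHom (Hom.id X) y ((Hom.id X).wedge x y)
    ((Hom.id X).wedge_subset_pre x y) := ⟨_, rfl⟩
  have hφmap : ∀ (q : (Hom.id X).wedge x s) (r : X.ring s), φ.map q r = X.res q.2.2 r := by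
    intro q r; rw [hφ]; rfl
  have hφ'map : ∀ (q : (Hom.id X).wedge x y) (r : X.ring y), φ'.map q r = X.res q.2.2 r := by
    intro q r; rw [hφ']; rfl
  obtain ⟨sub, hsubhom, hbc'⟩ : ∃ sub : Coef.Sub φ φ', sub.hom = X.res hy ∧
      IsBCAlong sub.hom (resH X.str sub 0) := by
    subst hφ hφ'
    exact ⟨(Hom.id X).subTgt x hy, rfl, hbc⟩
  have hxm : x ∈ (Hom.id X).wedge x s := ⟨le_rfl, hx⟩
  let γ : H φ X.str 0 →+ E :=
    { toFun := fun m => u (evalR φ ⟨x, hxm⟩ m)
      map_zero' := by rw [evalR_zero]; exact map_zero u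
      map_add' := fun a b => by rw [evalR_add]; exact map_add u _ _ }
  have hγ : ∀ (r : X.ring s) (m : H φ X.str 0), γ (r • m) = v (sub.hom r) * γ m := by
    intro r m
    show u (evalR φ ⟨x, hxm⟩ (r • m)) = v (sub.hom r) * u (evalR φ ⟨x, hxm⟩ m)
    rw [evalR_smul, map_mul, hsubhom, hφmap]
    congr 1
    exact RingHom.congr_fun huv r
  have hγmul : ∀ m m' : H φ X.str 0, γ (mulH φ m m') = γ m * γ m' := by
    intro m m'
    show u (evalR φ ⟨x, hxm⟩ (mulH φ m m')) = u _ * u _
    rw [evalR_mulH, map_mul]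
  obtain ⟨L, hL, hLsmul, hLmul⟩ := exists_mul_lift sub hbc' v γ hγ hγmul
  -- sections over `up x ∩ up y` as classes over the wedge
  let cv : X.sectRing (X.up x ∩ X.up y) → H φ' X.str 0 := fun t =>
    ofFamR φ' (fun q => t.1 ⟨q.1, ⟨q.2.1, q.2.2⟩⟩) (fun q q' h => t.2 ⟨q.1, _⟩ ⟨q'.1, _⟩ h)
  have hcv : ∀ (t : X.sectRing (X.up x ∩ X.up y)) (q : (Hom.id X).wedge x y),
      evalR φ' q (cv t) = t.1 ⟨q.1, ⟨q.2.1, q.2.2⟩⟩ := fun t q => evalR_ofFamR φ' _ _ q
  have cv_mul : ∀ t t', cv (t * t') = mulH φ' (cv t) (cv t') := by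
    intro t t'
    apply H0R_ext; intro q
    rw [evalR_mulH, hcv, hcv, hcv]; rfl
  have cv_add : ∀ t t', cv (t + t') = cv t + cv t' := by
    intro t t'
    apply H0R_ext; intro q
    rw [evalR_add, hcv, hcv, hcv]; rfl
  have cv_resx : ∀ a : X.ring x, cv (X.resSect x _ Set.inter_subset_left a) =
      resH X.str sub 0 (ofFamR φ (fun q => X.res q.2.1 a) (fun q q' h => X.res_comp _ _ a)) := by
    intro a
    apply H0R_ext; intro q
    rw [hcv, evalR_resH, evalR_ofFamR]
    rfl
  have cv_resy : ∀ b : X.ring y, cv (X.resSect y _ Set.inter_subset_right b) =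
      b • resH X.str sub 0 (ofFamR φ (fun q => (1 : X.ring q.1))
        (fun q q' h => map_one _)) := by
    intro b
    apply H0R_ext; intro q
    rw [hcv, evalR_smul, evalR_resH, evalR_ofFamR, mul_one, hφ'map]
    rfl
  have hLx : ∀ a : X.ring x, L (cv (X.resSect x _ Set.inter_subset_left a)) = u a := by
    intro a
    rw [cv_resx, hL]
    show u (evalR φ ⟨x, hxm⟩ _) = u a
    rw [evalR_ofFamR]
    show u (X.res _ a) = u a
    rw [X.res_self]
  have hL1 : L (resH X.str sub 0 (ofFamR φ (fun q => (1 : X.ring q.1))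
        (fun q q' h => map_one _))) = 1 := by
    rw [hL]
    show u (evalR φ ⟨x, hxm⟩ _) = 1
    rw [evalR_ofFamR, map_one]
  have hLy : ∀ b : X.ring y, L (cv (X.resSect y _ Set.inter_subset_right b)) = v b := by
    intro b
    rw [cv_resy, hLsmul, hL1, mul_one]
  refine ⟨{ toFun := fun t => L (cv t)
            map_one' := ?_
            map_mul' := fun t t' => by rw [cv_mul, hLmul]
            map_zero' := ?_
            map_add' := fun t t' => by rw [cv_add, map_add] }, ?_, ?_⟩
  · have := hLx 1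
    rw [map_one, map_one] at this
    exact this
  · have := hLx 0
    rw [map_zero, map_zero] at this
    exact this
  · ext a
    exact hLx a
  · ext b
    exact hLy b

end Groth.Agent.H78.SF
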