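import Mathlib
import Groth.Prelude.Def_SchFin2
import Groth.Agent.H78.SchFin.Pushout
import Groth.Agent.H78.SchFin.Compositum

set_option autoImplicit false
set_option linter.style.haveILetI false

namespace Groth.Agent.H78.SF

open SchFin

universe u

theorem pairRel_of_common (X : RSpace.{u}) (hX : X.IsSchematic)
    (hff : ∀ s a b : X.pt, s ≤ a → s ≤ b → (X.up a ∩ X.up b).Nonempty →
      Module.FaithfullyFlat (X.sectRing (X.up a ∩ X.up b))
        ((q : ↥(X.up a ∩ X.up b)) → X.ring q.1))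
    {s x y : X.pt} (hx : s ≤ x) (hy : s ≤ y) (P : PrimeSpectrum (X.ring x))
    (Q : PrimeSpectrum (X.ring y))
    (hPQ : PrimeSpectrum.comap (X.res hx) P = PrimeSpectrum.comap (X.res hy) Q) :
    X.PairRel ⟨x, P⟩ ⟨y, Q⟩ := by
  let α : X.ring s →+* P.asIdeal.ResidueField :=
    (algebraMap (X.ring x) P.asIdeal.ResidueField).comp (X.res hx)
  let β : X.ring s →+* Q.asIdeal.ResidueField :=
    (algebraMap (X.ring y) Q.asIdeal.ResidueField).comp (X.res hy)
  have hker : RingHom.ker α = RingHom.ker β := by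
    show RingHom.ker (RingHom.comp _ _) = RingHom.ker (RingHom.comp _ _)
    rw [← RingHom.comap_ker, ← RingHom.comap_ker, Ideal.ker_algebraMap_residueField,
      Ideal.ker_algebraMap_residueField]
    exact congrArg PrimeSpectrum.asIdeal hPQ
  obtain ⟨E, _, _, a, b, hab⟩ := exists_compositum α β hker
  obtain ⟨M, hM⟩ := Ideal.exists_maximal E
  let u : X.ring x →+* E ⧸ M :=
    ((Ideal.Quotient.mk M).comp a).comp (algebraMap (X.ring x) P.asIdeal.ResidueField)
  let v : X.ring y →+* E ⧸ M :=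
    ((Ideal.Quotient.mk M).comp b).comp (algebraMap (X.ring y) Q.asIdeal.ResidueField)
  have huv : u.comp (X.res hx) = v.comp (X.res hy) := by
    ext r
    show Ideal.Quotient.mk M (a (α r)) = Ideal.Quotient.mk M (b (β r))
    rw [show a (α r) = b (β r) from RingHom.congr_fun hab r]
  have hku : ∀ c : X.ring x, u c = 0 ↔ c ∈ P.asIdeal := by
    intro c
    have hinj : Function.Injective ((Ideal.Quotient.mk M).comp a) := RingHom.injective _
    show ((Ideal.Quotient.mk M).comp a) (algebraMap (X.ring x) P.asIdeal.ResidueField c) = 0 ↔ _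
    rw [map_eq_zero_iff _ hinj, Ideal.algebraMap_residueField_eq_zero]
  have hkv : ∀ c : X.ring y, v c = 0 ↔ c ∈ Q.asIdeal := by
    intro c
    have hinj : Function.Injective ((Ideal.Quotient.mk M).comp b) := RingHom.injective _
    show ((Ideal.Quotient.mk M).comp b) (algebraMap (X.ring y) Q.asIdeal.ResidueField c) = 0 ↔ _
    rw [map_eq_zero_iff _ hinj, Ideal.algebraMap_residueField_eq_zero]
  obtain ⟨w, hwu, hwv⟩ := exists_sect_hom X hX hx hy u v huv
  haveI : (RingHom.ker w).IsPrime := RingHom.ker_isPrime w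
  have hne : (X.up x ∩ X.up y).Nonempty := by
    by_contra hemp
    have h10 : (1 : X.sectRing (X.up x ∩ X.up y)) = 0 := by
      apply Subtype.ext
      funext q
      exact absurd (⟨q.1, q.2⟩ : (X.up x ∩ X.up y).Nonempty) hemp
    have := congrArg w h10
    rw [map_one, map_zero] at this
    exact one_ne_zero this
  haveI := hff s x y hx hy hne
  obtain ⟨𝔔, h𝔔⟩ := PrimeSpectrum.comap_surjective_of_faithfullyFlat
    (A := X.sectRing (X.up x ∩ X.up y)) (B := ∀ q : ↥(X.up x ∩ X.up y), X.ring q.1)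
    ⟨RingHom.ker w, inferInstance⟩
  obtain ⟨⟨z, r⟩, hzr⟩ :=
    (PrimeSpectrum.sigmaToPi_bijective (fun q : ↥(X.up x ∩ X.up y) => X.ring q.1)).2 𝔔
  have hmem : ∀ t : X.sectRing (X.up x ∩ X.up y), w t = 0 ↔ t.1 z ∈ r.asIdeal := by
    intro t
    have h1 : w t = 0 ↔ t ∈ (PrimeSpectrum.comap (algebraMap (X.sectRing (X.up x ∩ X.up y))
        (∀ q : ↥(X.up x ∩ X.up y), X.ring q.1)) 𝔔).asIdeal := by
      rw [h𝔔]; exact Iff.rfl
    rw [h1, ← hzr, PrimeSpectrum.sigmaToPi_apply]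
    exact Iff.rfl
  refine ⟨z.1, z.2.1, z.2.2, r, ?_, ?_⟩
  · apply PrimeSpectrum.ext
    apply Ideal.ext
    intro c
    rw [← hku c, ← hwu]
    exact (hmem (X.resSect x _ Set.inter_subset_left c)).symm
  · apply PrimeSpectrum.ext
    apply Ideal.ext
    intro c
    rw [← hkv c, ← hwv]
    exact (hmem (X.resSect y _ Set.inter_subset_right c)).symm

lemma comap_res_self (X : RSpace.{u}) {p : X.pt} (h : p ≤ p) (r : PrimeSpectrum (X.ring p)) :
    PrimeSpectrum.comap (X.res h) r = r := by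
  apply PrimeSpectrum.ext
  apply Ideal.ext
  intro c
  show X.res h c ∈ r.asIdeal ↔ c ∈ r.asIdeal
  rw [X.res_self]

lemma comap_res_trans (X : RSpace.{u}) {p q t : X.pt} (h : p ≤ q) (h' : q ≤ t)
    (r : PrimeSpectrum (X.ring t)) :
    PrimeSpectrum.comap (X.res (h.trans h')) r =
      PrimeSpectrum.comap (X.res h) (PrimeSpectrum.comap (X.res h') r) := by
  apply PrimeSpectrum.ext
  apply Ideal.ext
  intro c
  show X.res (h.trans h') c ∈ r.asIdeal ↔ X.res h' (X.res h c) ∈ r.asIdeal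
  rw [X.res_comp]

theorem pairRel_refl (X : RSpace.{u}) (a : X.Pair) : X.PairRel a a :=
  ⟨a.1, le_rfl, le_rfl, a.2, comap_res_self X _ _, comap_res_self X _ _⟩

theorem pairRel_symm (X : RSpace.{u}) {a b : X.Pair} : X.PairRel a b → X.PairRel b a :=
  fun ⟨z, hx, hy, r, h1, h2⟩ => ⟨z, hy, hx, r, h2, h1⟩

theorem pairRel_trans (X : RSpace.{u}) (hX : X.IsSchematic)
    (hff : ∀ s a b : X.pt, s ≤ a → s ≤ b → (X.up a ∩ X.up b).Nonempty →
      Module.FaithfullyFlat (X.sectRing (X.up a ∩ X.up b))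
        ((q : ↥(X.up a ∩ X.up b)) → X.ring q.1))
    {a b c : X.Pair} : X.PairRel a b → X.PairRel b c → X.PairRel a c := by
  rintro ⟨z₁, hx₁, hy₁, r₁, h1, h2⟩ ⟨z₂, hy₂, hz₂, r₂, h3, h4⟩
  obtain ⟨z₃, h13, h23, r₃, h5, h6⟩ :=
    pairRel_of_common X hX hff hy₁ hy₂ r₁ r₂ (h2.trans h3.symm)
  have h13' : z₁ ≤ z₃ := h13
  have h23' : z₂ ≤ z₃ := h23
  have h5' : PrimeSpectrum.comap (X.res h13') r₃ = r₁ := h5
  have h6' : PrimeSpectrum.comap (X.res h23') r₃ = r₂ := h6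
  refine ⟨z₃, hx₁.trans h13', hz₂.trans h23', r₃, ?_, ?_⟩
  · rw [comap_res_trans X hx₁ h13' r₃, ← h1, h5']
  · rw [comap_res_trans X hz₂ h23' r₃, ← h4, h6']

theorem pairRel_equivalence (X : RSpace.{u}) (hX : X.IsSchematic)
    (hff : ∀ s a b : X.pt, s ≤ a → s ≤ b → (X.up a ∩ X.up b).Nonempty →
      Module.FaithfullyFlat (X.sectRing (X.up a ∩ X.up b))
        ((q : ↥(X.up a ∩ X.up b)) → X.ring q.1)) :
    Equivalence X.PairRel :=
  ⟨pairRel_refl X, pairRel_symm X, pairRel_trans X hX hff⟩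

theorem exists_unique_max_rep (X : RSpace.{u}) (hX : X.IsSchematic)
    (hff : ∀ s a b : X.pt, s ≤ a → s ≤ b → (X.up a ∩ X.up b).Nonempty →
      Module.FaithfullyFlat (X.sectRing (X.up a ∩ X.up b))
        ((q : ↥(X.up a ∩ X.up b)) → X.ring q.1))
    (c : X.SchPt) :
    ∃! a : X.Pair, Quot.mk X.PairRel a = c ∧
      ∀ b : X.Pair, Quot.mk X.PairRel b = c → b.1 ≤ a.1 := by
  have heq := pairRel_equivalence X hX hff
  have hq : ∀ a b : X.Pair, Quot.mk X.PairRel a = Quot.mk X.PairRel b ↔ X.PairRel a b :=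
    fun a b => Quot.eq.trans heq.eqvGen_iff
  obtain ⟨a₀, rfl⟩ := Quot.exists_rep c
  -- a pair above two related pairs lies in the class
  have habove : ∀ {a b : X.Pair}, X.PairRel a b → ∃ d : X.Pair, X.PairRel a d ∧ a.1 ≤ d.1 ∧
      b.1 ≤ d.1 := by
    rintro a b ⟨z, hx, hy, r, h1, h2⟩
    exact ⟨⟨z, r⟩, ⟨z, hx, le_rfl, r, h1, comap_res_self X _ _⟩, hx, hy⟩
  set S : Set X.pt := {p | ∃ a : X.Pair, X.PairRel a₀ a ∧ a.1 = p} with hS
  have hSne : S.Nonempty := ⟨a₀.1, a₀, pairRel_refl X a₀, rfl⟩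
  obtain ⟨p, ⟨a, ha, rfl⟩, hmax⟩ := (Set.toFinite S).exists_maximal hSne
  have hamax : ∀ b : X.Pair, X.PairRel a₀ b → b.1 ≤ a.1 := by
    intro b hb
    have hab : X.PairRel a b := heq.trans (heq.symm ha) hb
    obtain ⟨d, had, h1, h2⟩ := habove hab
    have hdS : d.1 ∈ S := ⟨d, heq.trans ha had, rfl⟩
    exact h2.trans (hmax hdS h1)
  refine ⟨a, ⟨((hq _ _).2 ha).symm, fun b hb => hamax b ((hq _ _).1 hb.symm)⟩, ?_⟩
  rintro a' ⟨ha', hmax'⟩
  have ha'rel : X.PairRel a₀ a' := (hq _ _).1 ha'.symm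
  have h1 : a'.1 ≤ a.1 := hamax a' ha'rel
  have h2 : a.1 ≤ a'.1 := hmax' a ((hq _ _).2 (heq.symm ha))
  have h12 : a'.1 = a.1 := le_antisymm h1 h2
  have hrel : X.PairRel a' a := heq.trans (heq.symm ha'rel) ha
  obtain ⟨x', P'⟩ := a'
  obtain ⟨x, P⟩ := a
  dsimp only at h12 h1 h2
  subst h12
  obtain ⟨z, hx, hy, r, e1, e2⟩ := hrel
  have hzle : z ≤ x' := hamax ⟨z, r⟩
    (heq.trans ha'rel ⟨z, hx, le_rfl, r, e1, comap_res_self X _ _⟩)
  obtain rfl : z = x' := le_antisymm hzle hx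
  dsimp only at e1 e2
  rw [comap_res_self] at e1 e2
  rw [← e1, ← e2]

end Groth.Agent.H78.SF
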