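import Mathlib
import Groth.Prelude.Def_SchFin2
import Groth.Agent.H78.SchFin.H0
import Groth.Agent.H78.SchFin.BC2
import Groth.Agent.H78.SchFin.OnePoint
import Groth.Agent.H78.SchFin.LocIso
import Groth.Agent.H78.SchFin.PairRel

set_option autoImplicit false
set_option linter.style.haveILetI false

namespace Groth.Agent.H78.SF

open SchFin TensorProduct

universe u

variable (X : RSpace.{u}) (Ω : Type u) [Field Ω]

/-- the morphism from the one-point space attached to a point and a ring map to the field -/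
def mkHom (s : Σ x : X.pt, (X.ring x →+* Ω)) : Hom (RSpace.point Ω) X where
  fn := fun _ => s.1
  mono := fun _ _ _ => le_rfl
  app := fun _ => s.2
  compat := fun h b => by
    show s.2 b = s.2 (X.res _ b)
    rw [X.res_self]

lemma hom_eq_mkHom (h : Hom (RSpace.point Ω) X) :
    h = mkHom X Ω ⟨h.fn PUnit.unit, h.app PUnit.unit⟩ := by
  cases h; rfl

variable {X Ω}

lemma tensor_subsingleton_of_max (hX : X.IsSchematic)
    (hff : ∀ s a b : X.pt, s ≤ a → s ≤ b → (X.up a ∩ X.up b).Nonempty →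
      Module.FaithfullyFlat (X.sectRing (X.up a ∩ X.up b))
        ((q : ↥(X.up a ∩ X.up b)) → X.ring q.1))
    (a : X.Pair) (ha : ∀ b : X.Pair, X.PairRel a b → b.1 ≤ a.1)
    {y y' : X.pt} (hy : y ≤ y') (hya : y ≤ a.1) (hy'a : ¬ y' ≤ a.1)
    (ψ : X.ring a.1 →+* Ω) (hψ : RingHom.ker ψ = a.2.asIdeal) :
    letI : Algebra (X.ring y) (X.ring y') := (X.res hy).toAlgebra
    letI : Algebra (X.ring y) Ω := (ψ.comp (X.res hya)).toAlgebra
    Subsingleton (X.ring y' ⊗[X.ring y] Ω) := by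
  letI : Algebra (X.ring y) (X.ring y') := (X.res hy).toAlgebra
  letI : Algebra (X.ring y) Ω := (ψ.comp (X.res hya)).toAlgebra
  show Subsingleton (X.ring y' ⊗[X.ring y] Ω)
  by_contra hns
  rw [not_subsingleton_iff_nontrivial] at hns
  obtain ⟨𝔮, h𝔮⟩ := Ideal.exists_maximal (X.ring y' ⊗[X.ring y] Ω)
  haveI := h𝔮.isPrime
  let Q' : PrimeSpectrum (X.ring y') :=
    ⟨𝔮.comap Algebra.TensorProduct.includeLeftRingHom, inferInstance⟩
  have hΩ : ∀ ω : Ω, (1 : X.ring y') ⊗ₜ[X.ring y] ω ∈ 𝔮 ↔ ω = 0 := by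
    intro ω
    constructor
    · intro h
      by_contra hne
      apply h𝔮.ne_top
      rw [Ideal.eq_top_iff_one]
      have : (1 : X.ring y' ⊗[X.ring y] Ω) = (1 ⊗ₜ ω⁻¹) * (1 ⊗ₜ ω) := by
        rw [Algebra.TensorProduct.tmul_mul_tmul, mul_one, inv_mul_cancel₀ hne]; rfl
      rw [this]; exact 𝔮.mul_mem_left _ h
    · rintro rfl; rw [tmul_zero]; exact 𝔮.zero_mem
  have hcontr : PrimeSpectrum.comap (X.res hya) a.2 = PrimeSpectrum.comap (X.res hy) Q' := by
    apply PrimeSpectrum.ext; apply Ideal.ext; intro r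
    show X.res hya r ∈ a.2.asIdeal ↔ (X.res hy r) ⊗ₜ[X.ring y] (1 : Ω) ∈ 𝔮
    have : (X.res hy r) ⊗ₜ[X.ring y] (1 : Ω) =
        (1 : X.ring y') ⊗ₜ[X.ring y] (ψ (X.res hya r)) := by
      have e1 : X.res hy r = r • (1 : X.ring y') := by rw [Algebra.smul_def, mul_one]; rfl
      have e2 : ψ (X.res hya r) = r • (1 : Ω) := by rw [Algebra.smul_def, mul_one]; rfl
      rw [e1, e2, smul_tmul]
    rw [this, hΩ, ← hψ]; rfl
  have := pairRel_of_common X hX hff hya hy a.2 Q' hcontr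
  exact hy'a (ha ⟨y', Q'⟩ this)

lemma bijective_of_subsingleton {A B : Type*} [Subsingleton A] [Subsingleton B] [Zero A] [Zero B]
    (f : A → B) : Function.Bijective f :=
  ⟨fun _ _ _ => Subsingleton.elim _ _, fun b => ⟨0, Subsingleton.elim _ _⟩⟩

theorem mkHom_isSchematic (hX : X.IsSchematic)
    (hff : ∀ s a b : X.pt, s ≤ a → s ≤ b → (X.up a ∩ X.up b).Nonempty →
      Module.FaithfullyFlat (X.sectRing (X.up a ∩ X.up b))
        ((q : ↥(X.up a ∩ X.up b)) → X.ring q.1))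
    (a : X.Pair) (ha : ∀ b : X.Pair, X.PairRel a b → b.1 ≤ a.1)
    (ψ : X.ring a.1 →+* Ω) (hψ : RingHom.ker ψ = a.2.asIdeal) :
    (mkHom X Ω ⟨a.1, ψ⟩).IsSchematic := by
  haveI : Subsingleton (RSpace.point Ω).pt := by
    show Subsingleton PUnit; infer_instance
  refine ⟨⟨fun p => ?_, fun p q h => ?_⟩, hX.1, fun n x x' hx y y' hy => ⟨?_, ?_⟩⟩
  · show IsNoetherianRing Ω; infer_instance
  · show (RingHom.id Ω).Flat; exact RingHom.Flat.id Ω
  · -- source direction
    apply IsBCAlong.of_bijective_of_epi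
    · exact IsEpiHom.of_surjective _ (fun b => ⟨b, rfl⟩)
    · cases n with
      | zero =>
        exact resH_bijective_zero _ _ (fun q hq => ⟨le_of_eq (Subsingleton.elim _ _), hq.2⟩)
      | succ n =>
        haveI := H_subsingleton_succ (Coef.ofLE x ((mkHom X Ω ⟨a.1, ψ⟩).wedge x y)
          ((mkHom X Ω ⟨a.1, ψ⟩).wedge_subset_up x y)) (RSpace.point Ω).str n
        haveI := H_subsingleton_succ (Coef.ofLE x' ((mkHom X Ω ⟨a.1, ψ⟩).wedge x' y)
          ((mkHom X Ω ⟨a.1, ψ⟩).wedge_subset_up x' y)) (RSpace.point Ω).str n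
        exact bijective_of_subsingleton _
  · -- target direction
    cases n with
    | succ n =>
      haveI := H_subsingleton_succ (Coef.ofHom (mkHom X Ω ⟨a.1, ψ⟩) y
        ((mkHom X Ω ⟨a.1, ψ⟩).wedge x y) ((mkHom X Ω ⟨a.1, ψ⟩).wedge_subset_pre x y))
        (RSpace.point Ω).str n
      haveI := H_subsingleton_succ (Coef.ofHom (mkHom X Ω ⟨a.1, ψ⟩) y'
        ((mkHom X Ω ⟨a.1, ψ⟩).wedge x y') ((mkHom X Ω ⟨a.1, ψ⟩).wedge_subset_pre x y'))
        (RSpace.point Ω).str n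
      exact IsBCAlong.of_subsingleton_of_subsingleton _ _
    | zero =>
      by_cases hy' : y' ≤ a.1
      · apply IsBCAlong.of_bijective_of_epi _ _ (res_isEpiHom X hX hy)
        exact resH_bijective_zero _ _ (fun q hq => ⟨hq.1, hy'⟩)
      · haveI : Subsingleton (H (Coef.ofHom (mkHom X Ω ⟨a.1, ψ⟩) y'
            ((mkHom X Ω ⟨a.1, ψ⟩).wedge x y') ((mkHom X Ω ⟨a.1, ψ⟩).wedge_subset_pre x y'))
            (RSpace.point Ω).str 0) :=
          H0_subsingleton_of_isEmpty _ _ ⟨fun q => hy' q.2.2⟩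
        apply IsBCAlong.of_subsingleton
        by_cases hya : y ≤ a.1
        · letI : Algebra (X.ring y) (X.ring y') := (X.res hy).toAlgebra
          letI : Algebra (X.ring y) Ω := (ψ.comp (X.res hya)).toAlgebra
          haveI : Subsingleton (X.ring y' ⊗[X.ring y] Ω) :=
            tensor_subsingleton_of_max hX hff a ha hy hya hy' ψ hψ
          have hxU : x ∈ (mkHom X Ω ⟨a.1, ψ⟩).wedge x y := ⟨le_rfl, hya⟩
          let e : H (Coef.ofHom (mkHom X Ω ⟨a.1, ψ⟩) y
              ((mkHom X Ω ⟨a.1, ψ⟩).wedge x y) ((mkHom X Ω ⟨a.1, ψ⟩).wedge_subset_pre x y))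
              (RSpace.point Ω).str 0 →ₗ[X.ring y] Ω :=
            { toFun := eval _ (RSpace.point Ω).str ⟨x, hxU⟩
              map_add' := eval_add _ _ _
              map_smul' := fun r m => by
                rw [eval_smul]
                rfl }
          have he : Function.Bijective e :=
            eval_bijective_of_min _ (RSpace.point Ω).str ⟨x, hxU⟩
              (fun q => le_of_eq (Subsingleton.elim _ _))
          exact (TensorProduct.congr (LinearEquiv.refl (X.ring y) (X.ring y'))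
            (LinearEquiv.ofBijective e he)).toEquiv.subsingleton
        · haveI : Subsingleton (H (Coef.ofHom (mkHom X Ω ⟨a.1, ψ⟩) y
              ((mkHom X Ω ⟨a.1, ψ⟩).wedge x y) ((mkHom X Ω ⟨a.1, ψ⟩).wedge_subset_pre x y))
              (RSpace.point Ω).str 0) :=
            H0_subsingleton_of_isEmpty _ _ ⟨fun q => hya q.2.2⟩
          letI : Algebra (X.ring y) (X.ring y') := (X.res hy).toAlgebra
          infer_instance

theorem geomPt_existsUnique (X : RSpace.{u}) (hX : X.IsSchematic)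
    (hff : ∀ s a b : X.pt, s ≤ a → s ≤ b → (X.up a ∩ X.up b).Nonempty →
      Module.FaithfullyFlat (X.sectRing (X.up a ∩ X.up b))
        ((q : ↥(X.up a ∩ X.up b)) → X.ring q.1))
    (Ω : Type u) [Field Ω] [IsAlgClosed Ω] (a : X.Pair)
    (ha : ∀ b : X.Pair, X.PairRel a b → b.1 ≤ a.1) (φ : a.κ →+* Ω) :
    ∃! ξ : GeomPt X Ω, (⟨ξ.base, ξ.toField⟩ : Σ x : X.pt, (X.ring x →+* Ω)) =
      ⟨a.1, φ.comp (algebraMap (X.ring a.1) a.κ)⟩ := by
  have hψ : RingHom.ker (φ.comp (algebraMap (X.ring a.1) a.κ)) = a.2.asIdeal := by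
    rw [← RingHom.comap_ker, (RingHom.injective_iff_ker_eq_bot φ).1 φ.injective,
      ← RingHom.ker_eq_comap_bot, Ideal.ker_algebraMap_residueField]
  refine ⟨⟨mkHom X Ω ⟨a.1, φ.comp (algebraMap (X.ring a.1) a.κ)⟩,
    mkHom_isSchematic hX hff a ha _ hψ⟩, rfl, ?_⟩
  intro ξ' hξ'
  have h1 : ξ'.hom = mkHom X Ω ⟨a.1, φ.comp (algebraMap (X.ring a.1) a.κ)⟩ := by
    rw [hom_eq_mkHom X Ω ξ'.hom]
    exact congrArg (mkHom X Ω) hξ'
  cases ξ' with
  | mk hom hs =>
    dsimp only at h1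
    subst h1
    rfl

end Groth.Agent.H78.SF
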